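import Mathlib

/-! Element orders in a split extension of a module of prime exponent. -/

namespace Cfsg.Agent.Lib.SpectrumExt.Semidirect

variable {A X : Type*} [AddCommGroup A] [Group X]

/-- The action on the multiplicative copy of the module. -/
def autMul (ρ : X →* AddMonoid.End A) : X →* MulAut (Multiplicative A) where
  toFun x :=
    { toFun := fun a => Multiplicative.ofAdd (ρ x (Multiplicative.toAdd a))
      invFun := fun a => Multiplicative.ofAdd (ρ x⁻¹ (Multiplicative.toAdd a))
      left_inv := fun a => by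
        show Multiplicative.ofAdd ((ρ x⁻¹ * ρ x) (Multiplicative.toAdd a)) = a
        rw [← map_mul, inv_mul_cancel, map_one]; rfl
      right_inv := fun a => by
        show Multiplicative.ofAdd ((ρ x * ρ x⁻¹) (Multiplicative.toAdd a)) = a
        rw [← map_mul, mul_inv_cancel, map_one]; rfl
      map_mul' := fun a b => by
        show Multiplicative.ofAdd (ρ x (Multiplicative.toAdd a + Multiplicative.toAdd b)) = _
        rw [map_add]; rfl }
  map_one' := MulEquiv.ext fun a => by
    show Multiplicative.ofAdd (ρ 1 (Multiplicative.toAdd a)) = a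
    rw [map_one]; rfl
  map_mul' x y := MulEquiv.ext fun a => by
    show Multiplicative.ofAdd (ρ (x * y) (Multiplicative.toAdd a)) =
      Multiplicative.ofAdd (ρ x (ρ y (Multiplicative.toAdd a)))
    rw [map_mul]; rfl

/-- The split extension. -/
abbrev Ext (ρ : X →* AddMonoid.End A) := Multiplicative A ⋊[autMul ρ] X

/-- The norm of a vector under the powers of an element. -/
def norm (ρ : X →* AddMonoid.End A) (x : X) (n : ℕ) (a : A) : A :=
  ∑ i ∈ Finset.range n, ρ (x ^ i) a

theorem pow_left (ρ : X →* AddMonoid.End A) (a : A) (x : X) (n : ℕ) :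
    ((⟨Multiplicative.ofAdd a, x⟩ : Ext ρ) ^ n).left = Multiplicative.ofAdd (norm ρ x n a) ∧
      ((⟨Multiplicative.ofAdd a, x⟩ : Ext ρ) ^ n).right = x ^ n := by
  induction n with
  | zero => exact ⟨by simp [norm], by simp⟩
  | succ n ih =>
    constructor
    · rw [pow_succ, SemidirectProduct.mul_left, ih.1, ih.2]
      simp only [norm, Finset.sum_range_succ]
      rfl
    · rw [pow_succ, SemidirectProduct.mul_right, ih.2, pow_succ]

theorem fix_norm (ρ : X →* AddMonoid.End A) (a : A) (x : X) :
    ρ x (norm ρ x (orderOf x) a) = norm ρ x (orderOf x) a := by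
  simp only [norm, map_sum]
  have h1 : ∀ i, ρ x (ρ (x ^ i) a) = ρ (x ^ (i + 1)) a := fun i => by
    rw [pow_succ', map_mul]; rfl
  simp only [h1]
  have h2 := Finset.sum_range_succ' (fun i => ρ (x ^ i) a) (orderOf x)
  rw [Finset.sum_range_succ, pow_orderOf_eq_one, pow_zero] at h2
  exact (add_right_cancel h2).symm

variable [Finite A] [Finite X] (ρ : X →* AddMonoid.End A)

instance extFinite : Finite (Ext ρ) := Finite.of_equiv (Multiplicative A × X) SemidirectProduct.equivProd.symm

theorem orderOf_mk {l : ℕ} (hl : l.Prime) (hA : ∀ a : A, l • a = 0) (a : A) (x : X) :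
    (norm ρ x (orderOf x) a = 0 → orderOf (⟨Multiplicative.ofAdd a, x⟩ : Ext ρ) = orderOf x) ∧
    (norm ρ x (orderOf x) a ≠ 0 → orderOf (⟨Multiplicative.ofAdd a, x⟩ : Ext ρ) = orderOf x * l) := by
  set g : Ext ρ := ⟨Multiplicative.ofAdd a, x⟩ with hgdef
  have hdvd : orderOf x ∣ orderOf g := orderOf_map_dvd SemidirectProduct.rightHom g
  have hpow : g ^ orderOf x = SemidirectProduct.inl (Multiplicative.ofAdd (norm ρ x (orderOf x) a)) := by
    obtain ⟨h1, h2⟩ := pow_left ρ a x (orderOf x)
    refine SemidirectProduct.ext ?_ ?_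
    · rw [h1]; rfl
    · rw [h2, pow_orderOf_eq_one]; rfl
  have hpl : g ^ (orderOf x * l) = 1 := by
    rw [pow_mul, hpow, ← map_pow, ← ofAdd_nsmul, hA, ofAdd_zero, map_one]
  obtain ⟨k, hk⟩ := hdvd
  have hkl : k ∣ l := Nat.dvd_of_mul_dvd_mul_left (orderOf_pos x) (hk ▸ orderOf_dvd_of_pow_eq_one hpl)
  constructor
  · intro h0
    refine Nat.dvd_antisymm (orderOf_dvd_of_pow_eq_one ?_) ⟨k, hk⟩
    rw [hpow, h0, ofAdd_zero, map_one]
  · intro h0
    rcases hl.eq_one_or_self_of_dvd k hkl with h | h
    · exfalso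
      apply h0
      have h1 : g ^ orderOf x = 1 := by rw [← mul_one (orderOf x), ← h, ← hk, pow_orderOf_eq_one]
      rw [hpow] at h1
      have h2 := SemidirectProduct.inl_injective (h1.trans (map_one (SemidirectProduct.inl : Multiplicative A →* Ext ρ)).symm)
      exact congrArg Multiplicative.toAdd h2
    · rw [hk, h]

/-- The spectrum of the extension. -/
theorem mem_range_orderOf {l : ℕ} (hl : l.Prime) (hA : ∀ a : A, l • a = 0) (m : ℕ) :
    m ∈ Set.range (orderOf : Ext ρ → ℕ) ↔ m ∈ Set.range (orderOf : X → ℕ) ∨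
      ∃ x a, norm ρ x (orderOf x) a ≠ 0 ∧ m = orderOf x * l := by
  constructor
  · rintro ⟨⟨a, x⟩, rfl⟩
    obtain ⟨h1, h2⟩ := orderOf_mk ρ hl hA (Multiplicative.toAdd a) x
    by_cases h : norm ρ x (orderOf x) (Multiplicative.toAdd a) = 0
    · exact Or.inl ⟨x, (h1 h).symm⟩
    · exact Or.inr ⟨x, _, h, h2 h⟩
  · rintro (⟨x, rfl⟩ | ⟨x, a, h, rfl⟩)
    · exact ⟨SemidirectProduct.inr x, orderOf_injective SemidirectProduct.inr SemidirectProduct.inr_injective x⟩
    · exact ⟨_, (orderOf_mk ρ hl hA a x).2 h⟩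

theorem norm_one (a : A) : norm ρ 1 (orderOf (1 : X)) a = a := by
  simp [norm]

/-- An element acting without fixed vectors has norm zero. -/
theorem norm_eq_zero_of_fpf {x : X} (hx : ∀ a, ρ x a = a → a = 0) (a : A) :
    norm ρ x (orderOf x) a = 0 :=
  hx _ (fix_norm ρ a x)

/-- The spectrum in the fixed-point-free case. -/
theorem range_orderOf_of_fpf [Nontrivial A] {l : ℕ} (hl : l.Prime) (hA : ∀ a : A, l • a = 0)
    (hfpf : ∀ x : X, x ≠ 1 → ∀ a, ρ x a = a → a = 0) :
    Set.range (orderOf : Ext ρ → ℕ) = Set.range (orderOf : X → ℕ) ∪ {l} := by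
  ext m
  rw [mem_range_orderOf ρ hl hA, Set.mem_union, Set.mem_singleton_iff]
  refine or_congr Iff.rfl ⟨?_, fun h => ?_⟩
  · rintro ⟨x, a, h, rfl⟩
    by_cases hx : x = 1
    · rw [hx, orderOf_one, one_mul]
    · exact absurd (norm_eq_zero_of_fpf ρ (hfpf x hx) a) h
  · obtain ⟨a, ha⟩ := exists_ne (0 : A)
    exact ⟨1, a, by rwa [norm_one], by rw [h, orderOf_one, one_mul]⟩

/-- The kernel of the extension. -/
theorem inl_range_facts [Nontrivial A] :
    ((SemidirectProduct.inl : Multiplicative A →* Ext ρ).range).Normal ∧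
      (SemidirectProduct.inl : Multiplicative A →* Ext ρ).range ≠ ⊥ ∧
      Group.IsSolvable (SemidirectProduct.inl : Multiplicative A →* Ext ρ).range := by
  refine ⟨?_, ?_, ?_⟩
  · rw [SemidirectProduct.range_inl_eq_ker_rightHom]; infer_instance
  · intro h
    obtain ⟨a, ha⟩ := exists_ne (0 : A)
    have hm : (SemidirectProduct.inl (Multiplicative.ofAdd a) : Ext ρ) ∈
        (SemidirectProduct.inl : Multiplicative A →* Ext ρ).range := ⟨_, rfl⟩
    rw [h, Subgroup.mem_bot] at hm
    have h2 := SemidirectProduct.inl_injective (hm.trans (map_one (SemidirectProduct.inl : Multiplicative A →* Ext ρ)).symm)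
    exact ha (congrArg Multiplicative.toAdd h2)
  · refine Group.isSolvable_of_comm ?_
    rintro ⟨_, a, rfl⟩ ⟨_, b, rfl⟩
    apply Subtype.ext
    show SemidirectProduct.inl a * SemidirectProduct.inl b = (SemidirectProduct.inl b * SemidirectProduct.inl a : Ext ρ)
    rw [← map_mul, ← map_mul, mul_comm]

omit [Finite A] [Finite X] in
/-- A split extension of an abelian group by a solvable group is solvable. -/
theorem isSolvable [Group.IsSolvable X] : Group.IsSolvable (Ext ρ) :=
  solvable_of_ker_le_range (SemidirectProduct.inl : Multiplicative A →* Ext ρ)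
    (SemidirectProduct.rightHom : Ext ρ →* X) (le_of_eq SemidirectProduct.range_inl_eq_ker_rightHom.symm)

end Cfsg.Agent.Lib.SpectrumExt.Semidirect
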