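import Mathlib
import Cfsg.Agent.Lib.AltOrders.Basic

/-! Element orders of the affine group `F² ⋊ SL(2,F)` for the field with four elements. -/

namespace Cfsg.Agent.Lib.SpectrumExt.AffineSLTwo

open Matrix

variable {F : Type*} [Field F] [Fintype F]

/-- Matrices with last row `(0, 0, 1)`. -/
def affSet (F : Type*) [Field F] : Set (SpecialLinearGroup (Fin 3) F) :=
  {M | (M : Matrix (Fin 3) (Fin 3) F) 2 0 = 0 ∧ (M : Matrix (Fin 3) (Fin 3) F) 2 1 = 0 ∧
    (M : Matrix (Fin 3) (Fin 3) F) 2 2 = 1}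

theorem mem_affSet_iff (M : SpecialLinearGroup (Fin 3) F) :
    M ∈ affSet F ↔ ∀ j, (M : Matrix (Fin 3) (Fin 3) F) 2 j = (1 : Matrix (Fin 3) (Fin 3) F) 2 j := by
  constructor
  · rintro ⟨h0, h1, h2⟩ j
    fin_cases j
    exacts [h0.trans (one_apply_ne (by decide)).symm, h1.trans (one_apply_ne (by decide)).symm,
      h2.trans (one_apply_eq (2 : Fin 3)).symm]
  · intro h
    exact ⟨by simpa using h 0, by simpa using h 1, by simpa using h 2⟩

/-- The affine group. -/
def aff (F : Type*) [Field F] [Fintype F] : Subgroup (SpecialLinearGroup (Fin 3) F) where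
  carrier := affSet F
  one_mem' := by rw [mem_affSet_iff]; intro j; rfl
  mul_mem' {a b} ha hb := by
    rw [mem_affSet_iff] at ha hb ⊢
    intro j
    show (a.1 * b.1) 2 j = _
    rw [mul_apply]
    simp only [ha]
    rw [← mul_apply, one_mul, hb]
  inv_mem' {a} ha := by
    rw [mem_affSet_iff] at ha ⊢
    intro j
    have h : ((a * a⁻¹ : SpecialLinearGroup (Fin 3) F) : Matrix (Fin 3) (Fin 3) F) 2 j =
        (1 : Matrix (Fin 3) (Fin 3) F) 2 j := by rw [mul_inv_cancel]; rfl
    change (a.1 * (a⁻¹).1) 2 j = _ at h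
    rw [mul_apply] at h
    simp only [ha] at h
    rwa [← mul_apply, one_mul] at h

theorem closure_eq : Subgroup.closure (affSet F) = aff F :=
  (aff F).closure_eq

theorem two_eq_zero (hF : Fintype.card F = 4) : (2 : F) = 0 := by
  have h : ((Fintype.card F : ℕ) : F) = 0 := Nat.cast_card_eq_zero F
  rw [hF] at h
  have h' : (2 : F) * 2 = 0 := by
    rw [← h]; norm_num
  exact (mul_eq_zero.1 h').elim id id

theorem cases_field (hF : Fintype.card F = 4) (t : F) : t = 0 ∨ t = 1 ∨ t ^ 2 + t + 1 = 0 := by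
  have h := FiniteField.pow_card t
  rw [hF] at h
  have h' : t * ((t - 1) * (t ^ 2 + t + 1)) = 0 := by linear_combination h
  rcases mul_eq_zero.1 h' with h1 | h1
  · exact Or.inl h1
  · rcases mul_eq_zero.1 h1 with h2 | h2
    · exact Or.inr (Or.inl (sub_eq_zero.1 h2))
    · exact Or.inr (Or.inr h2)

theorem exists_omega (hF : Fintype.card F = 4) : ∃ w : F, w ^ 2 + w + 1 = 0 := by
  classical
  obtain ⟨w, -, hw⟩ := Finset.exists_mem_notMem_of_card_lt_card
    (t := (Finset.univ : Finset F)) (s := ({0, 1} : Finset F))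
    (lt_of_le_of_lt Finset.card_le_two (by rw [Finset.card_univ, hF]; norm_num))
  rcases cases_field hF w with h | h | h
  · simp [h] at hw
  · simp [h] at hw
  · exact ⟨w, h⟩

theorem cubic (M : Matrix (Fin 3) (Fin 3) F) (h0 : M 2 0 = 0) (h1 : M 2 1 = 0) (h2 : M 2 2 = 1)
    (hd : M 0 0 * M 1 1 - M 0 1 * M 1 0 = 1) :
    M * M * M - (M 0 0 + M 1 1 + 1) • (M * M) + (M 0 0 + M 1 1 + 1) • M - 1 = 0 := by
  ext i j
  fin_cases i <;> fin_cases j <;>
    simp [Matrix.mul_apply, Fin.sum_univ_three, h0, h1, h2, Matrix.one_apply]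
  all_goals grind

theorem pow_cases (hF : Fintype.card F = 4) {M : SpecialLinearGroup (Fin 3) F} (hM : M ∈ affSet F) :
    M ^ 4 = 1 ∨ M ^ 3 = 1 ∨ M ^ 5 = 1 := by
  obtain ⟨h0, h1, h2⟩ := hM
  have hd : (M : Matrix (Fin 3) (Fin 3) F) 0 0 * (M : Matrix (Fin 3) (Fin 3) F) 1 1 -
      (M : Matrix (Fin 3) (Fin 3) F) 0 1 * (M : Matrix (Fin 3) (Fin 3) F) 1 0 = 1 := by
    have h := M.det_coe
    rw [det_fin_three, h0, h1, h2] at h
    linear_combination h
  have hc := cubic _ h0 h1 h2 hd
  set A := (M : Matrix (Fin 3) (Fin 3) F)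
  set t := A 0 0 + A 1 1
  have htwo := two_eq_zero hF
  have hpow : ∀ n, (M ^ n = 1 ↔ A ^ n = 1) := fun n =>
    ⟨fun h => (Matrix.SpecialLinearGroup.coe_pow M n).symm.trans (congrArg Subtype.val h),
      fun h => Subtype.ext ((Matrix.SpecialLinearGroup.coe_pow M n).trans h)⟩
  have hA3 : A ^ 3 = (t + 1) • A ^ 2 - (t + 1) • A + 1 := by
    rw [pow_three', pow_two]
    rw [← sub_eq_zero, ← hc]; abel
  have hA4 : A ^ 4 = ((t + 1) ^ 2 - (t + 1)) • A ^ 2 + (1 - (t + 1) ^ 2) • A + (t + 1) • 1 := by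
    rw [pow_succ, hA3, add_mul, sub_mul, smul_mul_assoc, smul_mul_assoc, ← pow_succ, ← pow_two, one_mul, hA3]
    module
  have hA5 : A ^ 5 = (((t + 1) ^ 2 - (t + 1)) * (t + 1) + (1 - (t + 1) ^ 2)) • A ^ 2 +
      ((t + 1) - ((t + 1) ^ 2 - (t + 1)) * (t + 1)) • A + ((t + 1) ^ 2 - (t + 1)) • 1 := by
    rw [pow_succ, hA4, add_mul, add_mul, smul_mul_assoc, smul_mul_assoc, smul_mul_assoc, ← pow_succ, ← pow_two,
      one_mul, hA3]
    module
  simp only [hpow]
  rcases cases_field hF t with ht | ht | ht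
  · left
    rw [hA4, ht, show ((0 : F) + 1) ^ 2 - (0 + 1) = 0 by ring, show (1 : F) - (0 + 1) ^ 2 = 0 by ring]
    simp
  · right; left
    rw [hA3, ht, show (1 : F) + 1 = 0 by linear_combination htwo]
    simp
  · right; right
    rw [hA5, show ((t + 1) ^ 2 - (t + 1)) = 1 by linear_combination ht - htwo,
      show (1 : F) * (t + 1) + (1 - (t + 1) ^ 2) = 0 by linear_combination -ht + htwo,
      show (t + 1) - 1 * (t + 1) = 0 by ring]
    simp

/-- An element of the affine group from its top two rows. -/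
def mk (a b c d e f : F) (h : a * d - b * c = 1) : aff F :=
  ⟨⟨!![a, b, e; c, d, f; 0, 0, 1], by rw [det_fin_three]; simp; linear_combination h⟩,
    ⟨by simp, by simp, by simp⟩⟩

theorem coe_mk (a b c d e f : F) (h : a * d - b * c = 1) :
    (((mk a b c d e f h : aff F) : SpecialLinearGroup (Fin 3) F) : Matrix (Fin 3) (Fin 3) F) =
      !![a, b, e; c, d, f; 0, 0, 1] := rfl

theorem range_orderOf (hF : Fintype.card F = 4) :
    Set.range (orderOf : aff F → ℕ) = {1, 2, 3, 4, 5} := by
  have htwo := two_eq_zero hF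
  have hkey : ∀ (x : aff F) (n : ℕ), x ^ n = 1 ↔
      ((x : SpecialLinearGroup (Fin 3) F) : Matrix (Fin 3) (Fin 3) F) ^ n = 1 := fun x n =>
    ⟨fun h => ((Matrix.SpecialLinearGroup.coe_pow x.1 n).symm.trans
        (congrArg Subtype.val ((SubgroupClass.coe_pow x n).symm.trans (congrArg Subtype.val h)))),
      fun h => Subtype.ext ((SubgroupClass.coe_pow x n).trans
        (Subtype.ext ((Matrix.SpecialLinearGroup.coe_pow x.1 n).trans h)))⟩
  ext m
  simp only [Set.mem_range, Set.mem_insert_iff, Set.mem_singleton_iff]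
  constructor
  · rintro ⟨x, rfl⟩
    have hp : ∀ n, (x : SpecialLinearGroup (Fin 3) F) ^ n = 1 → orderOf x ∣ n := fun n h =>
      orderOf_dvd_of_pow_eq_one (Subtype.ext (by simpa using h))
    rcases pow_cases hF x.2 with h | h | h
    · have hd := hp _ h
      have := Nat.le_of_dvd (by norm_num) hd
      interval_cases hm : orderOf x <;> simp_all
    · have hd := hp _ h
      have := Nat.le_of_dvd (by norm_num) hd
      interval_cases hm : orderOf x <;> simp_all
    · have hd := hp _ h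
      have := Nat.le_of_dvd (by norm_num) hd
      interval_cases hm : orderOf x <;> simp_all
  · let u := mk (1 : F) 1 0 1 0 1 (by ring)
    have hu2 : (((u : SpecialLinearGroup (Fin 3) F) : Matrix (Fin 3) (Fin 3) F)) ^ 2 =
        !![1, 0, 1; 0, 1, 0; 0, 0, 1] := by
      rw [pow_two, coe_mk]
      ext i j
      fin_cases i <;> fin_cases j <;> simp [Matrix.mul_apply, Fin.sum_univ_three] <;> linear_combination htwo
    have hu4 : u ^ 2 ^ 2 = 1 := by
      rw [hkey, show (2 : ℕ) ^ 2 = 2 * 2 by norm_num, pow_mul, hu2, pow_two]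
      ext i j
      fin_cases i <;> fin_cases j <;> simp [Matrix.mul_apply, Fin.sum_univ_three] <;> linear_combination htwo
    have hu : ¬ u ^ 2 ^ 1 = 1 := by
      rw [hkey, pow_one, hu2]
      intro h
      simpa using congrFun (congrFun h 0) 2
    have o4 : orderOf u = 4 := orderOf_eq_prime_pow (p := 2) (n := 1) hu hu4
    rintro (rfl | rfl | rfl | rfl | rfl)
    · exact ⟨1, orderOf_one⟩
    · exact ⟨u ^ 2, by rw [orderOf_pow, o4]; norm_num⟩
    · haveI : Fact (Nat.Prime 3) := ⟨by norm_num⟩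
      refine ⟨mk (0 : F) 1 1 1 0 0 (by linear_combination -htwo), orderOf_eq_prime ?_ ?_⟩
      · rw [hkey, pow_three, coe_mk]
        ext i j
        fin_cases i <;> fin_cases j <;> simp [Matrix.mul_apply, Fin.sum_univ_three] <;> grind
      · intro h
        have h' := congrArg (fun y : aff F => (((y : SpecialLinearGroup (Fin 3) F)) : Matrix (Fin 3) (Fin 3) F) 0 0) h
        simp [coe_mk] at h'
    · exact ⟨u, o4⟩
    · haveI : Fact (Nat.Prime 5) := ⟨by norm_num⟩
      obtain ⟨w, hw⟩ := exists_omega hF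
      have hd : (0 : F) * w - 1 * 1 = 1 := by linear_combination -htwo
      refine ⟨mk (0 : F) 1 1 w 0 0 hd, orderOf_eq_prime ?_ ?_⟩
      · rw [hkey, show (5 : ℕ) = 2 + 3 by norm_num, pow_add, pow_two, pow_three, coe_mk]
        ext i j
        fin_cases i <;> fin_cases j <;> simp [Matrix.mul_apply, Fin.sum_univ_three] <;> grind
      · intro h
        have h' := congrArg (fun y : aff F => (((y : SpecialLinearGroup (Fin 3) F)) : Matrix (Fin 3) (Fin 3) F) 0 0) h
        simp [coe_mk] at h'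

open Cfsg.Agent.Lib.AltOrders in
theorem range_orderOf_alt_six :
    Set.range (orderOf : alternatingGroup (Fin 6) → ℕ) = {1, 2, 3, 4, 5} := by
  have key : (((reach 6 6).filter fun p => p.2 = false).image Prod.fst) ⊆
      ({1, 2, 3, 4, 5} : Finset ℕ) := by decide +kernel
  ext m
  rw [mem_range_orderOf_alt_iff, Fintype.card_fin]
  constructor
  · rintro ⟨s, h2, hsum, hev, rfl⟩
    have hm := mem_reach 6 6 s h2 hsum le_rfl
    have hd : decide ((s.sum + Multiset.card s) % 2 = 1) = false := by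
      rw [decide_eq_false_iff_not, Nat.even_iff.1 hev]; decide
    rw [hd] at hm
    have := key (Finset.mem_image.2 ⟨_, Finset.mem_filter.2 ⟨hm, rfl⟩, rfl⟩)
    simpa using this
  · simp only [Set.mem_insert_iff, Set.mem_singleton_iff]
    rintro (rfl | rfl | rfl | rfl | rfl)
    · exact ⟨0, by decide⟩
    · exact ⟨{2, 2}, by decide⟩
    · exact ⟨{3}, by decide⟩
    · exact ⟨{4, 2}, by decide⟩
    · exact ⟨{5}, by decide⟩

end Cfsg.Agent.Lib.SpectrumExt.AffineSLTwo
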