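import Mathlib
import Cfsg.Agent.Lib.SpectrumExt.Semidirect
import Cfsg.Agent.Lib.Induced.Burnside

/-! The binary octahedral group acting without fixed vectors on a module of exponent 13. -/

namespace Cfsg.Agent.Lib.SpectrumExt.BinaryOct

open Matrix
open Cfsg.Agent.Lib.SpectrumExt.Semidirect

/-- The matrices. -/
abbrev M4 := Matrix (Fin 4) (Fin 4) (ZMod 13)

/-- The entries of the elements. -/
def tab : List (List (ZMod 13)) :=
  [[1,0,0,0,0,1,0,0,0,0,1,0,0,0,0,1],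
   [0,6,0,0,3,0,0,0,0,0,0,9,0,0,11,0],
   [2,0,3,0,0,2,0,3,2,0,10,0,0,2,0,10],
   [0,9,0,0,11,0,0,0,0,0,0,6,0,0,3,0],
   [10,0,10,0,0,10,0,10,11,0,2,0,0,11,0,2],
   [5,0,0,0,0,5,0,0,0,0,8,0,0,0,0,8],
   [0,12,0,5,6,0,9,0,0,5,0,12,9,0,6,0],
   [0,8,0,8,4,0,4,0,0,8,0,5,4,0,9,0],
   [0,12,0,1,6,0,7,0,0,12,0,12,6,0,6,0],
   [0,5,0,5,9,0,9,0,0,5,0,8,9,0,4,0],
   [0,5,0,1,9,0,7,0,0,12,0,8,6,0,4,0],
   [8,0,0,0,0,8,0,0,0,0,5,0,0,0,0,5],
   [0,12,0,12,6,0,6,0,0,1,0,12,7,0,6,0],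
   [0,8,0,12,4,0,6,0,0,1,0,5,7,0,9,0],
   [0,12,0,8,6,0,4,0,0,8,0,12,4,0,6,0],
   [0,4,0,0,2,0,0,0,0,0,0,7,0,0,10,0],
   [10,0,2,0,0,10,0,2,3,0,2,0,0,3,0,2],
   [11,0,11,0,0,11,0,11,10,0,3,0,0,10,0,3],
   [10,0,3,0,0,10,0,3,2,0,2,0,0,2,0,2],
   [2,0,2,0,0,2,0,2,3,0,10,0,0,3,0,10],
   [11,0,10,0,0,11,0,10,11,0,3,0,0,11,0,3],
   [10,0,11,0,0,10,0,11,10,0,2,0,0,10,0,2],
   [0,0,0,7,0,0,10,0,0,9,0,0,11,0,0,0],
   [0,1,0,5,7,0,9,0,0,5,0,1,9,0,7,0],
   [0,7,0,0,10,0,0,0,0,0,0,4,0,0,2,0],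
   [3,0,2,0,0,3,0,2,3,0,11,0,0,3,0,11],
   [0,1,0,8,7,0,4,0,0,8,0,1,4,0,7,0],
   [2,0,11,0,0,2,0,11,10,0,10,0,0,10,0,10],
   [3,0,3,0,0,3,0,3,2,0,11,0,0,2,0,11],
   [3,0,11,0,0,3,0,11,10,0,11,0,0,10,0,11],
   [2,0,10,0,0,2,0,10,11,0,10,0,0,11,0,10],
   [11,0,2,0,0,11,0,2,3,0,3,0,0,3,0,3],
   [0,1,0,1,7,0,7,0,0,12,0,1,6,0,7,0],
   [0,1,0,12,7,0,6,0,0,1,0,1,7,0,7,0],
   [0,0,0,6,0,0,3,0,0,4,0,0,2,0,0,0],
   [12,0,0,0,0,12,0,0,0,0,12,0,0,0,0,12],
   [0,8,0,5,4,0,9,0,0,5,0,5,9,0,9,0],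
   [0,8,0,1,4,0,7,0,0,12,0,5,6,0,9,0],
   [0,0,8,0,0,0,0,8,8,0,0,0,0,8,0,0],
   [0,5,0,12,9,0,6,0,0,1,0,8,7,0,4,0],
   [3,0,10,0,0,3,0,10,11,0,11,0,0,11,0,11],
   [0,0,5,0,0,0,0,5,5,0,0,0,0,5,0,0],
   [0,0,12,0,0,0,0,12,1,0,0,0,0,1,0,0],
   [11,0,3,0,0,11,0,3,2,0,3,0,0,2,0,3],
   [0,5,0,8,9,0,4,0,0,8,0,8,4,0,4,0],
   [0,0,1,0,0,0,0,1,12,0,0,0,0,12,0,0],
   [0,0,0,9,0,0,11,0,0,7,0,0,10,0,0,0],
   [0,0,0,4,0,0,2,0,0,6,0,0,3,0,0,0]]

/-- The right multiplication table by the generators. -/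
def mtab : List (List (Fin 48)) :=
  [[1,2,3,4],
   [5,6,0,7],
   [8,4,9,0],
   [0,10,11,12],
   [13,0,14,2],
   [15,16,1,17],
   [18,7,19,1],
   [20,1,21,6],
   [21,22,2,23],
   [2,24,25,26],
   [27,12,28,3],
   [3,29,24,19],
   [16,3,30,10],
   [31,32,4,15],
   [4,33,27,34],
   [35,13,5,32],
   [36,17,12,5],
   [26,5,37,16],
   [37,38,6,25],
   [6,11,39,29],
   [33,28,7,35],
   [7,40,8,41],
   [42,23,38,8],
   [28,8,31,22],
   [11,26,35,9],
   [9,18,33,38],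
   [40,9,17,24],
   [14,42,10,43],
   [10,35,23,20],
   [44,19,32,11],
   [12,31,44,45],
   [23,45,13,30],
   [29,15,43,13],
   [25,34,20,14],
   [45,14,41,33],
   [24,20,15,28],
   [43,46,16,39],
   [17,44,18,47],
   [22,25,46,18],
   [19,36,40,46],
   [39,41,26,21],
   [34,21,47,40],
   [47,43,22,27],
   [32,27,36,42],
   [30,47,29,37],
   [46,30,34,31],
   [38,39,45,36],
   [41,37,42,44]]

/-- The elements. -/
def T (i : Fin 48) : M4 :=
  Matrix.of fun r c => (tab.getD i.val []).getD (4 * r.val + c.val) 0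

/-- The product with a generator. -/
def M (i : Fin 48) (g : Fin 4) : Fin 48 := (mtab.getD i.val []).getD g.val 0

theorem T_zero : T 0 = 1 := by decide +kernel

theorem T_mul : ∀ i : Fin 48, ∀ g : Fin 4, T i * T ⟨g.val + 1, by omega⟩ = T (M i g) := by
  decide +kernel

theorem T_inv : T 1 * T 3 = 1 ∧ T 3 * T 1 = 1 ∧ T 2 * T 4 = 1 ∧ T 4 * T 2 = 1 := by decide +kernel

theorem T_pow : ∀ i : Fin 48, T i ^ 8 = 1 ∨ T i ^ 6 = 1 := by decide +kernel

theorem T_fpf : ∀ i : Fin 48, i ≠ 0 →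
    T i = -1 ∨ T i ^ 2 = -1 ∨ T i ^ 3 = -1 ∨ T i ^ 4 = -1 ∨ 1 + T i + T i ^ 2 = 0 := by
  decide +kernel

/-- The first generator. -/
def ug : M4ˣ := ⟨T 1, T 3, T_inv.1, T_inv.2.1⟩

/-- The second generator. -/
def uw : M4ˣ := ⟨T 2, T 4, T_inv.2.2.1, T_inv.2.2.2⟩

/-- The binary octahedral group. -/
def X : Subgroup M4ˣ := Subgroup.closure {ug, uw}

theorem exists_idx (x : X) : ∃ i, ((x : M4ˣ) : M4) = T i := by
  have key : ∀ y : M4ˣ, y ∈ X → ∃ i, (y : M4) = T i := by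
    intro y hy
    induction hy using Subgroup.closure_induction_right with
    | one => exact ⟨0, T_zero.symm⟩
    | mul_right x _ y hy ih =>
      obtain ⟨i, hi⟩ := ih
      rcases hy with rfl | rfl
      · exact ⟨M i 0, by rw [Units.val_mul, hi]; exact T_mul i 0⟩
      · exact ⟨M i 1, by rw [Units.val_mul, hi]; exact T_mul i 1⟩
    | mul_inv_cancel x _ y hy ih =>
      obtain ⟨i, hi⟩ := ih
      rcases hy with rfl | rfl
      · exact ⟨M i 2, by rw [Units.val_mul, hi]; exact T_mul i 2⟩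
      · exact ⟨M i 3, by rw [Units.val_mul, hi]; exact T_mul i 3⟩
  exact key x x.2

instance : Finite X := Subtype.finite

theorem pow_cases (x : X) : x ^ 8 = 1 ∨ x ^ 6 = 1 := by
  obtain ⟨i, hi⟩ := exists_idx x
  refine (T_pow i).imp (fun h => ?_) (fun h => ?_) <;>
    exact Subtype.ext (Units.ext (by simp [hi, h]))

theorem isSolvable_X : Group.IsSolvable X := by
  have hprime : ∀ q, q.Prime → q ∣ Nat.card X → q = 2 ∨ q = 3 := by
    intro q hq hd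
    haveI : Fact q.Prime := ⟨hq⟩
    obtain ⟨x, hx⟩ := exists_prime_orderOf_dvd_card' q hd
    have h24 : orderOf x ∣ 24 := by
      rcases pow_cases x with h | h <;>
        exact (orderOf_dvd_of_pow_eq_one h).trans (by norm_num)
    rw [hx] at h24
    have := Nat.le_of_dvd (by norm_num) h24
    interval_cases q <;> first | omega | exact absurd hq (by norm_num) | exact absurd h24 (by norm_num)
  obtain ⟨a, m, hm, hc⟩ := Nat.exists_eq_two_pow_mul_odd (n := Nat.card X) Nat.card_pos.ne'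
  have hm3 : m = 3 ^ m.primeFactorsList.length :=
    Nat.eq_prime_pow_of_unique_prime_dvd (Nat.pos_iff_ne_zero.1 hm.pos) fun {d} hd hdm =>
      (hprime d hd (hc ▸ hdm.mul_left _)).resolve_left fun e => by
        subst e
        exact (Nat.not_even_iff_odd.2 hm) (even_iff_two_dvd.2 hdm)
  exact Cfsg.Agent.Lib.Induced.Burnside.isSolvable_of_card_eq 2 3 a m.primeFactorsList.length
    Nat.prime_two Nat.prime_three (by rw [hc, ← hm3])

/-- The action. -/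
def rho : X →* AddMonoid.End (Fin 4 → ZMod 13) where
  toFun x :=
    { toFun := fun v => ((x : M4ˣ) : M4) *ᵥ v
      map_zero' := Matrix.mulVec_zero _
      map_add' := Matrix.mulVec_add _ }
  map_one' := AddMonoidHom.ext fun v => Matrix.one_mulVec v
  map_mul' x y := AddMonoidHom.ext fun v => (Matrix.mulVec_mulVec v _ _).symm

theorem fpf (x : X) (hx : x ≠ 1) (v : Fin 4 → ZMod 13) (hv : rho x v = v) : v = 0 := by
  obtain ⟨i, hi⟩ := exists_idx x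
  have hi0 : i ≠ 0 := by
    rintro rfl
    exact hx (Subtype.ext (Units.ext (hi.trans T_zero)))
  change ((x : M4ˣ) : M4) *ᵥ v = v at hv
  rw [hi] at hv
  have hp : ∀ n, T i ^ n *ᵥ v = v := by
    intro n
    induction n with
    | zero => rw [pow_zero, Matrix.one_mulVec]
    | succ n ih => rw [pow_succ, ← Matrix.mulVec_mulVec, hv, ih]
  have h2 : ∀ t : ZMod 13, -t = t → t = 0 := by decide
  have hneg : ∀ n, T i ^ n = -1 → v = 0 := by
    intro n hn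
    have h := hp n
    rw [hn, Matrix.neg_mulVec, Matrix.one_mulVec] at h
    exact funext fun j => h2 _ (congrFun h j)
  rcases T_fpf i hi0 with h | h | h | h | h
  · exact hneg 1 (by rw [pow_one, h])
  · exact hneg _ h
  · exact hneg _ h
  · exact hneg _ h
  · have h' := congrArg (fun A : M4 => A *ᵥ v) h
    simp only [Matrix.add_mulVec, Matrix.one_mulVec, hv, hp, Matrix.zero_mulVec] at h'
    exact funext fun j => (show ∀ t : ZMod 13, t + t + t = 0 → t = 0 by decide) _ (congrFun h' j)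

theorem range_orderOf_X : Set.range (orderOf : X → ℕ) = {m | m ∣ 8 ∨ m ∣ 6} := by
  ext m
  constructor
  · rintro ⟨x, rfl⟩
    exact (pow_cases x).imp orderOf_dvd_of_pow_eq_one orderOf_dvd_of_pow_eq_one
  · have hdiv : ∀ (y : X) (m : ℕ), m ∣ orderOf y → m ∈ Set.range (orderOf : X → ℕ) := fun y m hm =>
      let ⟨c, hc⟩ := hm
      ⟨y ^ c, by
        have hpos : 0 < orderOf y := orderOf_pos _
        have hc0 : 0 < c := Nat.pos_of_ne_zero fun h => by rw [h, mul_zero] at hc; omega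
        rw [orderOf_pow, hc, Nat.gcd_eq_right (Dvd.intro_left m rfl), Nat.mul_div_cancel _ hc0]⟩
    let g : X := ⟨ug, Subgroup.subset_closure (by simp)⟩
    let w : X := ⟨uw, Subgroup.subset_closure (by simp)⟩
    have hval : ∀ (y : X) (n : ℕ), y ^ n = 1 ↔ ((y : M4ˣ) : M4) ^ n = 1 := fun y n =>
      ⟨fun h => by simpa using congrArg (fun z : X => ((z : M4ˣ) : M4)) h,
        fun h => Subtype.ext (Units.ext (by simpa using h))⟩
    have hg : orderOf g = 8 := by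
      haveI : Fact (Nat.Prime 2) := ⟨Nat.prime_two⟩
      refine orderOf_eq_prime_pow (p := 2) (n := 2) ?_ ?_ <;> rw [hval]
      · show ¬ T 1 ^ (2 ^ 2) = 1
        decide +kernel
      · show T 1 ^ (2 ^ (2 + 1)) = 1
        decide +kernel
    have hw : orderOf (g ^ 4 * w) = 6 := by
      rw [orderOf_eq_iff (by norm_num)]
      refine ⟨?_, fun n hn h0 => ?_⟩
      · rw [hval]
        show (((g ^ 4 * w : X) : M4ˣ) : M4) ^ 6 = 1
        simp only [Subgroup.coe_mul, SubgroupClass.coe_pow, Units.val_mul, Units.val_pow_eq_pow_val]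
        show (T 1 ^ 4 * T 2) ^ 6 = 1
        decide +kernel
      · rw [Ne, hval]
        simp only [Subgroup.coe_mul, SubgroupClass.coe_pow, Units.val_mul, Units.val_pow_eq_pow_val]
        show ¬ (T 1 ^ 4 * T 2) ^ n = 1
        interval_cases n <;> decide +kernel
    rintro (h | h)
    · exact hdiv _ m (hg ▸ h)
    · exact hdiv _ m (hw ▸ h)

instance : Nontrivial (Fin 4 → ZMod 13) := ⟨⟨![1, 0, 0, 0], 0, by decide⟩⟩

theorem range_orderOf_ext :
    Set.range (orderOf : Ext rho → ℕ) = {m | m ∣ 8 ∨ m ∣ 6} ∪ {13} := by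
  rw [Semidirect.range_orderOf_of_fpf _ (l := 13) (by norm_num)
    (fun v => funext fun j => by
      show 13 • v j = 0
      rw [nsmul_eq_mul, show ((13 : ℕ) : ZMod 13) = 0 from ZMod.natCast_self 13, zero_mul]) fpf,
    range_orderOf_X]

end Cfsg.Agent.Lib.SpectrumExt.BinaryOct
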