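import Mathlib
import Cfsg.Agent.Lib.SpectrumExt.Semidirect
import Cfsg.Agent.Lib.RecogThree.PSL2Orders

/-! A module of `PSL₂(p)` on which the elements of order `p` act without fixed vectors. -/

namespace Cfsg.Agent.Lib.SpectrumExt.CuspModule

open Matrix
open Cfsg.Agent.Lib.RecogThree.PSL2Orders (toP toP_eq_one_iff toP_surjective)
open Cfsg.Agent.Lib.SpectrumExt.Semidirect

set_option linter.unusedSectionVars false

variable {p : ℕ} [hpf : Fact p.Prime]

local notation "Z" => ZMod p
local notation "SL" => Matrix.SpecialLinearGroup (Fin 2) (ZMod p)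
local notation "M2" => Matrix (Fin 2) (Fin 2) (ZMod p)
local notation "PSL" => Matrix.ProjectiveSpecialLinearGroup (Fin 2) (ZMod p)

/-- Functions whose sums along orbits of elements of order `p` vanish. -/
def cusp (p : ℕ) [Fact p.Prime] : AddSubgroup (Matrix.ProjectiveSpecialLinearGroup (Fin 2) (ZMod p) → ZMod 2) where
  carrier := {f | ∀ u a, orderOf u = p → ∑ i ∈ Finset.range p, f (u ^ i * a) = 0}
  zero_mem' := fun u a _ => by simp
  add_mem' {f g} hf hg := fun u a hu => by
    simp only [Pi.add_apply, Finset.sum_add_distrib, hf u a hu, hg u a hu, add_zero]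
  neg_mem' {f} hf := fun u a hu => by
    simp only [Pi.neg_apply, Finset.sum_neg_distrib, hf u a hu, neg_zero]

theorem translate_mem (x : PSL) {f : PSL → ZMod 2} (hf : f ∈ cusp p) :
    (fun a => f (x⁻¹ * a)) ∈ cusp p := by
  intro u a hu
  have h := hf (MulAut.conj x⁻¹ u) (x⁻¹ * a)
    ((orderOf_injective (MulAut.conj x⁻¹).toMonoidHom (MulAut.conj x⁻¹).injective u).trans hu)
  rw [← h]
  refine Finset.sum_congr rfl fun i _ => ?_
  rw [← map_pow, MulAut.conj_apply]
  congr 1
  group

/-- Left translation. -/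
def rho (p : ℕ) [Fact p.Prime] :
    Matrix.ProjectiveSpecialLinearGroup (Fin 2) (ZMod p) →* AddMonoid.End (cusp p) where
  toFun x :=
    { toFun := fun f => ⟨_, translate_mem x f.2⟩
      map_zero' := rfl
      map_add' := fun _ _ => rfl }
  map_one' := by
    refine AddMonoidHom.ext fun f => Subtype.ext (funext fun a => ?_)
    show (f : _ → ZMod 2) (1⁻¹ * a) = (f : _ → ZMod 2) a
    rw [inv_one, one_mul]
  map_mul' x y := by
    refine AddMonoidHom.ext fun f => Subtype.ext (funext fun a => ?_)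
    show (f : _ → ZMod 2) ((x * y)⁻¹ * a) = (f : _ → ZMod 2) (y⁻¹ * (x⁻¹ * a))
    rw [_root_.mul_inv_rev, mul_assoc]

theorem rho_apply (x : PSL) (f : cusp p) (a : PSL) :
    (rho p x f : PSL → ZMod 2) a = (f : PSL → ZMod 2) (x⁻¹ * a) := rfl

theorem fpf (hodd : Odd p) {u : PSL} (hu : orderOf u = p) (f : cusp p) (hf : rho p u f = f) :
    f = 0 := by
  refine Subtype.ext (funext fun a => ?_)
  have h1 : ∀ b, (f : PSL → ZMod 2) (u * b) = (f : PSL → ZMod 2) b := fun b => by
    have := congrArg (fun g : cusp p => (g : PSL → ZMod 2) (u * b)) hf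
    simp only [rho_apply, inv_mul_cancel_left] at this
    exact this.symm
  have h2 : ∀ i, (f : PSL → ZMod 2) (u ^ i * a) = (f : PSL → ZMod 2) a := by
    intro i
    induction i with
    | zero => rw [pow_zero, one_mul]
    | succ i ih => rw [pow_succ', mul_assoc, h1, ih]
  have h3 := f.2 u a hu
  simp only [h2, Finset.sum_const, Finset.card_range, nsmul_eq_mul] at h3
  rw [(ZMod.natCast_eq_one_iff_odd).2 hodd, one_mul] at h3
  exact h3

theorem sq_eq (g : SL) : (g : M2) * (g : M2) = (g : M2).trace • (g : M2) - (1 : M2) := by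
  have hd := g.det_coe
  rw [det_fin_two] at hd
  ext i j
  fin_cases i <;> fin_cases j <;>
    simp [mul_apply, trace_fin_two, Fin.sum_univ_two] <;> grind

/-- The trace condition. -/
def HasTrace (s : ZMod p) (y : Matrix.ProjectiveSpecialLinearGroup (Fin 2) (ZMod p)) : Prop :=
  ∃ z : Matrix.SpecialLinearGroup (Fin 2) (ZMod p),
    toP z = y ∧ (z : Matrix (Fin 2) (Fin 2) (ZMod p)).trace ^ 2 = s ^ 2

theorem hasTrace_toP (s : Z) (z : SL) : HasTrace s (toP z) ↔ (z : M2).trace ^ 2 = s ^ 2 := by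
  refine ⟨?_, fun h => ⟨z, rfl, h⟩⟩
  rintro ⟨w, hw, ht⟩
  have hc : w⁻¹ * z ∈ Subgroup.center SL := by
    rw [← toP_eq_one_iff, map_mul, map_inv, hw, inv_mul_cancel]
  obtain ⟨r, hr, hr'⟩ := Matrix.SpecialLinearGroup.mem_center_iff.1 hc
  have hz : (z : M2) = (w : M2) * Matrix.scalar (Fin 2) r := by
    rw [hr']
    show (z : M2) = ((w * (w⁻¹ * z) : SL) : M2)
    rw [mul_inv_cancel_left]
  rw [Fintype.card_fin] at hr
  rw [hz, ← ht]
  have h2 : ((w : M2) * Matrix.scalar (Fin 2) r).trace = (w : M2).trace * r := by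
    simp [Matrix.trace_fin_two, add_mul]
  rw [h2, mul_pow, hr, mul_one]

open scoped Classical in
/-- The test function. -/
noncomputable def testFun (s : ZMod p) :
    Matrix.ProjectiveSpecialLinearGroup (Fin 2) (ZMod p) → ZMod 2 :=
  fun y => if HasTrace s y then 1 else 0

theorem lift_unipotent (h2 : (2 : Z) ≠ 0) {u : PSL} (hu : orderOf u = p) :
    ∃ (w : SL) (M : M2), toP w = u ∧ (w : M2) = 1 + M ∧ M * M = 0 ∧ M ≠ 0 := by
  obtain ⟨v, rfl⟩ := toP_surjective u
  have hv : toP (v ^ p) = 1 := by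
    rw [map_pow]; exact (congrArg (toP v ^ ·) hu).symm.trans (pow_orderOf_eq_one _)
  obtain ⟨r, hr, hr'⟩ := Matrix.SpecialLinearGroup.mem_center_iff.1 ((toP_eq_one_iff _).1 hv)
  rw [Fintype.card_fin] at hr
  have hr1 : (v : M2) ^ p = r • (1 : M2) := by
    rw [← Matrix.SpecialLinearGroup.coe_pow, ← hr', Matrix.smul_one_eq_diagonal]; rfl
  have hcz : (⟨r • (1 : M2), by rw [det_smul, det_one, mul_one, Fintype.card_fin, hr]⟩ : SL) ∈
      Subgroup.center SL :=
    Matrix.SpecialLinearGroup.mem_center_iff.2 ⟨r, by rw [Fintype.card_fin, hr],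
      (Matrix.smul_one_eq_diagonal r).symm⟩
  set c : SL := ⟨r • (1 : M2), by rw [det_smul, det_one, mul_one, Fintype.card_fin, hr]⟩
  have hcv : ((c * v : SL) : M2) = r • (v : M2) := by
    show (r • (1 : M2)) * (v : M2) = _
    rw [smul_mul_assoc, one_mul]
  refine ⟨c * v, r • (v : M2) - 1, ?_, ?_, ?_, ?_⟩
  · rw [map_mul, (toP_eq_one_iff c).2 hcz, one_mul]
  · rw [hcv, add_sub_cancel]
  · set M : M2 := r • (v : M2) - 1 with hM
    have hMp : M ^ p = 0 := by
      rw [hM, sub_pow_char_of_commute p (Commute.one_right _), smul_pow, hr1, smul_smul, one_pow,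
        ZMod.pow_card, ← pow_two, hr, one_smul, sub_self]
    have hMM : M * M = M.trace • M - M.det • (1 : M2) := by
      ext i j
      fin_cases i <;> fin_cases j <;>
        simp [mul_apply, trace_fin_two, det_fin_two, Fin.sum_univ_two] <;> ring
    have hd : M.det = 0 := by
      have := congrArg Matrix.det hMp
      rw [det_pow, det_zero] at this
      exact eq_zero_of_pow_eq_zero this
    rw [hd, zero_smul, sub_zero] at hMM
    have hk : ∀ k : ℕ, M ^ (k + 1) = M.trace ^ k • M := by
      intro k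
      induction k with
      | zero => rw [pow_one, pow_zero, one_smul]
      | succ k ih => rw [pow_succ, ih, smul_mul_assoc, hMM, smul_smul, ← pow_succ]
    have h := hk (p - 1)
    rw [Nat.sub_add_cancel (Fact.out : p.Prime).one_le, hMp] at h
    rcases smul_eq_zero.1 h.symm with ht | hz
    · rw [hMM, eq_zero_of_pow_eq_zero ht, zero_smul]
    · rw [hz, mul_zero]
  · intro h
    have h1 : c * v = 1 := Subtype.ext (hcv.trans (sub_eq_zero.1 h))
    have h2 : toP v = 1 := by
      have := congrArg toP h1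
      rwa [map_mul, (toP_eq_one_iff c).2 hcz, one_mul, map_one] at this
    rw [h2, orderOf_one] at hu
    exact (Fact.out : p.Prime).ne_one hu.symm

theorem square_of_orth {M : M2} {a : SL} (hM : M * M = 0) (hM0 : M ≠ 0)
    (h : (M * (a : M2)).trace = 0) (h2 : (2 : Z) ≠ 0) : IsSquare ((a : M2).trace ^ 2 - 4) := by
  have hd := a.det_coe
  rw [det_fin_two] at hd
  have htr : M 1 1 = -M 0 0 := by
    have a00 := congrFun (congrFun hM 0) 0
    have a11 := congrFun (congrFun hM 1) 1
    have a01 := congrFun (congrFun hM 0) 1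
    have a10 := congrFun (congrFun hM 1) 0
    simp [mul_apply, Fin.sum_univ_two] at a00 a11 a01 a10
    by_contra hne
    have hs : M 0 0 + M 1 1 ≠ 0 := fun e => hne (by linear_combination e)
    have b01 : M 0 1 = 0 := by
      have : (M 0 0 + M 1 1) * M 0 1 = 0 := by linear_combination a01
      exact (mul_eq_zero.1 this).resolve_left hs
    have b10 : M 1 0 = 0 := by
      have : (M 0 0 + M 1 1) * M 1 0 = 0 := by linear_combination a10
      exact (mul_eq_zero.1 this).resolve_left hs
    apply hM0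
    ext i j
    fin_cases i <;> fin_cases j
    · simpa [b01] using a00
    · simpa using b01
    · simpa using b10
    · simpa [b01] using a11
  have hdet : M 0 0 * M 0 0 + M 0 1 * M 1 0 = 0 := by
    have a00 := congrFun (congrFun hM 0) 0
    simpa [mul_apply, Fin.sum_univ_two] using a00
  simp [trace_fin_two, mul_apply, Fin.sum_univ_two, htr] at h
  rw [trace_fin_two]
  by_cases hq : M 0 1 = 0
  · have hm : M 0 0 = 0 := by
      rw [hq, zero_mul, add_zero] at hdet
      exact mul_self_eq_zero.1 hdet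
    have hr : M 1 0 ≠ 0 := by
      intro hr
      apply hM0
      ext i j
      fin_cases i <;> fin_cases j
      exacts [hm, hq, hr, htr.trans (by rw [hm, neg_zero]; rfl)]
    have h01 : (a : M2) 0 1 = 0 := by
      rw [hq, hm] at h
      simpa [hr] using h
    exact ⟨(a : M2) 0 0 - (a : M2) 1 1, by rw [h01] at hd; linear_combination 4 * hd⟩
  · set k := M 0 0 / M 0 1
    have hk : M 0 0 = k * M 0 1 := (div_mul_cancel₀ _ hq).symm
    have hr : M 1 0 = -(k * k) * M 0 1 := by
      apply mul_left_cancel₀ hq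
      rw [hk] at hdet
      linear_combination hdet
    rw [hr, hk] at h
    have h10 : (a : M2) 1 0 = -k * ((a : M2) 0 0 - (a : M2) 1 1) + k * k * (a : M2) 0 1 := by
      apply mul_left_cancel₀ hq
      linear_combination h
    rw [h10] at hd
    exact ⟨(a : M2) 0 0 - (a : M2) 1 1 - 2 * k * (a : M2) 0 1, by linear_combination 4 * hd⟩

theorem sum_range_cast {β : Type*} [AddCommMonoid β] (φ : Z → β) :
    ∑ i ∈ Finset.range p, φ (i : Z) = ∑ z : Z, φ z := by
  refine Finset.sum_nbij' (fun i => (i : Z)) ZMod.val (fun _ _ => Finset.mem_univ _)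
    (fun z _ => Finset.mem_range.2 (ZMod.val_lt z)) (fun i hi => ?_) (fun z _ => ?_) (fun _ _ => rfl)
  · exact ZMod.val_cast_of_lt (Finset.mem_range.1 hi)
  · exact ZMod.natCast_zmod_val z

theorem testFun_mem (h2 : (2 : Z) ≠ 0) {s : Z} (hs : s ≠ 0) (hns : ¬ IsSquare (s ^ 2 - 4)) :
    testFun s ∈ cusp p := by
  classical
  intro u a hu
  obtain ⟨w, M, hw, hwM, hM, hM0⟩ := lift_unipotent h2 hu
  obtain ⟨b, rfl⟩ := toP_surjective a
  have hpow : ∀ i : ℕ, (w : M2) ^ i = 1 + (i : Z) • M := by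
    intro i
    induction i with
    | zero => simp
    | succ i ih =>
      rw [pow_succ, ih, hwM]
      simp only [add_mul, mul_add, smul_mul_assoc, mul_one, one_mul, hM, smul_zero, add_zero,
        Nat.cast_add, Nat.cast_one, add_smul, one_smul]
      abel
  have hterm : ∀ i : ℕ, testFun s (u ^ i * toP b) =
      (fun z : Z => if ((b : M2).trace + z * (M * (b : M2)).trace) ^ 2 = s ^ 2 then (1 : ZMod 2) else 0) i := by
    intro i
    rw [← hw, ← map_pow, ← map_mul]
    unfold testFun
    rw [hasTrace_toP]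
    congr 2
    rw [Matrix.SpecialLinearGroup.coe_mul, Matrix.SpecialLinearGroup.coe_pow, hpow, add_mul, one_mul,
      smul_mul_assoc, trace_add, trace_smul, smul_eq_mul]
  rw [Finset.sum_congr rfl fun i _ => hterm i]
  refine (sum_range_cast (p := p) (fun z : Z =>
    if ((b : M2).trace + z * (M * (b : M2)).trace) ^ 2 = s ^ 2 then (1 : ZMod 2) else 0)).trans ?_
  rw [Finset.sum_boole]
  set A := (b : M2).trace
  set c := (M * (b : M2)).trace
  by_cases hc : c = 0
  · rw [Finset.filter_false_of_mem (fun z _ h => ?_), Finset.card_empty, Nat.cast_zero]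
    rw [hc, mul_zero, add_zero] at h
    exact hns (h ▸ square_of_orth hM hM0 hc h2)
  · have e : (Finset.univ.filter fun z : Z => (A + z * c) ^ 2 = s ^ 2) = {(s - A) / c, (-s - A) / c} := by
      ext z
      simp only [Finset.mem_filter, Finset.mem_univ, true_and, Finset.mem_insert, Finset.mem_singleton,
        sq_eq_sq_iff_eq_or_eq_neg, eq_div_iff hc]
      constructor <;> rintro (h | h)
      exacts [Or.inl (by linear_combination h), Or.inr (by linear_combination h),
        Or.inl (by linear_combination h), Or.inr (by linear_combination h)]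
    rw [e, Finset.card_pair]
    · rfl
    · intro h
      rw [div_left_inj' hc] at h
      have : (2 : Z) * s = 0 := by linear_combination h
      exact hs ((mul_eq_zero.1 this).resolve_left h2)

theorem exists_trace (hp : 5 ≤ p) :
    ∃ s : Z, s ≠ 0 ∧ ¬ IsSquare (s ^ 2 - 4) := by
  have h2 : (2 : Z) ≠ 0 := by
    intro h
    have h' : ((2 : ℕ) : Z) = 0 := by exact_mod_cast h
    rw [ZMod.natCast_eq_zero_iff] at h'
    have := Nat.le_of_dvd (by norm_num) h'
    omega
  obtain ⟨g, hg⟩ := Cfsg.Agent.Lib.Linear.exists_orderOf_eq_card_add_one (F := Z)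
  rw [ZMod.card] at hg
  have hgp : ∀ n, (g : M2) ^ n = 1 → g ^ n = 1 := fun n h =>
    Subtype.ext ((Matrix.SpecialLinearGroup.coe_pow g n).trans h)
  have hsq := sq_eq g
  refine ⟨(g : M2).trace, fun ht => ?_, ?_⟩
  · rw [ht, zero_smul, zero_sub] at hsq
    have h4 : (g : M2) ^ 4 = 1 := by
      rw [show (4 : ℕ) = 2 * 2 by norm_num, pow_mul, pow_two (g : M2), hsq, neg_one_sq]
    have := Nat.le_of_dvd (by norm_num) (orderOf_dvd_of_pow_eq_one (hgp 4 h4))
    omega
  · rintro ⟨r, hr⟩
    set t := (g : M2).trace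
    set h : M2 := (2 : Z) • (g : M2) - t • (1 : M2) with hh
    have hhsq : h * h = (r * r) • (1 : M2) := by
      simp only [hh, sub_mul, mul_sub, smul_mul_assoc, mul_smul_comm, one_mul, mul_one, hsq, smul_sub,
        smul_smul, ← hr]
      module
    obtain ⟨k, hk⟩ := (Fact.out : p.Prime).odd_of_ne_two (by omega)
    have hhp : h ^ p = (2 : Z) • (g : M2) ^ p - t • (1 : M2) := by
      rw [hh, sub_pow_char_of_commute p (((Commute.one_right (g : M2)).smul_right t).smul_left 2),
        smul_pow, smul_pow, one_pow, ZMod.pow_card, ZMod.pow_card]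
    have hhp' : h ^ p = r ^ (2 * k) • h := by
      refine (congrArg (h ^ ·) hk).trans ?_
      rw [pow_succ, pow_mul, pow_two, hhsq, smul_pow, one_pow, smul_mul_assoc, one_mul, ← pow_two,
        ← pow_mul]
    by_cases hr0 : r = 0
    · rw [hr0, zero_pow (by omega), zero_smul, hhp, sub_eq_zero] at hhp'
      have h1 : (g : M2) ^ (2 * p) = 1 := by
        have h4 : (2 * 2 : Z) • (g : M2) ^ (2 * p) = (t * t) • (1 : M2) := by
          rw [two_mul p, pow_add, ← smul_smul, ← smul_mul_assoc, hhp', smul_mul_assoc, one_mul,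
            smul_comm (2 : Z) t, hhp', smul_smul]
        rw [hr0, mul_zero, sub_eq_zero, pow_two] at hr
        rw [hr, show (4 : Z) = 2 * 2 by norm_num] at h4
        exact (smul_right_inj (mul_ne_zero h2 h2)).1 h4
      have h5 := orderOf_dvd_of_pow_eq_one (hgp _ h1)
      rw [hg] at h5
      have hcop : Nat.Coprime (p + 1) p := by simp
      have := Nat.le_of_dvd (by norm_num) (hcop.dvd_of_dvd_mul_right h5)
      omega
    · have hr2 : r ^ (2 * k) = 1 := by
        rw [show 2 * k = p - 1 by omega]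
        exact ZMod.pow_card_sub_one_eq_one hr0
      rw [hr2, one_smul, hhp, hh, sub_left_inj, smul_right_inj h2] at hhp'
      have h1 : g ^ (p - 1) = 1 := by
        refine mul_right_cancel (b := g) ?_
        rw [← pow_succ, Nat.sub_add_cancel (Fact.out : p.Prime).one_le, one_mul]
        exact Subtype.ext ((Matrix.SpecialLinearGroup.coe_pow g p).trans hhp')
      have h5 := Nat.le_of_dvd (by omega) (orderOf_dvd_of_pow_eq_one h1)
      omega

theorem exists_neg_square_rep (h2 : (2 : Z) ≠ 0) {c : Z} (hc : c ≠ 0) (K : Z) : ∃ u v : Z, u ^ 2 - c * v ^ 2 = K := by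
  open Polynomial in
  have hf : (X ^ 2 : Z[X]).degree = 2 := degree_X_pow 2
  have hg : (Polynomial.C (-c) * Polynomial.X ^ 2 + Polynomial.C (-K) : Polynomial Z).degree = 2 := by
    rw [Polynomial.degree_add_C (by rw [Polynomial.degree_C_mul_X_pow _ (neg_ne_zero.2 hc)]; norm_num),
      Polynomial.degree_C_mul_X_pow _ (neg_ne_zero.2 hc)]
    rfl
  rcases (Fact.out : p.Prime).eq_two_or_odd' with hp2 | hodd
  · subst hp2
    exact absurd (ZMod.natCast_self 2) (by exact_mod_cast h2)
  · obtain ⟨u, v, huv⟩ := FiniteField.exists_root_sum_quadratic hf hg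
      (by rw [ZMod.card]; exact Nat.odd_iff.1 hodd)
    simp at huv
    exact ⟨u, v, by linear_combination huv⟩

theorem exists_point (h2 : (2 : Z) ≠ 0) (g : SL) (hg : (g : M2).trace ^ 2 ≠ 4) (s : Z) :
    ∃ y : SL, (y : M2).trace = s ∧ ((g : M2) * (y : M2)).trace = s / 2 * (g : M2).trace := by
  have hd := g.det_coe
  rw [det_fin_two] at hd
  rw [trace_fin_two] at hg
  set a := (g : M2) 0 0
  set b := (g : M2) 0 1
  set c := (g : M2) 1 0
  set e := (g : M2) 1 1
  obtain ⟨σ, hσ⟩ : ∃ σ, s = 2 * σ := ⟨s / 2, by field_simp⟩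
  suffices ∃ α β γ : Z, (a - e) * α + c * β + b * γ = 0 ∧ α ^ 2 + β * γ = σ ^ 2 - 1 by
    obtain ⟨α, β, γ, h1, h3⟩ := this
    refine ⟨⟨!![σ + α, β; γ, σ - α], by rw [det_fin_two]; simp; linear_combination -h3⟩, ?_, ?_⟩
    · rw [trace_fin_two]; simp; linear_combination -hσ
    · show ((g : M2) * !![σ + α, β; γ, σ - α]).trace = _
      rw [hσ, mul_div_cancel_left₀ _ h2]
      simp [trace_fin_two, mul_apply, Fin.sum_univ_two]
      linear_combination h1
  by_cases hb : b = 0
  · have hae : a - e ≠ 0 := fun h => hg (by rw [hb] at hd; linear_combination 4 * hd + (a - e) * h)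
    exact ⟨-c / (a - e), 1, σ ^ 2 - 1 - (-c / (a - e)) ^ 2, by rw [hb]; field_simp; ring, by ring⟩
  · set D := ((a - e) ^ 2 + 4 * b * c) / (2 * b) ^ 2
    have h4b : (2 * b) ^ 2 ≠ 0 := pow_ne_zero _ (mul_ne_zero h2 hb)
    have hD : D ≠ 0 := by
      refine div_ne_zero (fun h => hg ?_) h4b
      linear_combination h + 4 * hd
    obtain ⟨u, v, huv⟩ := exists_neg_square_rep h2 hD (σ ^ 2 - 1)
    refine ⟨u + (a - e) * v / (2 * b), v, -((a - e) * (u + (a - e) * v / (2 * b)) + c * v) / b, ?_, ?_⟩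
    · field_simp; ring
    · rw [← huv]
      simp only [D]
      field_simp
      ring

theorem trace_pow_mul (g : SL) (y : M2) (s : Z) (h0 : y.trace = s) (h1 : ((g : M2) * y).trace = s / 2 * (g : M2).trace)
    (h2 : (2 : Z) ≠ 0) (i : ℕ) : ((g : M2) ^ i * y).trace = s / 2 * ((g : M2) ^ i).trace := by
  induction i using Nat.strong_induction_on with
  | _ i ih =>
    match i with
    | 0 => rw [pow_zero, one_mul, h0, trace_one, Fintype.card_fin, Nat.cast_ofNat, div_mul_cancel₀ _ h2]
    | 1 => rw [pow_one, h1]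
    | i + 2 =>
      have e : (g : M2) ^ (i + 2) = (g : M2).trace • (g : M2) ^ (i + 1) - (g : M2) ^ i := by
        rw [pow_add, pow_two, sq_eq, mul_sub, mul_one, mul_smul_comm, ← pow_succ]
      rw [e, sub_mul, smul_mul_assoc, trace_sub, trace_sub, trace_smul, trace_smul,
        ih (i + 1) (by omega), ih i (by omega), smul_eq_mul, smul_eq_mul]
      ring

theorem toP_eq_one_of_trace (h : SL) (ht : (h : M2).trace ^ 2 = 4) :
    toP h ^ p = 1 := by
  rw [show (4 : Z) = 2 ^ 2 by norm_num, sq_eq_sq_iff_eq_or_eq_neg] at ht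
  obtain ⟨ε, he, ht'⟩ : ∃ ε : Z, ε ^ 2 = 1 ∧ (h : M2).trace = 2 * ε := by
    rcases ht with e | e
    exacts [⟨1, one_pow 2, by rw [e, mul_one]⟩, ⟨-1, neg_one_sq, by rw [e]; ring⟩]
  have hN : ((h : M2) - ε • 1) * ((h : M2) - ε • 1) = 0 := by
    simp only [sub_mul, mul_sub, smul_mul_assoc, mul_smul_comm, one_mul, mul_one, sq_eq, ht', smul_smul,
      ← pow_two ε, he, one_smul]
    match_scalars <;> first | ring1 | linear_combination he
  have hp0 : ((h : M2) - ε • 1) ^ p = 0 :=
    pow_eq_zero_of_le (Fact.out : p.Prime).two_le (by rw [pow_two, hN])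
  rw [sub_pow_char_of_commute p ((Commute.one_right _).smul_right ε), smul_pow, one_pow,
    ZMod.pow_card, sub_eq_zero] at hp0
  rw [← map_pow, toP_eq_one_iff, Matrix.SpecialLinearGroup.mem_center_iff]
  exact ⟨ε, by rw [Fintype.card_fin, he],
    by rw [Matrix.SpecialLinearGroup.coe_pow, hp0, Matrix.smul_one_eq_diagonal]; rfl⟩

theorem exists_norm_ne_zero (hp : 5 ≤ p) (x : PSL) (h1 : 1 < orderOf x) (hx : ¬ p ∣ orderOf x) :
    ∃ f, norm (rho p) x (orderOf x) f ≠ 0 := by
  classical
  have h2 : (2 : Z) ≠ 0 := by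
    intro h
    have h' : ((2 : ℕ) : Z) = 0 := by exact_mod_cast h
    rw [ZMod.natCast_eq_zero_iff] at h'
    have := Nat.le_of_dvd (by norm_num) h'
    omega
  obtain ⟨s, hs, hns⟩ := exists_trace (p := p) hp
  obtain ⟨g, hg⟩ := toP_surjective x⁻¹
  have hcop : ∀ i, (x⁻¹) ^ i ≠ 1 → ((g : M2) ^ i).trace ^ 2 ≠ 4 := by
    intro i hi ht
    rw [← Matrix.SpecialLinearGroup.coe_pow] at ht
    have h := toP_eq_one_of_trace _ ht
    rw [map_pow, hg] at h
    have h' : orderOf (x⁻¹ ^ i) ∣ p := orderOf_dvd_of_pow_eq_one h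
    rcases (Fact.out : p.Prime).eq_one_or_self_of_dvd _ h' with e | e
    · exact hi (orderOf_eq_one_iff.1 e)
    · apply hx
      rw [← orderOf_inv x]
      have := orderOf_pow_dvd (x := x⁻¹) i
      rwa [e] at this
  have hg4 : (g : M2).trace ^ 2 ≠ 4 := by
    have := hcop 1 (by rw [pow_one, Ne, inv_eq_one]; intro e; rw [e, orderOf_one] at h1; omega)
    rwa [pow_one] at this
  obtain ⟨y, hy0, hy1⟩ := exists_point h2 g hg4 s
  refine ⟨⟨_, testFun_mem h2 hs hns⟩, fun h0 => ?_⟩
  have h := congrArg (fun f : cusp p => (f : PSL → ZMod 2) (toP y)) h0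
  simp only [Semidirect.norm, AddSubgroup.val_finsetSum, Finset.sum_apply, rho_apply,
    AddSubgroup.coe_zero, Pi.zero_apply] at h
  rw [Finset.sum_eq_single 0] at h
  · rw [pow_zero, inv_one, one_mul] at h
    unfold testFun at h
    rw [if_pos ((hasTrace_toP s y).2 (by rw [hy0]))] at h
    exact one_ne_zero h
  · intro i hi hi0
    rw [← inv_pow, ← hg, ← map_pow, ← map_mul]
    unfold testFun
    rw [if_neg]
    intro ht
    rw [hasTrace_toP, Matrix.SpecialLinearGroup.coe_mul, Matrix.SpecialLinearGroup.coe_pow,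
      trace_pow_mul g _ s hy0 hy1 h2 i, mul_pow, div_pow] at ht
    refine hcop i ?_ ?_
    · rw [inv_pow, Ne, inv_eq_one]
      exact pow_ne_one_of_lt_orderOf hi0 (Finset.mem_range.1 hi)
    · field_simp at ht
      linear_combination ht
  · intro h'
    exact absurd (Finset.mem_range.2 (orderOf_pos x)) h'

theorem nontrivial_cusp (hp : 5 ≤ p) : Nontrivial (cusp p) := by
  have h2 : (2 : Z) ≠ 0 := by
    intro h
    have h' : ((2 : ℕ) : Z) = 0 := by exact_mod_cast h
    rw [ZMod.natCast_eq_zero_iff] at h'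
    have := Nat.le_of_dvd (by norm_num) h'
    omega
  obtain ⟨s, hs, hns⟩ := exists_trace (p := p) hp
  refine ⟨⟨⟨_, testFun_mem h2 hs hns⟩, 0, fun h => ?_⟩⟩
  obtain ⟨y, hy⟩ : ∃ y : SL, (y : M2).trace = s :=
    ⟨⟨!![s, 1; -1, 0], by simp [det_fin_two]⟩, by simp [trace_fin_two]⟩
  have h' := congrArg (fun f : cusp p => (f : PSL → ZMod 2) (toP y)) h
  simp only [AddSubgroup.coe_zero, Pi.zero_apply] at h'
  unfold testFun at h'
  rw [if_pos ((hasTrace_toP s y).2 (by rw [hy]))] at h'
  exact one_ne_zero h'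

theorem two_smul_eq_zero (f : cusp p) : 2 • f = 0 :=
  Subtype.ext (funext fun a => by
    show 2 • (f : PSL → ZMod 2) a = 0
    rw [two_nsmul, CharTwo.add_self_eq_zero])

theorem range_orderOf_ext (hp : 5 ≤ p) :
    Set.range (orderOf : Ext (rho p) → ℕ) = {m | m ∣ p ∨ m ∣ p - 1 ∨ m ∣ p + 1} := by
  have hodd : Odd p := (Fact.out : p.Prime).odd_of_ne_two (by omega)
  obtain ⟨k, hk⟩ := hodd
  have hX := RecogThree.PSL2Orders.range_orderOf (F := Z) p
  rw [ZMod.card] at hX
  have hdd : RecogThree.PSL2Orders.dd p = 2 := if_neg (by omega)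
  rw [hdd] at hX
  have ha : (p - 1) / 2 = k := by omega
  have hb : (p + 1) / 2 = k + 1 := by omega
  rw [ha, hb] at hX
  ext m
  constructor
  · intro hm
    rw [Semidirect.mem_range_orderOf _ Nat.prime_two two_smul_eq_zero] at hm
    rcases hm with hm | ⟨x, f, hf, rfl⟩
    · rw [hX] at hm
      rcases hm with h | h | h
      exacts [Or.inl h, Or.inr (Or.inl (h.trans ⟨2, by omega⟩)), Or.inr (Or.inr (h.trans ⟨2, by omega⟩))]
    · have hn : orderOf x ∈ Set.range (orderOf : PSL → ℕ) := ⟨x, rfl⟩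
      rw [hX] at hn
      rcases hn with h | h | h
      · rcases (Fact.out : p.Prime).eq_one_or_self_of_dvd _ h with e | e
        · rw [e]; exact Or.inr (Or.inl ⟨k, by omega⟩)
        · exact absurd (Semidirect.norm_eq_zero_of_fpf _ (fun a => fpf ⟨k, hk⟩ e a) f) hf
      · refine Or.inr (Or.inl ?_)
        rw [show p - 1 = k * 2 by omega]; exact Nat.mul_dvd_mul_right h 2
      · refine Or.inr (Or.inr ?_)
        rw [show p + 1 = (k + 1) * 2 by omega]; exact Nat.mul_dvd_mul_right h 2
  · have hdiv : ∀ (y : Ext (rho p)) (m : ℕ), m ∣ orderOf y → m ∈ Set.range (orderOf : Ext (rho p) → ℕ) := fun y m hm =>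
      let ⟨c, hc⟩ := hm
      ⟨y ^ c, by
        have hpos : 0 < orderOf y := orderOf_pos _
        have hc0 : 0 < c := Nat.pos_of_ne_zero fun h => by rw [h, mul_zero] at hc; omega
        rw [orderOf_pow, hc, Nat.gcd_eq_right (Dvd.intro_left m rfl), Nat.mul_div_cancel _ hc0]⟩
    have key : ∀ n, 1 < n → ¬ p ∣ n → n ∈ Set.range (orderOf : PSL → ℕ) →
        n * 2 ∈ Set.range (orderOf : Ext (rho p) → ℕ) := by
      rintro n h1 hn ⟨x, rfl⟩
      obtain ⟨f, hf⟩ := exists_norm_ne_zero hp x h1 hn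
      exact (Semidirect.mem_range_orderOf _ Nat.prime_two two_smul_eq_zero _).2 (Or.inr ⟨x, f, hf, rfl⟩)
    rintro (h | h | h)
    · refine (Semidirect.mem_range_orderOf _ Nat.prime_two two_smul_eq_zero m).2 (Or.inl ?_)
      rw [hX]; exact Or.inl h
    · obtain ⟨y, hy⟩ := key k (by omega) (fun h => by have := Nat.le_of_dvd (by omega) h; omega)
        (by rw [hX]; exact Or.inr (Or.inl dvd_rfl))
      exact hdiv y m (by rw [hy, show k * 2 = p - 1 by omega]; exact h)
    · obtain ⟨y, hy⟩ := key (k + 1) (by omega) (fun h => by have := Nat.le_of_dvd (by omega) h; omega)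
        (by rw [hX]; exact Or.inr (Or.inr dvd_rfl))
      exact hdiv y m (by rw [hy, show (k + 1) * 2 = p + 1 by omega]; exact h)

end Cfsg.Agent.Lib.SpectrumExt.CuspModule
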