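import Mathlib
import Cfsg.Agent.Lib.SpectrumExt.Semidirect
import Cfsg.Agent.Lib.AltOrders.Basic

/-!
The extension of the 6-dimensional binary heart of the permutation module by the alternating group of
degree 8 has the element orders of the symmetric group of degree 8.
-/

set_option autoImplicit false

namespace Cfsg.Agent.Lib.SpectrumExt.HeartEight

open Equiv Semidirect

/-- The element orders of the symmetric group of degree 8. -/
def spec : Set ℕ := {1, 2, 3, 4, 5, 6, 7, 8, 10, 12, 15}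

theorem mem_range_of_dvd {G : Type*} [Group G] [Finite G] {m d : ℕ}
    (hm : m ∈ Set.range (orderOf : G → ℕ)) (hd : d ∣ m) : d ∈ Set.range (orderOf : G → ℕ) := by
  obtain ⟨g, rfl⟩ := hm
  refine ⟨g ^ (orderOf g / d), ?_⟩
  have hg := orderOf_pos g
  rw [orderOf_pow' g (Nat.div_pos (Nat.le_of_dvd hg hd) (Nat.pos_of_dvd_of_pos hd hg)).ne',
    Nat.gcd_eq_right (Nat.div_dvd_of_dvd hd), Nat.div_div_self hd hg.ne']

theorem spec_subset {G : Type*} [Group G] [Finite G] {S : Set ℕ}
    (hS : S = Set.range (orderOf : G → ℕ)) (h7 : 7 ∈ S) (h8 : 8 ∈ S) (h10 : 10 ∈ S) (h12 : 12 ∈ S)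
    (h15 : 15 ∈ S) : spec ⊆ S := by
  subst hS
  intro m hm
  simp only [spec, Set.mem_insert_iff, Set.mem_singleton_iff] at hm
  rcases hm with rfl | rfl | rfl | rfl | rfl | rfl | rfl | rfl | rfl | rfl | rfl
  exacts [mem_range_of_dvd h8 (by norm_num), mem_range_of_dvd h8 (by norm_num),
    mem_range_of_dvd h12 (by norm_num), mem_range_of_dvd h8 (by norm_num),
    mem_range_of_dvd h10 (by norm_num), mem_range_of_dvd h12 (by norm_num), h7, h8, h10, h12, h15]

/-! ### The symmetric group -/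

theorem orderOf_eq_of_check {G : Type*} [Group G] (g : G) (n : ℕ) (hn : 0 < n)
    (h1 : g ^ n = 1) (h2 : ∀ m < n, 0 < m → g ^ m ≠ 1) : orderOf g = n :=
  (orderOf_eq_iff hn).2 ⟨h1, h2⟩

theorem reach_eight : (AltOrders.reach 8 8).image Prod.fst ⊆ ({1, 2, 3, 4, 5, 6, 7, 8, 10, 12, 15} : Finset ℕ) ∧
    ∀ p ∈ AltOrders.reach 8 8, p.2 = false → p.1 ∈ ({1, 2, 3, 4, 5, 6, 7, 15} : Finset ℕ) := by
  decide +kernel

theorem orderOf_mem_spec (σ : Perm (Fin 8)) : orderOf σ ∈ spec := by
  have h := AltOrders.mem_reach 8 8 σ.cycleType (fun a ha => Perm.two_le_of_mem_cycleType ha)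
    (by rw [Perm.sum_cycleType]; exact Finset.card_le_univ _) le_rfl
  have := reach_eight.1 (Finset.mem_image_of_mem Prod.fst h)
  simp only [Finset.mem_insert, Finset.mem_singleton] at this
  rw [← Perm.lcm_cycleType]
  simpa [spec] using this

/-- A permutation of order 7. -/
def p7 : Perm (Fin 8) := c[0, 1, 2, 3, 4, 5, 6]
/-- A permutation of order 15. -/
def p15 : Perm (Fin 8) := c[0, 1, 2, 3, 4] * c[5, 6, 7]

theorem range_orderOf_perm : Set.range (orderOf : Perm (Fin 8) → ℕ) = spec := by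
  refine Set.Subset.antisymm (fun m ⟨σ, hσ⟩ => hσ ▸ orderOf_mem_spec σ) ?_
  refine spec_subset rfl ⟨p7, ?_⟩ ⟨c[0, 1, 2, 3, 4, 5, 6, 7], ?_⟩
    ⟨c[0, 1, 2, 3, 4] * c[5, 6], ?_⟩ ⟨c[0, 1, 2, 3] * c[4, 5, 6], ?_⟩ ⟨p15, ?_⟩
  all_goals exact orderOf_eq_of_check _ _ (by norm_num) (by decide +kernel) (by decide +kernel)

/-! ### The module -/

/-- The heart: even vectors, normalised to vanish at the last point. -/
def heart : AddSubgroup (Fin 8 → ZMod 2) where
  carrier := {v | v 7 = 0 ∧ ∑ i, v i = 0}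
  zero_mem' := ⟨rfl, by simp⟩
  add_mem' := fun {v w} hv hw => ⟨by simp [hv.1, hw.1], by simp [Finset.sum_add_distrib, hv.2, hw.2]⟩
  neg_mem' := fun {v} hv => ⟨by simp [hv.1], by simp [hv.2]⟩

instance : DecidablePred (· ∈ heart) := fun v =>
  decidable_of_iff (v 7 = 0 ∧ ∑ i, v i = 0) Iff.rfl

/-- The action of one permutation. -/
def actHeart (σ : Perm (Fin 8)) : AddMonoid.End heart where
  toFun v := ⟨fun i => (v : Fin 8 → ZMod 2) (σ⁻¹ i) - (v : Fin 8 → ZMod 2) (σ⁻¹ 7), by
    refine ⟨sub_self _, ?_⟩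
    rw [Finset.sum_sub_distrib, Equiv.sum_comp σ⁻¹ (v : Fin 8 → ZMod 2), v.2.2]
    simp [show (8 : ZMod 2) = 0 from rfl]⟩
  map_zero' := Subtype.ext (funext fun i => by simp)
  map_add' v w := Subtype.ext (funext fun i => by simp; abel)

/-- The action of the symmetric group. -/
def rho8 : Perm (Fin 8) →* AddMonoid.End heart where
  toFun := actHeart
  map_one' := AddMonoidHom.ext fun v => Subtype.ext (funext fun i => by
    show (v : Fin 8 → ZMod 2) i - (v : Fin 8 → ZMod 2) 7 = _
    rw [v.2.1, sub_zero]; rfl)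
  map_mul' σ τ := AddMonoidHom.ext fun v => Subtype.ext (funext fun i => by
    show _ = ((v : Fin 8 → ZMod 2) (τ⁻¹ (σ⁻¹ i)) - (v : Fin 8 → ZMod 2) (τ⁻¹ 7)) -
      ((v : Fin 8 → ZMod 2) (τ⁻¹ (σ⁻¹ 7)) - (v : Fin 8 → ZMod 2) (τ⁻¹ 7))
    show (v : Fin 8 → ZMod 2) ((σ * τ)⁻¹ i) - (v : Fin 8 → ZMod 2) ((σ * τ)⁻¹ 7) = _
    rw [mul_inv_rev, Perm.mul_apply, Perm.mul_apply]
    abel)

/-- The action of the alternating group. -/
def rho : alternatingGroup (Fin 8) →* AddMonoid.End heart :=
  rho8.comp (alternatingGroup (Fin 8)).subtype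

/-- The sum over the powers of a permutation. -/
def norm8 (σ : Perm (Fin 8)) (n : ℕ) (v : heart) : heart := ∑ i ∈ Finset.range n, rho8 (σ ^ i) v

theorem norm_rho (x : alternatingGroup (Fin 8)) (n : ℕ) (v : heart) :
    Semidirect.norm rho x n v = norm8 (x : Perm (Fin 8)) n v := by
  simp [Semidirect.norm, norm8, rho]

theorem norm8_conj (c p : Perm (Fin 8)) (n : ℕ) (v : heart) :
    norm8 (c * p * c⁻¹) n v = rho8 c (norm8 p n (rho8 c⁻¹ v)) := by
  simp only [norm8, map_sum]
  refine Finset.sum_congr rfl fun i _ => ?_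
  rw [conj_pow, map_mul, map_mul]
  rfl

theorem norm7 : ∀ v : heart, norm8 p7 7 v = 0 := by decide +kernel
theorem norm15 : ∀ v : heart, norm8 p15 15 v = 0 := by decide +kernel

theorem cycleType_p7 : p7.cycleType = {7} := by decide +kernel
theorem cycleType_p15 : p15.cycleType = {5, 3} := by decide +kernel

theorem cycleType_seven {σ : Perm (Fin 8)} (h : orderOf σ = 7) : σ.cycleType = {7} := by
  have hl : σ.cycleType.lcm = 7 := by rw [Perm.lcm_cycleType]; exact h
  have hsum : σ.cycleType.sum ≤ 8 := by rw [Perm.sum_cycleType]; exact Finset.card_le_univ _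
  obtain ⟨a, ha, hda⟩ := AltOrders.exists_mem_dvd_of_prime_dvd_lcm (by norm_num : (7).Prime) (dvd_of_eq hl.symm)
  have ha8 := (Multiset.le_sum_of_mem ha).trans hsum
  have ha2 := Perm.two_le_of_mem_cycleType ha
  obtain rfl : a = 7 := by omega
  obtain ⟨t, ht⟩ := Multiset.exists_cons_of_mem ha
  rw [ht, Multiset.sum_cons] at hsum
  have : t = 0 := Multiset.eq_zero_of_forall_notMem fun b hb => by
    have := Multiset.le_sum_of_mem hb
    have := Perm.two_le_of_mem_cycleType (σ := σ) (n := b) (ht ▸ Multiset.mem_cons_of_mem hb)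
    omega
  rw [ht, this]; rfl

theorem cycleType_fifteen {σ : Perm (Fin 8)} (h : orderOf σ = 15) : σ.cycleType = {5, 3} := by
  have hl : σ.cycleType.lcm = 15 := by rw [Perm.lcm_cycleType]; exact h
  have hsum : σ.cycleType.sum ≤ 8 := by rw [Perm.sum_cycleType]; exact Finset.card_le_univ _
  have small : ∀ a ∈ σ.cycleType, a = 3 ∨ a = 5 := fun a ha => by
    have h15 : a ∣ 15 := hl ▸ Multiset.dvd_lcm ha
    have h8 := (Multiset.le_sum_of_mem ha).trans hsum
    have h2 := Perm.two_le_of_mem_cycleType ha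
    interval_cases a <;> first | (norm_num at h15; done) | norm_num
  obtain ⟨a, ha, hda⟩ := AltOrders.exists_mem_dvd_of_prime_dvd_lcm (by norm_num : (5).Prime)
    (hl ▸ (by norm_num : 5 ∣ 15))
  obtain ⟨b, hb, hdb⟩ := AltOrders.exists_mem_dvd_of_prime_dvd_lcm (by norm_num : (3).Prime)
    (hl ▸ (by norm_num : 3 ∣ 15))
  obtain rfl : a = 5 := by rcases small a ha with rfl | rfl <;> omega
  obtain rfl : b = 3 := by rcases small b hb with rfl | rfl <;> omega
  obtain ⟨t, ht⟩ := Multiset.exists_cons_of_mem ha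
  rw [ht, Multiset.mem_cons] at hb
  obtain ⟨u, hu⟩ := Multiset.exists_cons_of_mem (hb.resolve_left (by norm_num))
  rw [ht, hu, Multiset.sum_cons, Multiset.sum_cons] at hsum
  have : u = 0 := Multiset.eq_zero_of_forall_notMem fun c hc => by
    have := Multiset.le_sum_of_mem hc
    have := Perm.two_le_of_mem_cycleType (σ := σ) (n := c)
      (ht ▸ Multiset.mem_cons_of_mem (hu ▸ Multiset.mem_cons_of_mem hc))
    omega
  rw [ht, hu, this]; rfl

theorem norm_eq_zero (x : alternatingGroup (Fin 8)) (h : orderOf x = 7 ∨ orderOf x = 15) (v : heart) :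
    Semidirect.norm rho x (orderOf x) v = 0 := by
  rw [norm_rho]
  rw [← Subgroup.orderOf_coe] at h ⊢
  generalize (x : Perm (Fin 8)) = σ at *
  rcases h with h | h
  · obtain ⟨c, rfl⟩ := isConj_iff.1 (Perm.isConj_of_cycleType_eq (σ := p7) (τ := σ)
      (by rw [cycleType_p7, cycleType_seven h]))
    rw [h, norm8_conj, norm7, map_zero]
  · obtain ⟨c, rfl⟩ := isConj_iff.1 (Perm.isConj_of_cycleType_eq (σ := p15) (τ := σ)
      (by rw [cycleType_p15, cycleType_fifteen h]))
    rw [h, norm8_conj, norm15, map_zero]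

/-- The group `2⁶:A₈`. -/
abbrev X8 : Type := Ext rho

theorem two_smul_heart (v : heart) : 2 • v = 0 := by
  rw [two_nsmul]
  exact Subtype.ext (funext fun i => CharTwo.add_self_eq_zero _)

theorem witness (σ : Perm (Fin 8)) (n : ℕ) (hn : 0 < n) (h1 : σ ^ n = 1)
    (h2 : ∀ m < n, 0 < m → σ ^ m ≠ 1) (hs : Perm.sign σ = 1) (hv : ∃ v : heart, norm8 σ n v ≠ 0) :
    n * 2 ∈ Set.range (orderOf : X8 → ℕ) := by
  let x : alternatingGroup (Fin 8) := ⟨σ, Perm.mem_alternatingGroup.2 hs⟩
  have hx : orderOf x = n := by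
    rw [← Subgroup.orderOf_coe]; exact orderOf_eq_of_check σ n hn h1 h2
  obtain ⟨v, hv⟩ := hv
  exact (mem_range_orderOf rho Nat.prime_two two_smul_heart _).2
    (Or.inr ⟨x, v, by rw [norm_rho, hx]; exact hv, by rw [hx]⟩)

theorem range_orderOf_X8 : Set.range (orderOf : X8 → ℕ) = spec := by
  refine Set.Subset.antisymm (fun m hm => ?_) ?_
  · have hA : ∀ x : alternatingGroup (Fin 8), orderOf x ∈ ({1, 2, 3, 4, 5, 6, 7, 15} : Finset ℕ) := by
      intro x
      have h := AltOrders.mem_reach 8 8 x.1.cycleType (fun a ha => Perm.two_le_of_mem_cycleType ha)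
        (by rw [Perm.sum_cycleType]; exact Finset.card_le_univ _) le_rfl
      have hev : ¬ (x.1.cycleType.sum + Multiset.card x.1.cycleType) % 2 = 1 := fun hodd => by
        have hs : Perm.sign x.1 = 1 := Perm.mem_alternatingGroup.1 x.2
        rw [Perm.sign_of_cycleType, (Nat.odd_iff.2 hodd).neg_one_pow] at hs
        exact absurd hs (by decide)
      have := reach_eight.2 _ h (by simp [hev])
      rwa [Perm.lcm_cycleType, Subgroup.orderOf_coe] at this
    rcases (mem_range_orderOf rho Nat.prime_two two_smul_heart m).1 hm with ⟨x, rfl⟩ | ⟨x, v, hv, rfl⟩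
    · have := hA x
      simp only [Finset.mem_insert, Finset.mem_singleton] at this
      simp only [spec, Set.mem_insert_iff, Set.mem_singleton_iff]
      tauto
    · have := hA x
      simp only [Finset.mem_insert, Finset.mem_singleton] at this
      simp only [spec, Set.mem_insert_iff, Set.mem_singleton_iff]
      rcases this with h | h | h | h | h | h | h | h
      iterate 6 (rw [h]; norm_num)
      · exact absurd (norm_eq_zero x (Or.inl h) v) hv
      · exact absurd (norm_eq_zero x (Or.inr h) v) hv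
  · have base : ∀ σ : Perm (Fin 8), Perm.sign σ = 1 → orderOf σ ∈ Set.range (orderOf : X8 → ℕ) :=
      fun σ hs => (mem_range_orderOf rho Nat.prime_two two_smul_heart _).2
        (Or.inl ⟨⟨σ, Perm.mem_alternatingGroup.2 hs⟩, (Subgroup.orderOf_coe _).symm⟩)
    refine spec_subset rfl ?_ ?_ ?_ ?_ ?_
    · rw [← orderOf_eq_of_check p7 7 (by norm_num) (by decide +kernel) (by decide +kernel)]
      exact base _ (by decide +kernel)
    · exact witness (c[0, 1, 2, 3] * c[4, 5]) 4 (by norm_num) (by decide +kernel) (by decide +kernel)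
        (by decide +kernel) (by decide +kernel)
    · exact witness c[0, 1, 2, 3, 4] 5 (by norm_num) (by decide +kernel) (by decide +kernel)
        (by decide +kernel) (by decide +kernel)
    · exact witness (c[0, 1, 2] * c[3, 4] * c[5, 6]) 6 (by norm_num) (by decide +kernel)
        (by decide +kernel) (by decide +kernel) (by decide +kernel)
    · rw [← orderOf_eq_of_check p15 15 (by norm_num) (by decide +kernel) (by decide +kernel)]
      exact base _ (by decide +kernel)

theorem exists_ne_zero : ∃ v : heart, v ≠ 0 := by decide +kernel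

theorem module_nontrivial : Nontrivial heart := by
  obtain ⟨v, hv⟩ := exists_ne_zero
  exact ⟨v, 0, hv⟩

end Cfsg.Agent.Lib.SpectrumExt.HeartEight
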