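import Mathlib
import Cfsg.Agent.Lib.RecogThree.PSL2Orders

/-! The Hermitian module of `SL₂(q²)`. -/

namespace Cfsg.Agent.Lib.SpectrumExt.HermModule

open Matrix
open Cfsg.Agent.Lib.RecogThree.PSL2Orders (toP toP_eq_one_iff toP_surjective)

set_option linter.unusedSectionVars false

variable {K : Type*} [Field K] [Fintype K] (p : ℕ) [Fact p.Prime] [CharP K p] (e : ℕ)

local notation "SLK" => Matrix.SpecialLinearGroup (Fin 2) K
local notation "M2" => Matrix (Fin 2) (Fin 2) K

/-- The involutory field automorphism. -/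
def sig : K →+* K := iterateFrobenius K p e

theorem sig_apply (x : K) : sig p e x = x ^ (p ^ e) := iterateFrobenius_def p e x

theorem sig_sig (hK : Fintype.card K = p ^ (2 * e)) (x : K) : sig p e (sig p e x) = x := by
  rw [sig_apply, sig_apply, ← pow_mul, ← pow_add, ← two_mul, ← hK, FiniteField.pow_card]

/-- Hermitian matrices. -/
def herm : AddSubgroup (Matrix (Fin 2) (Fin 2) K) where
  carrier := {H | (H.map (sig p e))ᵀ = H}
  zero_mem' := by simp
  add_mem' {a b} ha hb := by
    show ((a + b).map (sig p e))ᵀ = a + b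
    rw [Matrix.map_add _ (map_add _), transpose_add]
    exact congrArg₂ (· + ·) ha hb
  neg_mem' {a} ha := by
    show ((-a).map (sig p e))ᵀ = -a
    rw [Matrix.map_neg _ (map_neg _), transpose_neg]
    exact congrArg Neg.neg ha

theorem mem_herm (H : M2) : H ∈ herm p e ↔ (H.map (sig p e))ᵀ = H := Iff.rfl

variable (hK : Fintype.card K = p ^ (2 * e))

include hK in
theorem map_map_sig (g : M2) : (g.map (sig p e)).map (sig p e) = g := by
  ext i j; exact sig_sig p e hK _

include hK in
theorem congr_mem (g : SLK) {H : M2} (hH : H ∈ herm p e) :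
    (g : M2) * H * ((g : M2).map (sig p e))ᵀ ∈ herm p e := by
  rw [mem_herm] at hH ⊢
  rw [Matrix.map_mul, Matrix.map_mul, transpose_mul, transpose_mul, hH, transpose_map,
    map_map_sig p e hK, transpose_transpose, Matrix.mul_assoc]

/-- The action on Hermitian matrices. -/
noncomputable def act : Matrix.SpecialLinearGroup (Fin 2) K →* AddMonoid.End (herm (K := K) p e) where
  toFun g :=
    { toFun := fun H => ⟨(g : M2) * H.1 * ((g : M2).map (sig p e))ᵀ, congr_mem p e hK g H.2⟩
      map_zero' := Subtype.ext (by simp)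
      map_add' := fun a b => Subtype.ext (by simp [Matrix.mul_add, Matrix.add_mul]) }
  map_one' := AddMonoidHom.ext fun H => Subtype.ext (by
    show ((1 : SLK) : M2) * H.1 * (((1 : SLK) : M2).map (sig p e))ᵀ = H.1
    simp)
  map_mul' g g' := AddMonoidHom.ext fun H => Subtype.ext (by
    show ((g * g' : SLK) : M2) * H.1 * (((g * g' : SLK) : M2).map (sig p e))ᵀ =
      (g : M2) * ((g' : M2) * H.1 * ((g' : M2).map (sig p e))ᵀ) * ((g : M2).map (sig p e))ᵀ
    rw [Matrix.SpecialLinearGroup.coe_mul, Matrix.map_mul, transpose_mul]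
    simp only [Matrix.mul_assoc])

theorem act_center (z : SLK) (hz : z ∈ Subgroup.center SLK) : act p e hK z = 1 := by
  obtain ⟨r, hr, hz'⟩ := Matrix.SpecialLinearGroup.mem_center_iff.1 hz
  rw [Fintype.card_fin] at hr
  have hr' : r * sig p e r = 1 := by
    rcases sq_eq_one_iff.1 hr with h | h <;> simp [h]
  refine AddMonoidHom.ext fun H => Subtype.ext ?_
  show (z : M2) * H.1 * ((z : M2).map (sig p e))ᵀ = H.1
  ext i j
  rw [← hz']
  fin_cases i <;> fin_cases j <;>
    simp [Matrix.mul_apply, Fin.sum_univ_two] <;>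
    first | linear_combination H.1 0 0 * hr' | linear_combination H.1 0 1 * hr' |
      linear_combination H.1 1 0 * hr' | linear_combination H.1 1 1 * hr'

/-- The action of `PSL₂`. -/
noncomputable def actP :
    Matrix.ProjectiveSpecialLinearGroup (Fin 2) K →* AddMonoid.End (herm (K := K) p e) :=
  QuotientGroup.lift _ (act p e hK) fun z hz => act_center p e hK z hz

theorem actP_toP (g : SLK) : actP p e hK (toP g) = act p e hK g := rfl

/-- A fixed vector forces the trace into the subfield. -/
theorem trace_fixed (g : SLK) {H : herm (K := K) p e} (hH : act p e hK g H = H) (h0 : H ≠ 0) :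
    sig p e (g : M2).trace = (g : M2).trace := by
  set J : M2 := !![0, 1; -1, 0] with hJ
  set s : M2 := (g : M2).map (sig p e) with hs
  have hsdet : s 0 0 * s 1 1 - s 0 1 * s 1 0 = 1 := by
    have h := g.det_coe
    rw [det_fin_two] at h
    have h' := congrArg (sig p e) h
    simpa [hs] using h'
  have hdual : sᵀ * J * s = J := by
    ext i j
    fin_cases i <;> fin_cases j <;>
      simp [hJ, Matrix.mul_apply, Fin.sum_univ_two] <;>
      first | ring1 | linear_combination hsdet | linear_combination -hsdet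
  have hfix : (g : M2) * H.1 * sᵀ = H.1 := congrArg Subtype.val hH
  set W := H.1 * J with hW
  have hgW : (g : M2) * W = W * s := by
    calc (g : M2) * W = (g : M2) * H.1 * (sᵀ * J * s) := by rw [hdual, hW, Matrix.mul_assoc]
      _ = ((g : M2) * H.1 * sᵀ) * (J * s) := by simp only [Matrix.mul_assoc]
      _ = W * s := by rw [hfix, hW, Matrix.mul_assoc]
  set t := (g : M2).trace
  have e1 : (g : M2) * (g : M2) = t • (g : M2) - 1 := Cfsg.Agent.Lib.Linear.sl2_mul_self g
  have e2 : s * s = sig p e t • s - 1 := by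
    have h := congrArg (fun A : M2 => A.map (sig p e)) e1
    simp only [Matrix.map_mul, ← hs] at h
    rw [h]
    ext i j
    simp [hs, Matrix.one_apply, apply_ite (sig p e)]
  have key : (t - sig p e t) • (W * s) = 0 := by
    have h1 : (g : M2) * (g : M2) * W = W * (s * s) := by
      rw [Matrix.mul_assoc, hgW, ← Matrix.mul_assoc, hgW, Matrix.mul_assoc]
    rw [e1, e2, Matrix.sub_mul, Matrix.mul_sub, Matrix.smul_mul, Matrix.mul_smul, hgW, one_mul, mul_one,
      sub_left_inj] at h1
    rw [sub_smul, h1, sub_self]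
  by_contra hne
  rcases smul_eq_zero.1 key with h | h
  · exact hne (sub_eq_zero.1 h).symm
  · refine h0 (Subtype.ext ?_)
    have hs' : s * !![s 1 1, -s 0 1; -s 1 0, s 0 0] = 1 := by
      ext i j
      fin_cases i <;> fin_cases j <;>
        simp [Matrix.mul_apply, Fin.sum_univ_two] <;>
        first | ring1 | linear_combination hsdet
    have hW0 : W = 0 := by
      rw [← Matrix.mul_one W, ← hs', ← Matrix.mul_assoc, h, Matrix.zero_mul]
    have hJJ : J * (-J) = 1 := by
      ext i j
      fin_cases i <;> fin_cases j <;> simp [hJ, Matrix.mul_apply, Fin.sum_univ_two]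
    show H.1 = 0
    rw [← Matrix.mul_one H.1, ← hJJ, ← Matrix.mul_assoc, ← hW, hW0, Matrix.zero_mul]

/-- Orders of elements with trace in the subfield. -/
theorem orderOf_of_trace_fixed (g : SLK) (ht : sig p e (g : M2).trace = (g : M2).trace) :
    orderOf g ∣ 2 * p ∨ orderOf g ∣ p ^ e - 1 ∨ orderOf g ∣ p ^ e + 1 := by
  obtain ⟨μ, h⟩ := Cfsg.Agent.Lib.Linear.exists_isEigen g
  by_cases h2 : μ ^ 2 = 1
  · exact Or.inl (orderOf_dvd_of_pow_eq_one (Cfsg.Agent.Lib.Linear.pow_two_mul_char_eq_one p h h2))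
  right
  rw [Cfsg.Agent.Lib.Linear.orderOf_eq_orderOf_eigen h h2]
  have h0 := h.ne_zero
  have hT := h.trace_eq
  haveI : CharP (AlgebraicClosure K) p := charP_of_injective_ringHom (algebraMap K _).injective p
  have hT' : algebraMap K (AlgebraicClosure K) (g : M2).trace = μ ^ (p ^ e) + (μ ^ (p ^ e))⁻¹ := by
    conv_lhs => rw [← ht, sig_apply, map_pow, hT, add_pow_char_pow, inv_pow]
  have hpos : 1 ≤ p ^ e := Nat.one_le_pow _ _ (Fact.out : p.Prime).pos
  have h' : (μ ^ (p ^ e) - μ) * (μ ^ (p ^ e) * μ - 1) = 0 := by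
    have hne : μ ^ (p ^ e) ≠ 0 := pow_ne_zero _ h0
    rw [hT] at hT'
    field_simp at hT'
    linear_combination -hT'
  rcases mul_eq_zero.1 h' with h3 | h3
  · left
    apply orderOf_dvd_of_pow_eq_one
    apply mul_right_cancel₀ h0
    rw [← pow_succ, Nat.sub_add_cancel hpos, sub_eq_zero.1 h3, one_mul]
  · right
    exact orderOf_dvd_of_pow_eq_one (by rw [pow_succ, sub_eq_zero.1 h3])

/-- Diagonal elements. -/
noncomputable def dia (l : Kˣ) : Matrix.SpecialLinearGroup (Fin 2) K :=
  ⟨!![(l : K), 0; 0, ((l⁻¹ : Kˣ) : K)], by simp [det_fin_two]⟩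

theorem dia_pow (l : Kˣ) (n : ℕ) : dia l ^ n = dia (l ^ n) := by
  induction n with
  | zero =>
    rw [pow_zero, pow_zero]
    apply Subtype.ext
    show (1 : M2) = !![((1 : Kˣ) : K), 0; 0, (((1 : Kˣ)⁻¹ : Kˣ) : K)]
    ext i j
    fin_cases i <;> fin_cases j <;> simp
  | succ n ih =>
    rw [pow_succ, ih]
    apply Subtype.ext
    show (dia (l ^ n)).1 * (dia l).1 = (dia (l ^ (n + 1))).1
    ext i j
    fin_cases i <;> fin_cases j <;> simp [dia, pow_succ, Matrix.mul_apply, Fin.sum_univ_two, mul_comm]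

theorem toP_dia_eq_one (l : Kˣ) : toP (dia l) = 1 ↔ l ^ 2 = 1 := by
  rw [toP_eq_one_iff, Matrix.SpecialLinearGroup.mem_center_iff]
  constructor
  · rintro ⟨r, hr, h⟩
    rw [Fintype.card_fin] at hr
    have := congrFun (congrFun h 0) 0
    simp [dia] at this
    apply Units.ext
    rw [Units.val_pow_eq_pow_val, Units.val_one, ← this, hr]
  · intro h
    refine ⟨l, by rw [Fintype.card_fin, ← Units.val_pow_eq_pow_val, h, Units.val_one], ?_⟩
    have hl : l⁻¹ = l := by rw [inv_eq_iff_mul_eq_one, ← pow_two, h]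
    ext i j
    fin_cases i <;> fin_cases j <;> simp [dia, hl]

theorem orderOf_toP_dia (l : Kˣ) : orderOf (toP (dia l)) = orderOf (l ^ 2) :=
  orderOf_eq_orderOf_iff.2 fun n => by
    rw [← map_pow, dia_pow, toP_dia_eq_one, ← pow_mul, ← pow_mul, mul_comm]

end Cfsg.Agent.Lib.SpectrumExt.HermModule
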