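import Mathlib
import Cfsg.Agent.S2385
import Cfsg.Agent.Lib.Symplectic.Std

/-! Upper bound on the element orders of `PSp₄(q)`. -/

namespace Cfsg.Agent.Lib.SpectrumExt.PSp4

open Matrix Polynomial

set_option linter.unusedSectionVars false

variable {F : Type*} [Field F] [Fintype F]

/-- `gcd(2, q-1)`. -/
def dd (q : ℕ) : ℕ := if 2 ∣ q then 1 else 2

/-- The candidate spectrum. -/
def spec (p q : ℕ) : Set ℕ :=
  {m | m ∣ (q ^ 2 + 1) / dd q ∨ m ∣ (q ^ 2 - 1) / dd q ∨ m ∣ p * (q + 1) ∨ m ∣ p * (q - 1) ∨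
    (p = 3 ∧ m ∣ 9) ∨ (p = 2 ∧ m ∣ 4)}

section Field

variable {K : Type*} [Field K]

theorem exists_quad_root [IsAlgClosed K] (a b : K) : ∃ x : K, x ^ 2 - a * x + b = 0 := by
  obtain ⟨x, hx⟩ := IsAlgClosed.exists_root (C 1 * X ^ 2 + C (-a) * X + C b : K[X])
    (by rw [Polynomial.degree_quadratic one_ne_zero]; decide)
  exact ⟨x, by simp at hx; linear_combination hx⟩

theorem eq_or_mul_eq_one {x y : K} (hx : x ≠ 0) (hy : y ≠ 0) (h : x + x⁻¹ = y + y⁻¹) :
    x = y ∨ x * y = 1 := by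
  field_simp at h
  have h' : (x - y) * (x * y - 1) = 0 := by linear_combination h
  exact (mul_eq_zero.1 h').imp sub_eq_zero.1 sub_eq_zero.1

theorem prod_dvd (S : Finset K) (n : ℕ) (c : K) (h : ∀ x ∈ S, x ^ n = c) :
    (∏ x ∈ S, (X - C x)) ∣ (X ^ n - C c : K[X]) := by
  refine Finset.prod_dvd_of_coprime
    (fun x _ y _ hxy => Polynomial.pairwise_coprime_X_sub_C (s := id) Function.injective_id hxy) ?_
  intro x hx
  rw [Polynomial.dvd_iff_isRoot]
  simp [h x hx]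

variable {ι : Type*} [Fintype ι] [DecidableEq ι] {M : Matrix ι ι K} {f : K[X]}

theorem pow_eq_of_distinct (hM : Polynomial.aeval M f = 0) {μ ν ρ σ : K}
    (hf : f = (X - C μ) * (X - C ν) * (X - C ρ) * (X - C σ))
    (h1 : μ ≠ ν) (h2 : μ ≠ ρ) (h3 : μ ≠ σ) (h4 : ν ≠ ρ) (h5 : ν ≠ σ) (h6 : ρ ≠ σ) (n : ℕ) (c : K)
    (e1 : μ ^ n = c) (e2 : ν ^ n = c) (e3 : ρ ^ n = c) (e4 : σ ^ n = c) :
    M ^ n = c • (1 : Matrix ι ι K) := by
  classical
  have hd : f ∣ (X ^ n - C c : K[X]) := by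
    have h := prod_dvd {μ, ν, ρ, σ} n c (by simp [e1, e2, e3, e4])
    rw [Finset.prod_insert (by simp [h1, h2, h3]), Finset.prod_insert (by simp [h4, h5]),
      Finset.prod_insert (by simp [h6]), Finset.prod_singleton] at h
    rwa [hf, mul_assoc, mul_assoc]
  obtain ⟨r, hr⟩ := hd
  have h := congrArg (Polynomial.aeval M) hr
  rw [map_mul, hM, zero_mul, map_sub, map_pow, aeval_X, aeval_C, sub_eq_zero,
    Algebra.algebraMap_eq_smul_one] at h
  exact h

theorem pow_eq_of_sq (p : ℕ) [Fact p.Prime] [CharP K p] [Nonempty ι] (hM : Polynomial.aeval M f = 0)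
    (S : Finset K) (hf : f ∣ (∏ x ∈ S, (X - C x)) ^ 2) (n : ℕ) (c : K) (e : ∀ x ∈ S, x ^ n = c) :
    M ^ (n * p) = c ^ p • (1 : Matrix ι ι K) := by
  have hd : f ∣ (X ^ n - C c : K[X]) ^ p :=
    hf.trans ((pow_dvd_pow_of_dvd (prod_dvd S n c e) 2).trans (pow_dvd_pow _ (Fact.out : p.Prime).two_le))
  obtain ⟨r, hr⟩ := hd
  have h := congrArg (Polynomial.aeval M) hr
  rw [sub_pow_char, ← pow_mul, ← map_pow (C : K →+* K[X])] at h
  rw [map_mul, hM, zero_mul, map_sub, map_pow, aeval_X, aeval_C, sub_eq_zero,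
    Algebra.algebraMap_eq_smul_one] at h
  exact h

theorem pow_eq_of_single (p e : ℕ) [Fact p.Prime] [CharP K p] (hM : Polynomial.aeval M f = 0) (x : K)
    (hf : f ∣ (X - C x) ^ 4) (he : 4 ≤ p ^ e) :
    M ^ (p ^ e) = x ^ (p ^ e) • (1 : Matrix ι ι K) := by
  have hd : f ∣ (X - C x : K[X]) ^ (p ^ e) := hf.trans (pow_dvd_pow _ he)
  obtain ⟨r, hr⟩ := hd
  have h := congrArg (Polynomial.aeval M) hr
  rw [sub_pow_char_pow, ← map_pow (C : K →+* K[X])] at h
  rw [map_mul, hM, zero_mul, map_sub, map_pow, aeval_X, aeval_C, sub_eq_zero,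
    Algebra.algebraMap_eq_smul_one] at h
  exact h

theorem sign_pow {x : K} {N : ℕ} {q : ℕ} (h : x ^ N = 1) (hN : dd q ∣ N) :
    x ^ (N / dd q) = 1 ∨ x ^ (N / dd q) = -1 := by
  unfold dd at hN ⊢
  by_cases hq : 2 ∣ q
  · rw [if_pos hq, Nat.div_one]; exact Or.inl h
  · rw [if_neg hq] at hN ⊢
    rw [← sq_eq_one_iff, ← pow_mul, Nat.div_mul_cancel hN, h]

theorem pow_dvd_eq_one {x : K} {n N : ℕ} (h : x ^ n = 1) (hd : n ∣ N) : x ^ N = 1 := by
  obtain ⟨k, rfl⟩ := hd; rw [pow_mul, h, one_pow]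

end Field

theorem arith {q : ℕ} (hq : 1 ≤ q) :
    dd q ∣ q ^ 2 + 1 ∧ dd q ∣ q ^ 2 - 1 ∧ q - 1 ∣ (q ^ 2 - 1) / dd q ∧ q + 1 ∣ (q ^ 2 - 1) / dd q := by
  unfold dd
  by_cases h : 2 ∣ q
  · rw [if_pos h, Nat.div_one]
    exact ⟨one_dvd _, one_dvd _, ⟨q + 1, by rw [mul_comm, ← Nat.sq_sub_sq, one_pow]⟩,
      ⟨q - 1, by rw [← Nat.sq_sub_sq, one_pow]⟩⟩
  · rw [if_neg h]
    obtain ⟨k, rfl⟩ : ∃ k, q = 2 * k + 1 := ⟨q / 2, by omega⟩
    have e2 : (2 * k + 1) ^ 2 - 1 = 2 * (2 * k * (k + 1)) :=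
      Nat.sub_eq_of_eq_add (by ring)
    rw [e2, Nat.mul_div_cancel_left _ (by norm_num)]
    exact ⟨⟨2 * k ^ 2 + 2 * k + 1, by ring⟩, dvd_mul_right _ _,
      ⟨k + 1, by rw [Nat.add_sub_cancel]⟩, ⟨k, by ring⟩⟩

theorem two_pow_sign (p : ℕ) [Fact p.Prime] [CharP F p] :
    2 ∣ Fintype.card F → p = 2 := by
  intro h
  obtain ⟨e, hp, hc⟩ := FiniteField.card F p
  rw [hc] at h
  exact ((Nat.prime_dvd_prime_iff_eq Nat.prime_two hp).1 (Nat.prime_two.dvd_of_dvd_pow h)).symm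

theorem charpoly_form (g : ↥(Matrix.symplecticGroup (Fin 2) F)) :
    ∃ a b : F, (g : Matrix (Fin 2 ⊕ Fin 2) (Fin 2 ⊕ Fin 2) F).charpoly =
      X ^ 4 - C a * X ^ 3 + C b * X ^ 2 - C a * X + 1 := by
  classical
  set f := (g : Matrix (Fin 2 ⊕ Fin 2) (Fin 2 ⊕ Fin 2) F).charpoly with hf
  have hpal := Cfsg.Agent.S2385.charpoly_pal g
  rw [← hf] at hpal
  have hd : f.natDegree = 4 := by
    rw [hf, Matrix.charpoly_natDegree_eq_dim, Fintype.card_sum, Fintype.card_fin]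
  have h4 : f.coeff 4 = 1 := by
    have := (Matrix.charpoly_monic (g : Matrix (Fin 2 ⊕ Fin 2) (Fin 2 ⊕ Fin 2) F)).coeff_natDegree
    rw [← hf, hd] at this
    exact this
  have h0 : f.coeff 0 = 1 := (hpal 0 (by norm_num)).trans h4
  have h1 : f.coeff 1 = f.coeff 3 := hpal 1 (by norm_num)
  refine ⟨-f.coeff 3, f.coeff 2, ?_⟩
  conv_lhs => rw [f.as_sum_range_C_mul_X_pow, hd]
  simp [Finset.sum_range_succ, h4, h0, h1]
  ring

set_option maxHeartbeats 1000000 in
theorem orderOf_mem_spec (p : ℕ) [Fact p.Prime] [CharP F p] (y : Cfsg.PSp 2 F) :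
    orderOf y ∈ spec p (Fintype.card F) := by
  classical
  obtain ⟨g, rfl⟩ := QuotientGroup.mk_surjective y
  set q := Fintype.card F with hq
  have hq1 : 1 ≤ q := Fintype.card_pos
  obtain ⟨hdP, hdM, hm1, hp1⟩ := arith hq1
  obtain ⟨e, hpp, hqe⟩ := FiniteField.card F p
  let K := AlgebraicClosure F
  let φ : F →+* K := algebraMap F K
  haveI : CharP K p := charP_of_injective_ringHom φ.injective p
  let M : Matrix (Fin 2 ⊕ Fin 2) (Fin 2 ⊕ Fin 2) K := φ.mapMatrix g.1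
  have fin : ∀ (n : ℕ) (c : K), M ^ n = c • (1 : Matrix _ _ K) → (c = 1 ∨ c = -1) →
      orderOf (QuotientGroup.mk g : Cfsg.PSp 2 F) ∣ n := by
    intro n c h hc
    refine orderOf_dvd_of_pow_eq_one ?_
    rw [← QuotientGroup.mk_pow, QuotientGroup.eq_one_iff, Cfsg.Agent.Lib.Symplectic.mem_center_sp_iff]
    have hinj : Function.Injective (φ.mapMatrix (m := Fin 2 ⊕ Fin 2)) := by
      intro A B hAB
      ext i j
      exact φ.injective (congrFun (congrFun hAB i) j)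
    rw [← map_pow] at h
    rcases hc with rfl | rfl
    · left
      rw [SubmonoidClass.coe_pow]
      exact hinj (by rw [h, one_smul, map_one])
    · right
      rw [SubmonoidClass.coe_pow]
      exact hinj (by rw [h, neg_smul, one_smul, map_neg, map_one])
  obtain ⟨a, b, hab⟩ := charpoly_form g
  set f : K[X] := X ^ 4 - C (φ a) * X ^ 3 + C (φ b) * X ^ 2 - C (φ a) * X + 1 with hfdef
  have hM : Polynomial.aeval M f = 0 := by
    have h : M.charpoly = f := by
      show (φ.mapMatrix g.1).charpoly = f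
      rw [RingHom.mapMatrix_apply, Matrix.charpoly_map, hab, hfdef]
      simp
    rw [← h]; exact Matrix.aeval_self_charpoly M
  obtain ⟨u, hu'⟩ := exists_quad_root (φ a) (φ b - 2)
  set v := φ a - u with hv
  have hroot : ∀ w : K, ∃ μ : K, μ ≠ 0 ∧ μ + μ⁻¹ = w := by
    intro w
    obtain ⟨μ, hμ'⟩ := exists_quad_root w 1
    have h0 : μ ≠ 0 := by rintro rfl; simp at hμ'
    refine ⟨μ, h0, mul_right_cancel₀ h0 ?_⟩
    rw [add_mul, inv_mul_cancel₀ h0]
    linear_combination hμ'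
  obtain ⟨μ, hμ0, hμ⟩ := hroot u
  obtain ⟨ν, hν0, hν⟩ := hroot v
  have hμm : μ * μ⁻¹ = 1 := mul_inv_cancel₀ hμ0
  have hνm : ν * ν⁻¹ = 1 := mul_inv_cancel₀ hν0
  have hf : f = (X - C μ) * (X - C μ⁻¹) * (X - C ν) * (X - C ν⁻¹) := by
    have e1 : (X - C μ) * (X - C μ⁻¹) = (X ^ 2 - C u * X + 1 : K[X]) := by
      rw [← hμ, map_add]
      have : (C μ * C μ⁻¹ : K[X]) = 1 := by rw [← map_mul, hμm, map_one]
      linear_combination this
    have e2 : (X - C ν) * (X - C ν⁻¹) = (X ^ 2 - C v * X + 1 : K[X]) := by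
      rw [← hν, map_add]
      have : (C ν * C ν⁻¹ : K[X]) = 1 := by rw [← map_mul, hνm, map_one]
      linear_combination this
    rw [mul_assoc ((X - C μ) * (X - C μ⁻¹)), e1, e2, hfdef]
    have hb : φ b = u * v + 2 := by rw [hv]; linear_combination hu'
    have ha : φ a = u + v := by rw [hv]; ring
    rw [hb, ha, map_add, map_add, map_mul, map_ofNat]
    ring
  -- Frobenius
  have hfrob : ∀ x y : K, (x + y) ^ q = x ^ q + y ^ q := fun x y => by
    rw [hq, hqe, add_pow_char_pow]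
  have hsub : ∀ x y : K, (x - y) ^ q = x ^ q - y ^ q := fun x y => by
    rw [hq, hqe, sub_pow_char_pow]
  have hfix : ∀ r : F, φ r ^ q = φ r := fun r => by rw [← map_pow, FiniteField.pow_card]
  have h2q : (2 : K) ^ q = 2 := by
    have := hfix 2
    rwa [map_ofNat] at this
  have huq : u ^ q = u ∨ u ^ q = v := by
    have h0 : (u ^ 2 - φ a * u + (φ b - 2)) ^ q = 0 := by rw [hu', zero_pow (by omega)]
    rw [hfrob, hsub, hsub, mul_pow, hfix, hfix, h2q, ← pow_mul, mul_comm 2 q, pow_mul] at h0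
    have h' : (u ^ q - u) * (u ^ q - v) = 0 := by rw [hv]; linear_combination h0 - hu'
    exact (mul_eq_zero.1 h').imp sub_eq_zero.1 sub_eq_zero.1
  have hmove : ∀ (x : K) (w w' : K) (z : K), x ≠ 0 → z ≠ 0 → x + x⁻¹ = w → z + z⁻¹ = w' → w ^ q = w' →
      x ^ q = z ∨ x ^ q = z⁻¹ := by
    intro x w w' z hx hz hxw hzw hw
    have h : x ^ q + (x ^ q)⁻¹ = z + z⁻¹ := by rw [hzw, ← hw, ← hxw, hfrob, inv_pow]
    exact (eq_or_mul_eq_one (pow_ne_zero _ hx) hz h).imp_right eq_inv_of_mul_eq_one_left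
  have hself : ∀ (x w : K), x ≠ 0 → x + x⁻¹ = w → w ^ q = w → x ^ (q - 1) = 1 ∨ x ^ (q + 1) = 1 := by
    intro x w hx hxw hw
    rcases hmove x w w x hx hx hxw hxw hw with h | h
    · left
      rw [← mul_left_inj' hx, ← pow_succ, Nat.sub_add_cancel hq1, h, one_mul]
    · right
      rw [pow_succ, h, inv_mul_cancel₀ hx]
  by_cases hcase : u ^ q = u
  · -- rational case
    have hvq : v ^ q = v := by rw [hv, hsub, hfix, hcase]
    have hμp := hself μ u hμ0 hμ hcase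
    have hνp := hself ν v hν0 hν hvq
    by_cases huv : u = v
    · -- double root
      have hff : f = ((X - C μ) * (X - C μ⁻¹)) ^ 2 := by
        rcases eq_or_mul_eq_one hν0 hμ0 (hν.trans (huv ▸ hμ.symm)) with h | h
        · rw [hf, h]; ring
        · rw [hf, eq_inv_of_mul_eq_one_left h, inv_inv]; ring
      by_cases hμμ : μ = μ⁻¹
      · -- a single root
        have hff' : f ∣ (X - C μ) ^ 4 := dvd_of_eq (by rw [hff, ← hμμ]; ring)
        have hsq : μ = 1 ∨ μ = -1 := by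
          rw [← sq_eq_one_iff, pow_two]
          calc μ * μ = μ * μ⁻¹ := by rw [← hμμ]
            _ = 1 := hμm
        have hsign : ∀ n : ℕ, μ ^ n = 1 ∨ μ ^ n = -1 := fun n => by
          rcases hsq with h | h
          · exact Or.inl (by rw [h, one_pow])
          · rw [h]; exact neg_one_pow_eq_or K n
        rcases (by have := hpp.two_le; omega : p = 2 ∨ p = 3 ∨ 4 ≤ p) with h | h | h
        · subst h
          refine Or.inr (Or.inr (Or.inr (Or.inr (Or.inr ⟨rfl, ?_⟩))))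
          exact fin 4 _ (pow_eq_of_single 2 2 hM μ hff' (by norm_num)) (hsign _)
        · subst h
          refine Or.inr (Or.inr (Or.inr (Or.inr (Or.inl ⟨rfl, ?_⟩))))
          exact fin 9 _ (pow_eq_of_single 3 2 hM μ hff' (by norm_num)) (hsign _)
        · refine Or.inr (Or.inr (Or.inl (dvd_trans ?_ (dvd_mul_right p (q + 1)))))
          exact (fin (p ^ 1) _ (pow_eq_of_single p 1 hM μ hff' (by rwa [pow_one])) (hsign _)).trans
            (by rw [pow_one])
      · have hdvd : f ∣ (∏ x ∈ ({μ, μ⁻¹} : Finset K), (X - C x)) ^ 2 :=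
          dvd_of_eq (by rw [hff, Finset.prod_pair hμμ])
        rcases hμp with h | h
        · refine Or.inr (Or.inr (Or.inr (Or.inl ?_)))
          rw [mul_comm]
          exact fin _ _ (pow_eq_of_sq p hM _ hdvd (q - 1) 1 (by simp [inv_pow, h])) (Or.inl (one_pow p))
        · refine Or.inr (Or.inr (Or.inl ?_))
          rw [mul_comm]
          exact fin _ _ (pow_eq_of_sq p hM _ hdvd (q + 1) 1 (by simp [inv_pow, h])) (Or.inl (one_pow p))
    · -- different traces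
      have hne : ∀ x y : K, x + x⁻¹ = u → y + y⁻¹ = v → x ≠ y := fun x y hx hy h =>
        huv (by rw [← hx, ← hy, h])
      have hμi : μ⁻¹ + (μ⁻¹)⁻¹ = u := by rw [inv_inv, add_comm, hμ]
      have hνi : ν⁻¹ + (ν⁻¹)⁻¹ = v := by rw [inv_inv, add_comm, hν]
      have hodd : ∀ x : K, x ≠ 0 → x = x⁻¹ → x ^ (q + 1) = 1 ∧ x ^ (q - 1) = 1 := by
        intro x hx hxx
        have hx2 : x ^ 2 = 1 := by rw [pow_two]; nth_rewrite 1 [hxx]; exact inv_mul_cancel₀ hx
        by_cases hq2 : 2 ∣ q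
        · have hp2 := two_pow_sign (F := F) p hq2
          subst hp2
          have hx1 : x = 1 := by
            have h : (x - 1) ^ 2 = 0 := by rw [sub_pow_char, hx2, one_pow, sub_self]
            exact sub_eq_zero.1 (eq_zero_of_pow_eq_zero h)
          exact ⟨by rw [hx1, one_pow], by rw [hx1, one_pow]⟩
        · exact ⟨pow_dvd_eq_one hx2 (by omega), pow_dvd_eq_one hx2 (by omega)⟩
      by_cases hμμ : μ = μ⁻¹
      · have hS : f ∣ (∏ x ∈ insert μ ({ν, ν⁻¹} : Finset K), (X - C x)) ^ 2 := by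
          rw [Finset.prod_insert (by simp [hne μ ν hμ hν, hne μ ν⁻¹ hμ hνi])]
          by_cases hνν : ν = ν⁻¹
          · rw [hf, ← hμμ, ← hνν, Finset.pair_eq_singleton, Finset.prod_singleton]
            exact dvd_of_eq (by ring)
          · rw [hf, ← hμμ, Finset.prod_pair hνν]
            exact ⟨(X - C ν) * (X - C ν⁻¹), by ring⟩
        rcases hνp with h | h
        · refine Or.inr (Or.inr (Or.inr (Or.inl ?_)))
          rw [mul_comm]
          exact fin _ _ (pow_eq_of_sq p hM _ hS (q - 1) 1 (by simp [inv_pow, h, (hodd μ hμ0 hμμ).2]))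
            (Or.inl (one_pow p))
        · refine Or.inr (Or.inr (Or.inl ?_))
          rw [mul_comm]
          exact fin _ _ (pow_eq_of_sq p hM _ hS (q + 1) 1 (by simp [inv_pow, h, (hodd μ hμ0 hμμ).1]))
            (Or.inl (one_pow p))
      by_cases hνν : ν = ν⁻¹
      · have hS : f ∣ (∏ x ∈ insert ν ({μ, μ⁻¹} : Finset K), (X - C x)) ^ 2 := by
          rw [Finset.prod_insert (by simp [(hne μ ν hμ hν).symm, (hne μ⁻¹ ν hμi hν).symm]),
            Finset.prod_pair hμμ, hf, ← hνν]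
          exact ⟨(X - C μ) * (X - C μ⁻¹), by ring⟩
        rcases hμp with h | h
        · refine Or.inr (Or.inr (Or.inr (Or.inl ?_)))
          rw [mul_comm]
          exact fin _ _ (pow_eq_of_sq p hM _ hS (q - 1) 1 (by simp [inv_pow, h, (hodd ν hν0 hνν).2]))
            (Or.inl (one_pow p))
        · refine Or.inr (Or.inr (Or.inl ?_))
          rw [mul_comm]
          exact fin _ _ (pow_eq_of_sq p hM _ hS (q + 1) 1 (by simp [inv_pow, h, (hodd ν hν0 hνν).1]))
            (Or.inl (one_pow p))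
      refine Or.inr (Or.inl ?_)
      have hk : ∀ x : K, (x ^ (q - 1) = 1 ∨ x ^ (q + 1) = 1) → x ^ ((q ^ 2 - 1) / dd q) = 1 :=
        fun x hx => hx.elim (fun h => pow_dvd_eq_one h hm1) (fun h => pow_dvd_eq_one h hp1)
      refine fin _ 1 (pow_eq_of_distinct hM hf hμμ (hne μ ν hμ hν) (hne μ ν⁻¹ hμ hνi) (hne μ⁻¹ ν hμi hν)
        (hne μ⁻¹ ν⁻¹ hμi hνi) hνν _ 1 (hk μ hμp) ?_ (hk ν hνp) ?_) (Or.inl rfl)
      · rw [inv_pow, hk μ hμp, inv_one]
      · rw [inv_pow, hk ν hνp, inv_one]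
  · -- conjugate case
    have huq' : u ^ q = v := huq.resolve_left hcase
    have hvq : v ^ q = u := by rw [hv, hsub, hfix, huq', hv]; ring
    have huv : u ≠ v := fun h => hcase (by rw [huq', ← h])
    have hne : ∀ x y : K, x + x⁻¹ = u → y + y⁻¹ = v → x ≠ y := fun x y hx hy h =>
      huv (by rw [← hx, ← hy, h])
    have hμi : μ⁻¹ + (μ⁻¹)⁻¹ = u := by rw [inv_inv, add_comm, hμ]
    have hνi : ν⁻¹ + (ν⁻¹)⁻¹ = v := by rw [inv_inv, add_comm, hν]
    have hnself : ∀ x w : K, x ≠ 0 → x + x⁻¹ = w → w ^ q ≠ w → x ≠ x⁻¹ := by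
      intro x w hx hxw hw hxx
      have hx2 : x ^ 2 = 1 := by rw [pow_two]; nth_rewrite 1 [hxx]; exact inv_mul_cancel₀ hx
      apply hw
      rw [← hxw, ← hxx, hfrob]
      rcases sq_eq_one_iff.1 hx2 with h | h
      · rw [h, one_pow]
      · rw [h]
        have := hfix (-1)
        rw [map_neg, map_one] at this
        rw [this]
    have hμμ := hnself μ u hμ0 hμ (by rw [huq']; exact Ne.symm huv)
    have hνν := hnself ν v hν0 hν (by rw [hvq]; exact huv)
    have h1 := hmove μ u v ν hμ0 hν0 hμ hν huq'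
    have h2 := hmove ν v u μ hν0 hμ0 hν hμ hvq
    have h3 : μ ^ (q ^ 2) = μ ∨ μ ^ (q ^ 2) = μ⁻¹ := by
      rw [pow_two, pow_mul]
      rcases h1 with h | h <;> rcases h2 with h' | h' <;> rw [h] <;> (try rw [inv_pow]) <;> rw [h'] <;> first | exact Or.inl rfl | exact Or.inr rfl | simp
    obtain ⟨N, hN, hNd, hodd'⟩ : ∃ N, μ ^ N = 1 ∧ dd q ∣ N ∧
        (N = q ^ 2 + 1 ∨ N = q ^ 2 - 1) := by
      rcases h3 with h | h
      · refine ⟨q ^ 2 - 1, ?_, hdM, Or.inr rfl⟩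
        rw [← mul_left_inj' hμ0, ← pow_succ, Nat.sub_add_cancel (Nat.one_le_pow _ _ hq1), h, one_mul]
      · exact ⟨q ^ 2 + 1, by rw [pow_succ, h, inv_mul_cancel₀ hμ0], hdP, Or.inl rfl⟩
    obtain ⟨c, hc, hcpm⟩ : ∃ c : K, μ ^ (N / dd q) = c ∧ (c = 1 ∨ c = -1) :=
      ⟨_, rfl, sign_pow hN hNd⟩
    have hcq : c ^ q = c := by
      rcases hcpm with h | h
      · rw [h, one_pow]
      · rw [h]
        have := hfix (-1)
        rw [map_neg, map_one] at this
        exact this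
    have hci : c⁻¹ = c := by rcases hcpm with h | h <;> rw [h] <;> simp
    have hνc : ν ^ (N / dd q) = c := by
      rcases h1 with h | h
      · rw [← h, ← pow_mul, mul_comm, pow_mul, hc, hcq]
      · rw [← inv_inv ν, ← h, inv_pow, ← pow_mul, mul_comm, pow_mul, hc, hcq, hci]
    have hres := fin _ c (pow_eq_of_distinct hM hf hμμ (hne μ ν hμ hν) (hne μ ν⁻¹ hμ hνi)
      (hne μ⁻¹ ν hμi hν) (hne μ⁻¹ ν⁻¹ hμi hνi) hνν _ c hc (by rw [inv_pow, hc, hci]) hνc
      (by rw [inv_pow, hνc, hci])) hcpm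
    rcases hodd' with rfl | rfl
    · exact Or.inl hres
    · exact Or.inr (Or.inl hres)

end Cfsg.Agent.Lib.SpectrumExt.PSp4
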