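import Mathlib
import Cfsg.Agent.Lib.SpectrumExt.PSp4Upper
import Cfsg.Agent.Lib.FieldRed.Basic
import Cfsg.Agent.Lib.Linear.SL2

/-! Element orders of `PSp₄(q)`. -/

namespace Cfsg.Agent.Lib.SpectrumExt.PSp4

open Matrix

set_option linter.unusedSectionVars false

variable {F : Type*} [Field F] [Fintype F]

local notation "SL2" => Matrix.SpecialLinearGroup (Fin 2) F
local notation "Sp4" => Matrix.symplecticGroup (Fin 2) F
local notation "M4" => Matrix (Fin 2 ⊕ Fin 2) (Fin 2 ⊕ Fin 2) F

theorem mem_range_of_dvd {G : Type*} [Group G] [Finite G] (y : G) {m : ℕ} (hm : m ∣ orderOf y) :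
    m ∈ Set.range (orderOf : G → ℕ) :=
  let ⟨c, hc⟩ := hm
  ⟨y ^ c, by
    have hpos : 0 < orderOf y := orderOf_pos _
    have hc0 : 0 < c := Nat.pos_of_ne_zero fun h => by rw [h, mul_zero] at hc; omega
    rw [orderOf_pow, hc, Nat.gcd_eq_right (Dvd.intro_left m rfl), Nat.mul_div_cancel _ hc0]⟩

theorem mk_eq_one_iff (g : Sp4) : (g : Cfsg.PSp 2 F) = 1 ↔ (g : M4) = 1 ∨ (g : M4) = -1 := by
  rw [QuotientGroup.eq_one_iff, Cfsg.Agent.Lib.Symplectic.mem_center_sp_iff]

/-- A pair of `2 × 2` matrices on the hyperbolic planes. -/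
def pairMat (F : Type*) [Field F] (a b : Matrix (Fin 2) (Fin 2) F) :
    Matrix (Fin 2 ⊕ Fin 2) (Fin 2 ⊕ Fin 2) F :=
  fromBlocks (diagonal ![a 0 0, b 0 0]) (diagonal ![a 0 1, b 0 1])
    (diagonal ![a 1 0, b 1 0]) (diagonal ![a 1 1, b 1 1])

omit [Fintype F] in
theorem pairMat_mul (a b a' b' : Matrix (Fin 2) (Fin 2) F) :
    pairMat F a b * pairMat F a' b' = pairMat F (a * a') (b * b') := by
  simp only [pairMat, fromBlocks_multiply, diagonal_mul_diagonal, diagonal_add]
  congr 1 <;> congr 1 <;> funext i <;> fin_cases i <;> simp [Matrix.mul_apply, Fin.sum_univ_two]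

omit [Fintype F] in
theorem pairMat_smul_one (c : F) : pairMat F (c • 1) (c • 1) = c • 1 := by
  ext (i | i) (j | j) <;> fin_cases i <;> fin_cases j <;> simp [pairMat]

omit [Fintype F] in
theorem pairMat_inj {a b a' b' : Matrix (Fin 2) (Fin 2) F} (h : pairMat F a b = pairMat F a' b') :
    a = a' ∧ b = b' := by
  obtain ⟨h1, h2, h3, h4⟩ := fromBlocks_inj.1 h
  have e1 := diagonal_injective h1
  have e2 := diagonal_injective h2
  have e3 := diagonal_injective h3
  have e4 := diagonal_injective h4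
  constructor
  · ext i j
    fin_cases i <;> fin_cases j
    exacts [congrFun e1 0, congrFun e2 0, congrFun e3 0, congrFun e4 0]
  · ext i j
    fin_cases i <;> fin_cases j
    exacts [congrFun e1 1, congrFun e2 1, congrFun e3 1, congrFun e4 1]

/-- The embedding of `SL₂ × SL₂`. -/
def pair (F : Type*) [Field F] :
    Matrix.SpecialLinearGroup (Fin 2) F × Matrix.SpecialLinearGroup (Fin 2) F →*
      Matrix.symplecticGroup (Fin 2) F where
  toFun x := ⟨pairMat F x.1.1 x.2.1, by
    have h1 := x.1.det_coe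
    have h2 := x.2.det_coe
    rw [det_fin_two] at h1 h2
    rw [SymplecticGroup.mem_iff, pairMat, Matrix.J]
    simp only [fromBlocks_transpose, fromBlocks_multiply, diagonal_transpose, Matrix.mul_zero,
      Matrix.mul_one, mul_neg, neg_mul, diagonal_mul_diagonal, diagonal_add, diagonal_neg,
      zero_add, add_zero]
    congr 1
    all_goals first
      | (rw [← diagonal_zero]; congr 1; funext i; fin_cases i <;> simp <;> ring)
      | (rw [← diagonal_one]; congr 1; funext i; fin_cases i <;> simp <;>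
          first | linear_combination h1 | linear_combination h2)
      | (rw [← diagonal_one, diagonal_neg]; congr 1; funext i; fin_cases i <;> simp <;>
          first | linear_combination -h1 | linear_combination -h2)⟩
  map_one' := Subtype.ext (by
    have h := pairMat_smul_one (1 : F)
    rw [one_smul, one_smul] at h
    exact h)
  map_mul' x y := Subtype.ext (pairMat_mul x.1.1 x.2.1 y.1.1 y.2.1).symm

theorem pair_eq_one {x y : SL2} (h : ((pair F (x, y) : Sp4) : Cfsg.PSp 2 F) = 1) :
    ∃ c : F, (x : Matrix (Fin 2) (Fin 2) F) = c • 1 ∧ (y : Matrix (Fin 2) (Fin 2) F) = c • 1 := by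
  obtain ⟨c, hc⟩ : ∃ c : F, pairMat F x.1 y.1 = c • 1 := by
    rcases (mk_eq_one_iff _).1 h with h | h
    · exact ⟨1, by rw [one_smul]; exact h⟩
    · exact ⟨-1, by rw [neg_smul, one_smul]; exact h⟩
  rw [← pairMat_smul_one] at hc
  exact ⟨c, pairMat_inj hc⟩

theorem mixed_mem (p : ℕ) [Fact p.Prime] [CharP F p] (t : SL2) (ht : Nat.Coprime p (orderOf t)) :
    p * orderOf t ∈ Set.range (orderOf : Cfsg.PSp 2 F → ℕ) := by
  let u : SL2 := ⟨!![1, 1; 0, 1], by simp [det_fin_two]⟩
  have hu : ∀ n : ℕ, (u : Matrix (Fin 2) (Fin 2) F) ^ n = !![1, (n : F); 0, 1] := by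
    intro n
    induction n with
    | zero => ext i j; fin_cases i <;> fin_cases j <;> simp
    | succ n ih =>
      rw [pow_succ, ih]
      ext i j
      fin_cases i <;> fin_cases j <;> simp [u, mul_apply, Fin.sum_univ_two, add_comm]
  refine mem_range_of_dvd ((pair F (u, t) : Sp4) : Cfsg.PSp 2 F) ?_
  set k := orderOf ((pair F (u, t) : Sp4) : Cfsg.PSp 2 F)
  have hk : ((pair F (u ^ k, t ^ k) : Sp4) : Cfsg.PSp 2 F) = 1 := by
    have e : (u ^ k, t ^ k) = (u, t) ^ k := rfl
    rw [e, map_pow, QuotientGroup.mk_pow, pow_orderOf_eq_one]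
  obtain ⟨c, h1, h2⟩ := pair_eq_one hk
  rw [Matrix.SpecialLinearGroup.coe_pow, hu] at h1
  have hc : c = 1 := by simpa using (congrFun (congrFun h1 0) 0).symm
  have hk0 : (k : F) = 0 := by simpa using congrFun (congrFun h1 0) 1
  refine ht.mul_dvd_of_dvd_of_dvd ((CharP.cast_eq_zero_iff F p k).1 hk0) (orderOf_dvd_of_pow_eq_one ?_)
  exact Subtype.ext (by rw [h2, hc, one_smul]; rfl)

omit [Fintype F] in
theorem reg_mem (A B D : Matrix (Fin 2) (Fin 2) F) (h1 : A * Dᵀ = 1) (h2 : A * Bᵀ = B * Aᵀ) :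
    fromBlocks A B 0 D ∈ Sp4 := by
  have h3 : D * Aᵀ = 1 := by
    have := congrArg Matrix.transpose h1
    rwa [transpose_mul, transpose_transpose, transpose_one] at this
  rw [SymplecticGroup.mem_iff, Matrix.J]
  simp [fromBlocks_transpose, fromBlocks_multiply, h1, h3, h2]

theorem nine_four_mem (p : ℕ) [Fact p.Prime] [CharP F p] (hp : p = 2 ∨ p = 3) :
    p * p ∈ Set.range (orderOf : Cfsg.PSp 2 F → ℕ) := by
  let A : Matrix (Fin 2) (Fin 2) F := !![1, 1; 0, 1]
  let B : Matrix (Fin 2) (Fin 2) F := !![0, 1; 0, 1]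
  let D : Matrix (Fin 2) (Fin 2) F := !![1, 0; -1, 1]
  let g : Sp4 := ⟨fromBlocks A B 0 D, reg_mem A B D
    (by ext i j; fin_cases i <;> fin_cases j <;> simp [A, D, Matrix.mul_apply, Fin.sum_univ_two])
    (by ext i j; fin_cases i <;> fin_cases j <;> simp [A, B, Matrix.mul_apply, Fin.sum_univ_two])⟩
  obtain ⟨C, hC, hC0⟩ : ∃ C : Matrix (Fin 2) (Fin 2) F,
      (g : M4) ^ p = fromBlocks 1 C 0 1 ∧ C 0 0 ≠ 0 := by
    have hp0 : (p : F) = 0 := CharP.cast_eq_zero F p
    rcases hp with rfl | rfl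
    · have h2 : (2 : F) = 0 := by exact_mod_cast hp0
      refine ⟨A * B + B * D, ?_, ?_⟩
      · show fromBlocks A B 0 D ^ 2 = _
        rw [pow_two, fromBlocks_multiply]
        simp only [Matrix.mul_zero, Matrix.zero_mul, zero_add, add_zero]
        congr 1 <;> ext i j <;> fin_cases i <;> fin_cases j <;>
          simp [A, D, Matrix.mul_apply, Fin.sum_univ_two] <;>
          first | linear_combination h2 | linear_combination -h2 | linear_combination 2 * h2 | linear_combination -2 * h2
      · simp [A, B, D, Matrix.mul_apply, Fin.sum_univ_two]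
    · have h3 : (3 : F) = 0 := by exact_mod_cast hp0
      refine ⟨A * (A * B + B * D) + B * (D * D), ?_, ?_⟩
      · show fromBlocks A B 0 D ^ 3 = _
        rw [pow_three, fromBlocks_multiply, fromBlocks_multiply]
        simp only [Matrix.mul_zero, Matrix.zero_mul, zero_add, add_zero]
        congr 1 <;> ext i j <;> fin_cases i <;> fin_cases j <;>
          simp [A, D, Matrix.mul_apply, Fin.sum_univ_two] <;>
          first | linear_combination h3 | linear_combination -h3 | linear_combination 2 * h3 | linear_combination -2 * h3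
      · simp [A, B, D, Matrix.mul_apply, Fin.sum_univ_two]
        intro h
        exact one_ne_zero (α := F) (by linear_combination -h - h3)
  refine ⟨(g : Cfsg.PSp 2 F), ?_⟩
  rw [show p * p = p ^ (1 + 1) by rw [pow_succ, pow_one]]
  refine orderOf_eq_prime_pow ?_ ?_
  · rw [pow_one, ← QuotientGroup.mk_pow, mk_eq_one_iff, SubmonoidClass.coe_pow, hC]
    rintro (h | h) <;> exact hC0 (by simpa using congrFun (congrFun h (Sum.inl 0)) (Sum.inr 0))
  · rw [← QuotientGroup.mk_pow, mk_eq_one_iff, SubmonoidClass.coe_pow, pow_succ, pow_one, pow_mul, hC]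
    left
    have hn : ∀ n : ℕ, (fromBlocks 1 C 0 1 : M4) ^ n = fromBlocks 1 ((n : F) • C) 0 1 := by
      intro n
      induction n with
      | zero => simp [fromBlocks_one]
      | succ n ih => rw [pow_succ, ih, fromBlocks_multiply]; simp [add_smul, add_comm]
    rw [hn, CharP.cast_eq_zero, zero_smul, fromBlocks_one]

theorem exists_ext_field (p : ℕ) [Fact p.Prime] [CharP F p] :
    ∃ (K : Type) (_ : Field K) (_ : Fintype K), Fintype.card K = Fintype.card F ^ 2 := by
  obtain ⟨e, -, hc⟩ := FiniteField.card F p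
  letI hft : Fintype (GaloisField p (2 * e)) := Fintype.ofFinite _
  refine ⟨GaloisField p (2 * e), inferInstance, hft, ?_⟩
  rw [← Nat.card_eq_fintype_card, GaloisField.card p _ (by simp), hc, ← pow_mul, mul_comm]

theorem exists_sl2_hom {K : Type*} [Field K] [Fintype K] (hK : Fintype.card K = Fintype.card F ^ 2) :
    ∃ φ : Matrix.SpecialLinearGroup (Fin 2) K →* Sp4, Function.Injective φ := by
  obtain ⟨ι⟩ := FieldRed.exists_ringHom hK
  letI := ι.toAlgebra
  have hfin := FieldRed.finrank_eq (F := F) (K := K) hK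
  haveI : FiniteDimensional F K := FiniteDimensional.of_finrank_pos (by omega)
  let b := Module.finBasisOfFinrankEq F K hfin
  obtain ⟨φ1, h1⟩ := FieldRed.exists_symplectic_hom (l := Fin 1) b
  obtain ⟨φ2, h2⟩ := FieldRed.exists_symplectic_reindex (R := F)
    ((Equiv.uniqueProd (Fin 2) (Fin 1)) : Fin 1 × Fin 2 ≃ Fin 2)
  let φ0 : Matrix.SpecialLinearGroup (Fin 2) K →* Matrix.symplecticGroup (Fin 1) K :=
    { toFun := fun x => ⟨fromBlocks (of fun _ _ => x.1 0 0) (of fun _ _ => x.1 0 1)
        (of fun _ _ => x.1 1 0) (of fun _ _ => x.1 1 1), by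
          have h := x.det_coe
          rw [det_fin_two] at h
          rw [SymplecticGroup.mem_iff, Matrix.J]
          ext (i | i) (j | j) <;> fin_cases i <;> fin_cases j <;>
            simp [Matrix.mul_apply] <;> first | ring1 | linear_combination h | linear_combination -h⟩
      map_one' := Subtype.ext (by
        ext (i | i) (j | j) <;> fin_cases i <;> fin_cases j <;> simp [Matrix.one_apply])
      map_mul' := fun x y => Subtype.ext (by
        ext (i | i) (j | j) <;> fin_cases i <;> fin_cases j <;>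
          simp [Matrix.mul_apply, Fin.sum_univ_two]) }
  have h0 : Function.Injective φ0 := fun x y h => Subtype.ext (by
    have h' := congrArg Subtype.val h
    ext i j
    fin_cases i <;> fin_cases j
    exacts [congrFun (congrFun h' (Sum.inl 0)) (Sum.inl 0), congrFun (congrFun h' (Sum.inl 0)) (Sum.inr 0),
      congrFun (congrFun h' (Sum.inr 0)) (Sum.inl 0), congrFun (congrFun h' (Sum.inr 0)) (Sum.inr 0)])
  exact ⟨φ2.comp (φ1.comp φ0), h2.comp (h1.comp h0)⟩

theorem torus_mem (p : ℕ) [Fact p.Prime] [CharP F p] :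
    (Fintype.card F ^ 2 + 1) / dd (Fintype.card F) ∈ Set.range (orderOf : Cfsg.PSp 2 F → ℕ) ∧
      (Fintype.card F ^ 2 - 1) / dd (Fintype.card F) ∈ Set.range (orderOf : Cfsg.PSp 2 F → ℕ) := by
  classical
  obtain ⟨K, _, _, hK⟩ := exists_ext_field (F := F) p
  obtain ⟨φ, hφ⟩ := exists_sl2_hom hK
  have key : ∀ x : Matrix.SpecialLinearGroup (Fin 2) K, dd (Fintype.card F) ∣ orderOf x →
      orderOf x / dd (Fintype.card F) ∈ Set.range (orderOf : Cfsg.PSp 2 F → ℕ) := by
    intro x hev
    refine mem_range_of_dvd ((φ x : Sp4) : Cfsg.PSp 2 F) ?_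
    set k := orderOf ((φ x : Sp4) : Cfsg.PSp 2 F)
    have hk : (((φ x) ^ k : Sp4) : Cfsg.PSp 2 F) = 1 := by rw [QuotientGroup.mk_pow, pow_orderOf_eq_one]
    have hx : ∀ n, (φ x : M4) ^ n = 1 → orderOf x ∣ n := fun n h => orderOf_dvd_of_pow_eq_one (hφ (by
      rw [map_pow, map_one]; exact Subtype.ext (by rw [SubmonoidClass.coe_pow, h]; rfl)))
    rw [mk_eq_one_iff, SubmonoidClass.coe_pow] at hk
    by_cases hd : dd (Fintype.card F) = 1
    · rw [hd, Nat.div_one]
      refine hx k ?_
      rcases hk with h | h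
      · exact h
      · have h2 : 2 ∣ Fintype.card F := by
          by_contra h2; simp [dd, h2] at hd
        have hp2 := two_pow_sign (F := F) p h2
        subst hp2
        rw [h]
        ext i j
        simp [Matrix.one_apply, CharTwo.neg_eq]
    · have hd2 : dd (Fintype.card F) = 2 := by
        unfold dd at hd ⊢; split_ifs at hd ⊢ <;> simp_all
      rw [hd2]
      have h2 : orderOf x ∣ 2 * k := by
        refine hx (2 * k) ?_
        rw [mul_comm, pow_mul]
        rcases hk with h | h <;> rw [h]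
        · exact one_pow 2
        · exact neg_one_sq
      rw [hd2] at hev
      obtain ⟨n, hn⟩ := hev
      rw [hn] at h2 ⊢
      rw [Nat.mul_div_cancel_left _ (by norm_num : 0 < 2)]
      exact Nat.dvd_of_mul_dvd_mul_left (by norm_num) h2
  obtain ⟨hdP, hdM, -, -⟩ := arith (q := Fintype.card F) Fintype.card_pos
  constructor
  · obtain ⟨x, hx⟩ := Cfsg.Agent.Lib.Linear.exists_orderOf_eq_card_add_one (F := K)
    rw [hK] at hx
    exact hx ▸ key x (hx ▸ hdP)
  · obtain ⟨x, hx⟩ := Cfsg.Agent.Lib.Linear.exists_orderOf_eq_card_sub_one (F := K)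
    rw [hK] at hx
    exact hx ▸ key x (hx ▸ hdM)

/-- The spectrum of `PSp₄(q)`. -/
theorem range_orderOf (p : ℕ) [Fact p.Prime] [CharP F p] :
    Set.range (orderOf : Cfsg.PSp 2 F → ℕ) = spec p (Fintype.card F) := by
  classical
  refine Set.Subset.antisymm ?_ ?_
  · rintro _ ⟨y, rfl⟩; exact orderOf_mem_spec p y
  have hdiv : ∀ n ∈ Set.range (orderOf : Cfsg.PSp 2 F → ℕ), ∀ m, m ∣ n →
      m ∈ Set.range (orderOf : Cfsg.PSp 2 F → ℕ) := by
    rintro _ ⟨y, rfl⟩ m hm; exact mem_range_of_dvd y hm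
  obtain ⟨e, hp, hc⟩ := FiniteField.card F p
  have hpq : p ∣ Fintype.card F := hc ▸ dvd_pow_self p e.ne_zero
  obtain ⟨hP, hM⟩ := torus_mem (F := F) p
  intro m hm
  rcases hm with h | h | h | h | ⟨h3, h⟩ | ⟨h2, h⟩
  · exact hdiv _ hP m h
  · exact hdiv _ hM m h
  · obtain ⟨t, ht⟩ := Cfsg.Agent.Lib.Linear.exists_orderOf_eq_card_add_one (F := F)
    refine hdiv _ (mixed_mem p t ?_) m (by rw [ht]; exact h)
    rw [ht, hp.coprime_iff_not_dvd, Nat.dvd_add_right hpq, Nat.dvd_one]
    exact hp.ne_one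
  · obtain ⟨t, ht⟩ := Cfsg.Agent.Lib.Linear.exists_orderOf_eq_card_sub_one (F := F)
    refine hdiv _ (mixed_mem p t ?_) m (by rw [ht]; exact h)
    rw [ht, hp.coprime_iff_not_dvd]
    intro hd
    have h1 := Nat.dvd_sub hpq hd
    rw [Nat.sub_sub_self Fintype.card_pos, Nat.dvd_one] at h1
    exact hp.ne_one h1
  · subst h3; exact hdiv _ (nine_four_mem 3 (Or.inr rfl)) m h
  · subst h2; exact hdiv _ (nine_four_mem 2 (Or.inl rfl)) m h

end Cfsg.Agent.Lib.SpectrumExt.PSp4
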