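import Mathlib
import Cfsg.Agent.Lib.SpectrumExt.HermModule
import Cfsg.Agent.Lib.SpectrumExt.Semidirect
import Cfsg.Agent.Lib.SpectrumExt.PSp4

/-! A group with the element orders of `PSp₄(2^e)`. -/

namespace Cfsg.Agent.Lib.SpectrumExt.HermEven

open Matrix
open Cfsg.Agent.Lib.RecogThree.PSL2Orders (toP toP_eq_one_iff toP_surjective)
open Cfsg.Agent.Lib.SpectrumExt.HermModule
open Cfsg.Agent.Lib.SpectrumExt.Semidirect (Ext)

set_option linter.unusedSectionVars false

variable {K : Type} [Field K] [Fintype K] [CharP K 2] {e : ℕ} (hK : Fintype.card K = 2 ^ (2 * e))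

local notation "V" => herm (K := K) 2 e
local notation "rh" => actP 2 e hK

theorem two_smul_zero (H : V) : 2 • H = 0 := Subtype.ext (by
  show 2 • H.1 = 0
  rw [two_nsmul]
  ext i j
  simp [CharTwo.add_self_eq_zero])

/-- The vector supported at the first corner. -/
noncomputable def corner : V :=
  ⟨!![1, 0; 0, 0], by rw [mem_herm]; ext i j; fin_cases i <;> fin_cases j <;> simp⟩

/-- The vector supported at the second corner. -/
noncomputable def corner' : V :=
  ⟨!![0, 0; 0, 1], by rw [mem_herm]; ext i j; fin_cases i <;> fin_cases j <;> simp⟩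

/-- The off-diagonal vector. -/
noncomputable def offDiag : V :=
  ⟨!![0, 1; 1, 0], by rw [mem_herm]; ext i j; fin_cases i <;> fin_cases j <;> simp⟩

theorem nontriv : Nontrivial V :=
  ⟨⟨corner, 0, fun h => one_ne_zero (congrArg (fun H : V => H.1 0 0) h)⟩⟩

theorem norm_eq_nsmul {x : Matrix.ProjectiveSpecialLinearGroup (Fin 2) K} {H : V} (h : rh x H = H) :
    Semidirect.norm rh x (orderOf x) H = orderOf x • H := by
  have hp : ∀ i, rh (x ^ i) H = H := by
    intro i
    induction i with
    | zero => rw [pow_zero, map_one]; rfl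
    | succ i ih =>
      rw [pow_succ, map_mul]
      show rh (x ^ i) (rh x H) = H
      rw [h, ih]
  simp only [Semidirect.norm, hp, Finset.sum_const, Finset.card_range]

theorem dd_q (he : 1 ≤ e) : PSp4.dd (2 ^ e) = 1 := if_pos (dvd_pow_self 2 (by omega))

include hK in
theorem range_X (he : 1 ≤ e) :
    Set.range (orderOf : Matrix.ProjectiveSpecialLinearGroup (Fin 2) K → ℕ) =
      {m | m ∣ 2 ∨ m ∣ (2 ^ e) ^ 2 - 1 ∨ m ∣ (2 ^ e) ^ 2 + 1} := by
  have hX := RecogThree.PSL2Orders.range_orderOf (F := K) 2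
  rw [hK, show RecogThree.PSL2Orders.dd (2 ^ (2 * e)) = 1 from if_pos (dvd_pow_self 2 (by omega)),
    Nat.div_one, Nat.div_one] at hX
  rw [hX, mul_comm, pow_mul]

theorem range_orderOf (he : 1 ≤ e) :
    Set.range (orderOf : Ext rh → ℕ) = PSp4.spec 2 (2 ^ e) := by
  classical
  haveI := nontriv (K := K) (e := e)
  have hX := range_X hK he
  have hsp : PSp4.spec 2 (2 ^ e) = {m | m ∣ (2 ^ e) ^ 2 + 1 ∨ m ∣ (2 ^ e) ^ 2 - 1 ∨ m ∣ 2 * (2 ^ e + 1) ∨
      m ∣ 2 * (2 ^ e - 1) ∨ m ∣ 4} := by
    unfold PSp4.spec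
    rw [dd_q he, Nat.div_one, Nat.div_one]
    ext m
    simp
  rw [hsp]
  have hodd : ∀ n, n ∣ 2 ^ e - 1 ∨ n ∣ 2 ^ e + 1 → Odd n := by
    have h1 : Even (2 ^ e) := (Nat.even_pow' (by omega)).2 even_two
    intro n hn
    rcases hn with h | h
    · exact (Nat.Even.sub_odd Nat.one_le_two_pow h1 odd_one).of_dvd_nat h
    · exact h1.add_one.of_dvd_nat h
  have hdiv : ∀ (y : Ext rh) (m : ℕ), m ∣ orderOf y → m ∈ Set.range (orderOf : Ext rh → ℕ) :=
    fun y m hm => PSp4.mem_range_of_dvd y hm
  ext m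
  constructor
  · intro hm
    rw [Semidirect.mem_range_orderOf _ Nat.prime_two two_smul_zero, hX] at hm
    rcases hm with h | ⟨x, H, hH, rfl⟩
    · rcases h with h | h | h
      · exact Or.inr (Or.inr (Or.inr (Or.inr (h.trans (by norm_num)))))
      · exact Or.inr (Or.inl h)
      · exact Or.inl h
    · obtain ⟨g, rfl⟩ := toP_surjective x
      have hfix := Semidirect.fix_norm rh H (toP g)
      have ht := trace_fixed 2 e hK g hfix hH
      have hdvd : orderOf (toP g) ∣ orderOf g := orderOf_map_dvd toP g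
      rcases orderOf_of_trace_fixed 2 e g ht with h | h | h
      · have hcase : orderOf (toP g) ∈ Set.range (orderOf : Matrix.ProjectiveSpecialLinearGroup (Fin 2) K → ℕ) :=
          ⟨_, rfl⟩
        rw [hX] at hcase
        have h4 := hdvd.trans h
        have h2 : orderOf (toP g) ∣ 2 := by
          have hq : Even ((2 ^ e) ^ 2) := (Nat.even_pow' two_ne_zero).2 ((Nat.even_pow' (by omega)).2 even_two)
          have hred : ∀ N, Odd N → orderOf (toP g) ∣ N → orderOf (toP g) ∣ 2 := fun N hN hd => by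
            have hco : Nat.Coprime (2 * 2) N :=
              Nat.Coprime.mul_left (Nat.coprime_two_left.2 hN) (Nat.coprime_two_left.2 hN)
            rw [Nat.eq_one_of_dvd_coprimes hco h4 hd]
            exact one_dvd 2
          rcases hcase with h | h | h
          · exact h
          · exact hred _ (Nat.Even.sub_odd (Nat.one_le_pow _ _ (Nat.two_pow_pos e)) hq odd_one) h
          · exact hred _ hq.add_one h
        exact Or.inr (Or.inr (Or.inr (Or.inr (Nat.mul_dvd_mul_right h2 2))))
      · refine Or.inr (Or.inr (Or.inr (Or.inl ?_)))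
        rw [mul_comm 2]
        exact Nat.mul_dvd_mul_right (hdvd.trans h) 2
      · refine Or.inr (Or.inr (Or.inl ?_))
        rw [mul_comm 2]
        exact Nat.mul_dvd_mul_right (hdvd.trans h) 2
  · have hin : ∀ x, orderOf x ∈ Set.range (orderOf : Ext rh → ℕ) := fun x =>
      (Semidirect.mem_range_orderOf _ Nat.prime_two two_smul_zero _).2 (Or.inl ⟨x, rfl⟩)
    have hl : ∀ d, d ∣ Fintype.card Kˣ → ∃ l : Kˣ, orderOf l = d := by
      intro d hd
      obtain ⟨g, hg⟩ := IsCyclic.exists_ofOrder_eq_natCard (α := Kˣ)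
      obtain ⟨c, hc⟩ := hd
      rw [Nat.card_eq_fintype_card] at hg
      refine ⟨g ^ c, ?_⟩
      have hpos : 0 < Fintype.card Kˣ := Fintype.card_pos
      have hc0 : 0 < c := Nat.pos_of_ne_zero fun h => by rw [h, mul_zero] at hc; omega
      rw [orderOf_pow, hg, hc, Nat.gcd_eq_right (Dvd.intro_left d rfl), Nat.mul_div_cancel _ hc0]
    have hcardK : Fintype.card Kˣ = (2 ^ e + 1) * (2 ^ e - 1) := by
      rw [Fintype.card_units, hK, ← Nat.sq_sub_sq, one_pow, mul_comm 2 e, pow_mul]
    have key : ∀ (l : Kˣ) (H : V), Odd (orderOf l) → act 2 e hK (dia l) H = H → H ≠ 0 →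
        orderOf l * 2 ∈ Set.range (orderOf : Ext rh → ℕ) := by
      intro l H ho hfix hne
      have hord : orderOf (toP (dia l)) = orderOf l := by
        rw [orderOf_toP_dia, Nat.Coprime.orderOf_pow (Nat.coprime_two_right.2 ho)]
      refine (Semidirect.mem_range_orderOf _ Nat.prime_two two_smul_zero _).2 (Or.inr
        ⟨toP (dia l), H, ?_, by rw [hord]⟩)
      rw [norm_eq_nsmul hK (show rh (toP (dia l)) H = H from hfix), hord]
      obtain ⟨k, hk⟩ := ho
      rw [hk, add_nsmul, mul_nsmul, two_smul_zero, nsmul_zero, zero_add, one_nsmul]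
      exact hne
    rintro (h | h | h | h | h)
    · obtain ⟨x, hx⟩ : (2 ^ e) ^ 2 + 1 ∈ Set.range (orderOf : Matrix.ProjectiveSpecialLinearGroup (Fin 2) K → ℕ) := by
        rw [hX]; exact Or.inr (Or.inr dvd_rfl)
      obtain ⟨y, hy⟩ := hin x
      exact hdiv y m (by rw [hy, hx]; exact h)
    · obtain ⟨x, hx⟩ : (2 ^ e) ^ 2 - 1 ∈ Set.range (orderOf : Matrix.ProjectiveSpecialLinearGroup (Fin 2) K → ℕ) := by
        rw [hX]; exact Or.inr (Or.inl dvd_rfl)
      obtain ⟨y, hy⟩ := hin x
      exact hdiv y m (by rw [hy, hx]; exact h)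
    · obtain ⟨l, hl'⟩ := hl (2 ^ e + 1) (by rw [hcardK]; exact dvd_mul_right _ _)
      obtain ⟨y, hy⟩ := key l corner (hodd _ (Or.inr (hl' ▸ dvd_rfl))) (Subtype.ext (by
        show (dia l).1 * !![(1 : K), 0; 0, 0] * ((dia l).1.map (sig 2 e))ᵀ = !![(1 : K), 0; 0, 0]
        have h1 : (l : K) * (l : K) ^ (2 ^ e) = 1 := by
          rw [mul_comm, ← pow_succ, ← Units.val_pow_eq_pow_val, ← hl', pow_orderOf_eq_one, Units.val_one]
        ext i j
        fin_cases i <;> fin_cases j <;> simp [dia, Matrix.mul_apply, Fin.sum_univ_two, sig_apply] <;>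
          linear_combination h1)) (fun h => one_ne_zero (congrArg (fun H : V => H.1 0 0) h))
      exact hdiv y m (by rw [hy, hl', mul_comm]; exact h)
    · obtain ⟨l, hl'⟩ := hl (2 ^ e - 1) (by rw [hcardK]; exact dvd_mul_left _ _)
      have h1 : (l : K) ^ (2 ^ e) = (l : K) := by
        have h' : l ^ (2 ^ e) = l := by
          conv_lhs => rw [← Nat.sub_add_cancel (Nat.one_le_two_pow (n := e))]
          rw [pow_succ, ← hl', pow_orderOf_eq_one, one_mul]
        rw [← Units.val_pow_eq_pow_val, h']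
      obtain ⟨y, hy⟩ := key l offDiag (hodd _ (Or.inl (hl' ▸ dvd_rfl))) (Subtype.ext (by
        show (dia l).1 * !![(0 : K), 1; 1, 0] * ((dia l).1.map (sig 2 e))ᵀ = !![(0 : K), 1; 1, 0]
        have h0 := l.ne_zero
        ext i j
        fin_cases i <;> fin_cases j <;>
          simp [dia, Matrix.mul_apply, Fin.sum_univ_two, sig_apply, h1, h0]))
        (fun h => one_ne_zero (congrArg (fun H : V => H.1 0 1) h))
      exact hdiv y m (by rw [hy, hl', mul_comm]; exact h)
    · let u : Matrix.SpecialLinearGroup (Fin 2) K := ⟨!![1, 1; 0, 1], by simp [det_fin_two]⟩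
      have hu : orderOf (toP u) = 2 := by
        refine orderOf_eq_prime ?_ (fun h => ?_)
        · rw [← map_pow, toP_eq_one_iff]
          have hu2 : u ^ 2 = 1 := by
            apply Subtype.ext
            rw [Matrix.SpecialLinearGroup.coe_pow, pow_two]
            show !![(1 : K), 1; 0, 1] * !![(1 : K), 1; 0, 1] = 1
            ext i j
            fin_cases i <;> fin_cases j <;> simp [Matrix.mul_apply, Fin.sum_univ_two, CharTwo.add_self_eq_zero]
          rw [hu2]; exact Subgroup.one_mem _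
        · rw [toP_eq_one_iff, Matrix.SpecialLinearGroup.mem_center_iff] at h
          obtain ⟨r, -, hr⟩ := h
          have := congrFun (congrFun hr 0) 1
          simp [u] at this
      have hmem : orderOf (toP u) * 2 ∈ Set.range (orderOf : Ext rh → ℕ) := by
        refine (Semidirect.mem_range_orderOf _ Nat.prime_two two_smul_zero _).2
          (Or.inr ⟨toP u, corner', fun h0 => ?_, rfl⟩)
        have h1 : (Semidirect.norm rh (toP u) (orderOf (toP u)) corner').1 0 0 = 1 := by
          simp only [Semidirect.norm, hu, Finset.sum_range_succ, Finset.sum_range_zero, zero_add, pow_zero,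
            pow_one, map_one]
          show (!![(0 : K), 0; 0, 1] + u.1 * !![(0 : K), 0; 0, 1] * (u.1.map (sig 2 e))ᵀ : Matrix (Fin 2) (Fin 2) K) 0 0 = 1
          simp [u, Matrix.mul_apply, Fin.sum_univ_two, Matrix.vecMul, dotProduct, map_one, map_zero]
        rw [h0] at h1
        exact zero_ne_one h1
      obtain ⟨y, hy⟩ := hmem
      exact hdiv y m (by rw [hy, hu]; exact h)

end Cfsg.Agent.Lib.SpectrumExt.HermEven
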