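import Mathlib
import Cfsg.Agent.Lib.SpectrumExt.HermModule
import Cfsg.Agent.Lib.SpectrumExt.Semidirect
import Cfsg.Agent.Lib.SpectrumExt.PSp4
import Cfsg.Agent.Lib.Symplectic.Std

/-! A group with the element orders of `PSp₄(q)`, `q` a power of a prime at least five. -/

namespace Cfsg.Agent.Lib.SpectrumExt.HermOdd

open Matrix
open Cfsg.Agent.Lib.RecogThree.PSL2Orders (toP toP_eq_one_iff toP_surjective toP_of_sq)
open Cfsg.Agent.Lib.SpectrumExt.HermModule
open Cfsg.Agent.Lib.SpectrumExt.Semidirect (Ext)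

set_option linter.unusedSectionVars false

variable {K : Type} [Field K] [Fintype K] {p : ℕ} [Fact p.Prime] [CharP K p] {e : ℕ}
  (hK : Fintype.card K = p ^ (2 * e))

local notation "SLK" => Matrix.SpecialLinearGroup (Fin 2) K
local notation "M2" => Matrix (Fin 2) (Fin 2) K
local notation "PSLK" => Matrix.ProjectiveSpecialLinearGroup (Fin 2) K
local notation "V" => herm (K := K) p e

/-- The field automorphism on matrices. -/
noncomputable def sigSL : MulAut (Matrix.SpecialLinearGroup (Fin 2) K) where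
  toFun := Matrix.SpecialLinearGroup.map (sig p e)
  invFun := Matrix.SpecialLinearGroup.map (sig p e)
  left_inv g := Subtype.ext (Matrix.ext fun _ _ => sig_sig p e hK _)
  right_inv g := Subtype.ext (Matrix.ext fun _ _ => sig_sig p e hK _)
  map_mul' := map_mul _

theorem coe_sigSL (g : SLK) : ((sigSL hK g : SLK) : M2) = (g : M2).map (sig p e) := rfl

theorem sigSL_sigSL (g : SLK) : sigSL hK (sigSL hK g) = g :=
  Subtype.ext (Matrix.ext fun _ _ => sig_sig p e hK _)

/-- The field automorphism of `PSL₂`. -/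
noncomputable def sigX : MulAut (Matrix.ProjectiveSpecialLinearGroup (Fin 2) K) :=
  QuotientGroup.congr _ _ (sigSL hK) (Cfsg.Agent.Lib.Symplectic.map_center_eq _)

theorem sigX_toP (g : SLK) : sigX hK (toP g) = toP (sigSL hK g) := rfl

theorem sigX_sq : sigX hK * sigX hK = 1 := MulEquiv.ext fun x => by
  obtain ⟨g, rfl⟩ := toP_surjective x
  show sigX hK (sigX hK (toP g)) = toP g
  rw [sigX_toP, sigX_toP, sigSL_sigSL]

/-- The action of the field automorphism on `PSL₂`. -/
noncomputable def phi : Multiplicative (ZMod 2) →* MulAut (Matrix.ProjectiveSpecialLinearGroup (Fin 2) K) where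
  toFun k := if Multiplicative.toAdd k = 0 then 1 else sigX hK
  map_one' := if_pos rfl
  map_mul' j k := by
    rcases (show ∀ i : ZMod 2, i = 0 ∨ i = 1 by decide) (Multiplicative.toAdd j) with hj | hj <;>
      rcases (show ∀ i : ZMod 2, i = 0 ∨ i = 1 by decide) (Multiplicative.toAdd k) with hk | hk <;>
      simp [hj, hk, show (1 : ZMod 2) + 1 = 0 by decide, sigX_sq]

/-- `PSL₂(q²)` with the field involution. -/
abbrev X := Matrix.ProjectiveSpecialLinearGroup (Fin 2) K ⋊[phi hK] Multiplicative (ZMod 2)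

instance : Finite (X hK) :=
  Finite.of_equiv (PSLK × Multiplicative (ZMod 2)) SemidirectProduct.equivProd.symm

include hK in
theorem map_mem {H : M2} (hH : H ∈ V) : H.map (sig p e) ∈ V := by
  rw [mem_herm] at hH ⊢
  rw [map_map_sig p e hK]
  conv_rhs => rw [← transpose_transpose (H.map (sig p e)), hH]

/-- The field automorphism on Hermitian matrices. -/
noncomputable def sigV : AddMonoid.End (herm (K := K) p e) where
  toFun H := ⟨H.1.map (sig p e), map_mem hK H.2⟩
  map_zero' := Subtype.ext (by simp)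
  map_add' a b := Subtype.ext (Matrix.map_add _ (map_add _) _ _)

theorem sigV_sq : sigV hK * sigV hK = 1 :=
  AddMonoidHom.ext fun H => Subtype.ext (map_map_sig p e hK _)

theorem sigV_actP (x : PSLK) : sigV hK * actP p e hK x = actP p e hK (sigX hK x) * sigV hK := by
  obtain ⟨g, rfl⟩ := toP_surjective x
  rw [sigX_toP, actP_toP, actP_toP]
  refine AddMonoidHom.ext fun H => Subtype.ext ?_
  show ((g : M2) * H.1 * ((g : M2).map (sig p e))ᵀ).map (sig p e) =
    (g : M2).map (sig p e) * H.1.map (sig p e) * (((g : M2).map (sig p e)).map (sig p e))ᵀ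
  rw [Matrix.map_mul, Matrix.map_mul, transpose_map]

/-- The action on the module. -/
noncomputable def rho : X hK →* AddMonoid.End (herm (K := K) p e) where
  toFun y := actP p e hK y.left * (if Multiplicative.toAdd y.right = 0 then 1 else sigV hK)
  map_one' := by simp
  map_mul' a b := by
    rw [SemidirectProduct.mul_left, SemidirectProduct.mul_right, map_mul]
    have hphi : phi hK a.right = if Multiplicative.toAdd a.right = 0 then 1 else sigX hK := rfl
    have h1 : (1 : ZMod 2) ≠ 0 := by decide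
    rcases (show ∀ i : ZMod 2, i = 0 ∨ i = 1 by decide) (Multiplicative.toAdd a.right) with ha | ha <;>
      rcases (show ∀ i : ZMod 2, i = 0 ∨ i = 1 by decide) (Multiplicative.toAdd b.right) with hb | hb <;>
      rw [hphi, toAdd_mul, ha, hb]
    · simp
    · simp [h1, mul_assoc]
    · rw [if_neg h1, if_pos rfl, add_zero, if_neg h1, mul_one, mul_assoc, mul_assoc, sigV_actP]
    · rw [if_neg h1, show (1 : ZMod 2) + 1 = 0 by decide, if_pos rfl, mul_one, if_neg h1, mul_assoc,
        ← mul_assoc (sigV hK), sigV_actP, mul_assoc, sigV_sq, mul_one]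

theorem rho_inl (x : PSLK) : rho hK (SemidirectProduct.inl x) = actP p e hK x := by
  simp [rho]

/-- An outer element. -/
noncomputable def outer (g : Matrix.SpecialLinearGroup (Fin 2) K) : X hK :=
  ⟨toP g, Multiplicative.ofAdd 1⟩

theorem exists_form (y : X hK) :
    (∃ g, y = SemidirectProduct.inl (toP g)) ∨ ∃ g, y = outer hK g := by
  obtain ⟨x, k⟩ := y
  obtain ⟨g, rfl⟩ := toP_surjective x
  rcases (show ∀ i : ZMod 2, i = 0 ∨ i = 1 by decide) (Multiplicative.toAdd k) with h | h
  · exact Or.inl ⟨g, SemidirectProduct.ext rfl (Multiplicative.toAdd.injective h)⟩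
  · exact Or.inr ⟨g, SemidirectProduct.ext rfl (Multiplicative.toAdd.injective h)⟩

theorem rho_outer (g : SLK) (H : V) :
    (rho hK (outer hK g) H).1 = (g : M2) * H.1.map (sig p e) * ((g : M2).map (sig p e))ᵀ := by
  show ((actP p e hK (toP g) * (if (1 : ZMod 2) = 0 then 1 else sigV hK)) H).1 = _
  rw [if_neg (by decide)]
  rfl

theorem outer_sq (g : SLK) : outer hK g ^ 2 = SemidirectProduct.inl (toP (g * sigSL hK g)) := by
  rw [pow_two]
  refine SemidirectProduct.ext ?_ (Multiplicative.toAdd.injective (by decide : (1 : ZMod 2) + 1 = 0))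
  show toP g * phi hK (Multiplicative.ofAdd 1) (toP g) = toP (g * sigSL hK g)
  rw [map_mul]
  congr 1

theorem orderOf_outer (g : SLK) : orderOf (outer hK g) = 2 * orderOf (toP (g * sigSL hK g)) := by
  have h2 : 2 ∣ orderOf (outer hK g) := by
    have h := orderOf_map_dvd (SemidirectProduct.rightHom : X hK →* _) (outer hK g)
    rwa [show SemidirectProduct.rightHom (outer hK g) = Multiplicative.ofAdd (1 : ZMod 2) from rfl,
      show orderOf (Multiplicative.ofAdd (1 : ZMod 2)) = 2 from
        orderOf_eq_prime (hp := ⟨Nat.prime_two⟩) (by decide) (by decide)] at h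
  have h := orderOf_pow_of_dvd two_ne_zero h2
  rw [outer_sq, orderOf_injective _ SemidirectProduct.inl_injective] at h
  rw [h, Nat.mul_div_cancel' h2]

theorem outer_trace (g : SLK) :
    sig p e ((g * sigSL hK g : SLK) : M2).trace = ((g * sigSL hK g : SLK) : M2).trace := by
  rw [Matrix.SpecialLinearGroup.coe_mul, coe_sigSL]
  have h : sig p e ((g : M2) * (g : M2).map (sig p e)).trace =
      (((g : M2) * (g : M2).map (sig p e)).map (sig p e)).trace := by
    rw [Matrix.trace_fin_two, Matrix.trace_fin_two, map_add]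
    rfl
  rw [h, Matrix.map_mul, map_map_sig p e hK, Matrix.trace_mul_comm]

theorem two_ne (hp : 5 ≤ p) : (2 : K) ≠ 0 := by
  intro h
  have h' : ((2 : ℕ) : K) = 0 := by exact_mod_cast h
  rw [CharP.cast_eq_zero_iff K p] at h'
  have := Nat.le_of_dvd (by norm_num) h'
  omega

theorem p_odd (hp : 5 ≤ p) : Odd p := (Fact.out : p.Prime).odd_of_ne_two (by omega)

theorem half_facts (hp : 5 ≤ p) (he : 1 ≤ e) : 2 ∣ p ^ e - 1 ∧ 2 ∣ p ^ e + 1 ∧ PSp4.dd (p ^ e) = 2 := by
  have ho : Odd (p ^ e) := (p_odd hp).pow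
  obtain ⟨k, hk⟩ := ho
  refine ⟨by omega, by omega, if_neg (by omega)⟩

theorem toP_dvd (hp : 5 ≤ p) {x : SLK} {m : ℕ} (h : orderOf x ∣ 2 * m) : orderOf (toP x) ∣ m := by
  apply orderOf_dvd_of_pow_eq_one
  rw [← map_pow]
  refine toP_of_sq _ ?_ (two_ne hp)
  rw [← pow_add, ← two_mul, ← orderOf_dvd_iff_pow_eq_one]
  exact h

theorem image_cases (hp : 5 ≤ p) (he : 1 ≤ e) (g : SLK) (ht : sig p e (g : M2).trace = (g : M2).trace) :
    orderOf (toP g) ∣ p ∨ orderOf (toP g) ∣ (p ^ e - 1) / 2 ∨ orderOf (toP g) ∣ (p ^ e + 1) / 2 := by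
  obtain ⟨h1, h2, -⟩ := half_facts (p := p) (e := e) hp he
  rcases orderOf_of_trace_fixed p e g ht with h | h | h
  · exact Or.inl (toP_dvd hp h)
  · exact Or.inr (Or.inl (toP_dvd hp (by rwa [Nat.mul_div_cancel' h1])))
  · exact Or.inr (Or.inr (toP_dvd hp (by rwa [Nat.mul_div_cancel' h2])))

theorem sum_cast_pow (hp : 5 ≤ p) {k : ℕ} (hk : k ≤ 2) : ∑ i ∈ Finset.range p, (i : K) ^ k = 0 := by
  have h0 : ∑ z : ZMod p, z ^ k = 0 :=
    FiniteField.sum_pow_lt_card_sub_one (ZMod p) k (by rw [ZMod.card]; omega)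
  have h1 : ∑ i ∈ Finset.range p, ((i : ZMod p)) ^ k = ∑ z : ZMod p, z ^ k := by
    refine Finset.sum_nbij' (fun i => (i : ZMod p)) ZMod.val (fun _ _ => Finset.mem_univ _)
      (fun z _ => Finset.mem_range.2 (ZMod.val_lt z)) (fun i hi => ?_) (fun z _ => ?_) (fun _ _ => rfl)
    · exact ZMod.val_cast_of_lt (Finset.mem_range.1 hi)
    · exact ZMod.natCast_zmod_val z
  have h2 := congrArg (ZMod.castHom (dvd_refl p) K) (h1.trans h0)
  simpa [map_sum] using h2

theorem exists_unipotent_lift (hp : 5 ≤ p) {x : PSLK} (hx : orderOf x = p) :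
    ∃ (w : SLK) (M : M2), toP w = x ∧ (w : M2) = 1 + M ∧ M * M = 0 := by
  obtain ⟨g, rfl⟩ := toP_surjective x
  obtain ⟨k, hk⟩ := p_odd hp
  have hgp : toP (g ^ p) = 1 := by rw [map_pow]; exact orderOf_dvd_iff_pow_eq_one.1 (dvd_of_eq hx)
  have hsq : (g ^ p) ^ 2 = 1 := RecogThree.PSL2Orders.center_sq ((toP_eq_one_iff _).1 hgp)
  refine ⟨g ^ (p + 1), ((g ^ (p + 1) : SLK) : M2) - 1, ?_, (add_sub_cancel _ _).symm, ?_⟩
  · rw [pow_succ, map_mul, hgp, one_mul]
  set M : M2 := ((g ^ (p + 1) : SLK) : M2) - 1 with hM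
  have hwp : (g ^ (p + 1)) ^ p = 1 := by
    rw [← pow_mul, show (p + 1) * p = p * 2 * (k + 1) by rw [hk]; ring, pow_mul, pow_mul, hsq, one_pow]
  have hMp : M ^ p = 0 := by
    rw [hM, sub_pow_char_of_commute p (Commute.one_right _), ← Matrix.SpecialLinearGroup.coe_pow, hwp,
      one_pow, Matrix.SpecialLinearGroup.coe_one, sub_self]
  have hMM : M * M = M.trace • M - M.det • (1 : M2) := by
    ext i j
    fin_cases i <;> fin_cases j <;>
      simp [mul_apply, trace_fin_two, det_fin_two, Fin.sum_univ_two] <;> ring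
  have hd : M.det = 0 := by
    have := congrArg Matrix.det hMp
    rw [det_pow, det_zero] at this
    exact eq_zero_of_pow_eq_zero this
  rw [hd, zero_smul, sub_zero] at hMM
  have hk' : ∀ j : ℕ, M ^ (j + 1) = M.trace ^ j • M := by
    intro j
    induction j with
    | zero => rw [pow_one, pow_zero, one_smul]
    | succ j ih => rw [pow_succ, ih, smul_mul_assoc, hMM, smul_smul, ← pow_succ]
  have h := hk' (p - 1)
  rw [Nat.sub_add_cancel (by omega : 1 ≤ p), hMp] at h
  rcases smul_eq_zero.1 h.symm with ht | hz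
  · rw [hMM, eq_zero_of_pow_eq_zero ht, zero_smul]
  · rw [hz, mul_zero]

theorem unipotent_norm (hp : 5 ≤ p) {x : PSLK} (hx : orderOf x = p) (H : V) :
    ∑ i ∈ Finset.range p, actP p e hK (x ^ i) H = 0 := by
  obtain ⟨w, M, hw, hwM, hM⟩ := exists_unipotent_lift hp hx
  have hpow : ∀ i : ℕ, (w : M2) ^ i = 1 + (i : K) • M := by
    intro i
    induction i with
    | zero => simp
    | succ i ih =>
      rw [pow_succ, ih, hwM]
      simp only [add_mul, mul_add, smul_mul_assoc, mul_one, one_mul, hM, smul_zero, add_zero,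
        Nat.cast_add, Nat.cast_one, add_smul, one_smul]
      abel
  set S : M2 := (M.map (sig p e))ᵀ with hS
  have hterm : ∀ i : ℕ, (actP p e hK (x ^ i) H).1 =
      H.1 + (i : K) • (M * H.1 + H.1 * S) + ((i : K) ^ 2) • (M * H.1 * S) := by
    intro i
    rw [← hw, ← map_pow, actP_toP]
    show ((w ^ i : SLK) : M2) * H.1 * (((w ^ i : SLK) : M2).map (sig p e))ᵀ = _
    rw [Matrix.SpecialLinearGroup.coe_pow, hpow]
    have hmap : ((1 + (i : K) • M : M2).map (sig p e))ᵀ = 1 + (i : K) • S := by
      rw [Matrix.map_add _ (map_add _), Matrix.map_one _ (map_zero _) (map_one _), transpose_add,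
        transpose_one, hS]
      congr 1
      ext a b
      simp [map_mul, map_natCast]
    rw [hmap]
    simp only [add_mul, mul_add, smul_mul_assoc, mul_smul_comm, one_mul, mul_one, smul_smul, smul_add,
      pow_two]
    abel
  apply Subtype.ext
  rw [AddSubgroup.val_finsetSum]
  simp only [hterm, Finset.sum_add_distrib, ← Finset.sum_smul, Finset.sum_const, Finset.card_range]
  have e0 : p • H.1 = 0 := by
    rw [← Nat.cast_smul_eq_nsmul K, CharP.cast_eq_zero, zero_smul]
  have e1 : ∑ i ∈ Finset.range p, (i : K) = 0 := by simpa using sum_cast_pow (K := K) hp (k := 1) (by norm_num)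
  rw [e0, e1, sum_cast_pow (K := K) hp le_rfl, zero_smul, zero_smul, add_zero, add_zero]
  rfl

theorem sum_range_two_mul {β : Type*} [AddCommMonoid β] (f : ℕ → β) (k : ℕ) :
    ∑ i ∈ Finset.range (2 * k), f i = ∑ j ∈ Finset.range k, (f (2 * j) + f (2 * j + 1)) := by
  induction k with
  | zero => simp
  | succ k ih =>
    rw [show 2 * (k + 1) = 2 * k + 1 + 1 by ring, Finset.sum_range_succ, Finset.sum_range_succ, ih,
      Finset.sum_range_succ _ k, add_assoc]

theorem p_smul_zero (H : V) : p • H = 0 := Subtype.ext (by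
  show p • H.1 = 0
  rw [← Nat.cast_smul_eq_nsmul K, CharP.cast_eq_zero, zero_smul])

theorem mixed_dvd {n N : ℕ} (h : n ∣ N) : n * p ∣ p * N := by
  rw [mul_comm n]; exact mul_dvd_mul_left p h

theorem norm_cases (hp : 5 ≤ p) (he : 1 ≤ e) (y : X hK) (H : V)
    (hne : Semidirect.norm (rho hK) y (orderOf y) H ≠ 0) :
    orderOf y ∣ p ^ e - 1 ∨ orderOf y ∣ p ^ e + 1 := by
  have hfix := Semidirect.fix_norm (rho hK) H y
  obtain ⟨h1, h2, -⟩ := half_facts (p := p) (e := e) hp he
  rcases exists_form hK y with ⟨g, rfl⟩ | ⟨g, rfl⟩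
  · rw [orderOf_injective _ SemidirectProduct.inl_injective] at hne hfix ⊢
    rw [rho_inl, actP_toP] at hfix
    rcases image_cases hp he g (trace_fixed p e hK g hfix hne) with h | h | h
    · rcases (Fact.out : p.Prime).eq_one_or_self_of_dvd _ h with h' | h'
      · exact Or.inl (by rw [h']; exact one_dvd _)
      · refine absurd ?_ hne
        unfold Semidirect.norm
        simp only [← map_pow SemidirectProduct.inl, rho_inl]
        rw [h']
        exact unipotent_norm hK hp h' H
    · exact Or.inl (h.trans (Nat.div_dvd_of_dvd h1))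
    · exact Or.inr (h.trans (Nat.div_dvd_of_dvd h2))
  · rw [orderOf_outer] at hne ⊢
    rcases image_cases hp he _ (outer_trace hK g) with h | h | h
    · rcases (Fact.out : p.Prime).eq_one_or_self_of_dvd _ h with h' | h'
      · exact Or.inr (by rw [h', mul_one]; exact h2)
      · refine absurd ?_ hne
        unfold Semidirect.norm
        rw [h', sum_range_two_mul]
        have t0 : ∀ (j : ℕ) (v : V), rho hK (outer hK g ^ (2 * j)) v =
            actP p e hK (toP (g * sigSL hK g) ^ j) v := by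
          intro j v
          rw [pow_mul, outer_sq, ← map_pow SemidirectProduct.inl, rho_inl]
        have t1 : ∀ j : ℕ, rho hK (outer hK g ^ (2 * j + 1)) H =
            actP p e hK (toP (g * sigSL hK g) ^ j) (rho hK (outer hK g) H) := by
          intro j
          rw [pow_succ, map_mul]
          exact t0 j _
        simp only [t0, t1]
        rw [Finset.sum_add_distrib, unipotent_norm hK hp h', unipotent_norm hK hp h', add_zero]
    · exact Or.inl ((mul_dvd_mul_left 2 h).trans (by rw [Nat.mul_div_cancel' h1]))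
    · exact Or.inr ((mul_dvd_mul_left 2 h).trans (by rw [Nat.mul_div_cancel' h2]))

/-- The antidiagonal element. -/
noncomputable def anti (l : Kˣ) : Matrix.SpecialLinearGroup (Fin 2) K :=
  ⟨!![0, (l : K); -((l⁻¹ : Kˣ) : K), 0], by simp [det_fin_two]⟩

theorem sigSL_dia (l : Kˣ) : sigSL hK (dia l) = dia (l ^ (p ^ e)) := by
  apply Subtype.ext
  rw [coe_sigSL]
  ext i j
  fin_cases i <;> fin_cases j <;> simp [dia, sig_apply, (Fact.out : p.Prime).ne_zero]

theorem anti_mul (l : Kˣ) : anti l * sigSL hK (anti l) = dia (-(l * (l ^ (p ^ e))⁻¹)) := by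
  apply Subtype.ext
  rw [Matrix.SpecialLinearGroup.coe_mul, coe_sigSL]
  ext i j
  fin_cases i <;> fin_cases j <;>
    simp [anti, dia, Matrix.mul_apply, Fin.sum_univ_two] <;>
    simp [sig_apply, mul_comm]

theorem orderOf_outer_dia (hp : 5 ≤ p) (he : 1 ≤ e) {l : Kˣ} (hl : orderOf l = (p ^ e + 1) * (p ^ e - 1)) :
    orderOf (outer hK (dia l)) = p ^ e - 1 := by
  obtain ⟨h1, -, -⟩ := half_facts (p := p) (e := e) hp he
  obtain ⟨k, hk⟩ := h1
  have he' : dia l * sigSL hK (dia l) = dia (l ^ (p ^ e + 1)) := by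
    rw [sigSL_dia]
    apply Subtype.ext
    rw [Matrix.SpecialLinearGroup.coe_mul]
    ext i j
    fin_cases i <;> fin_cases j <;>
      simp [dia, Matrix.mul_apply, Fin.sum_univ_two, pow_succ, mul_comm]
  rw [orderOf_outer, he', orderOf_toP_dia, ← pow_mul,
    orderOf_pow_of_dvd (by positivity) (by rw [hl, hk]; exact ⟨k, by ring⟩), hl, hk, mul_comm (p ^ e + 1) 2,
    show (p ^ e + 1) * (2 * k) = 2 * (p ^ e + 1) * k by ring, Nat.mul_div_cancel_left _ (by positivity)]

theorem orderOf_outer_anti (hp : 5 ≤ p) (he : 1 ≤ e) {l : Kˣ} (hl : orderOf l = (p ^ e + 1) * (p ^ e - 1)) :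
    orderOf (outer hK (anti l)) = p ^ e + 1 := by
  obtain ⟨h1, h2, -⟩ := half_facts (p := p) (e := e) hp he
  obtain ⟨k, hk⟩ := h2
  have hq1 : 2 ≤ p ^ e := le_trans (by omega) (Nat.le_self_pow (by omega : e ≠ 0) p)
  have hx : (-(l * (l ^ (p ^ e))⁻¹)) ^ 2 = ((l ^ (2 * (p ^ e - 1))))⁻¹ := by
    rw [neg_sq, mul_pow, inv_pow, mul_inv_eq_iff_eq_mul, eq_inv_mul_iff_mul_eq, ← pow_mul, ← pow_add]
    congr 1
    omega
  rw [orderOf_outer, anti_mul, orderOf_toP_dia, hx, orderOf_inv,
    orderOf_pow_of_dvd (by omega) (by rw [hl, hk]; exact ⟨k, by ring⟩), hl, hk,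
    show 2 * k * (p ^ e - 1) = 2 * (p ^ e - 1) * k by ring, Nat.mul_div_cancel_left _ (by omega)]

include hK in
theorem range_X (he : 1 ≤ e) (hp : 5 ≤ p) :
    Set.range (orderOf : PSLK → ℕ) =
      {m | m ∣ p ∨ m ∣ ((p ^ e) ^ 2 - 1) / 2 ∨ m ∣ ((p ^ e) ^ 2 + 1) / 2} := by
  have hX := RecogThree.PSL2Orders.range_orderOf (F := K) p
  rw [hK, mul_comm 2 e, pow_mul] at hX
  have ho : Odd ((p ^ e) ^ 2) := ((p_odd hp).pow).pow
  rw [show RecogThree.PSL2Orders.dd ((p ^ e) ^ 2) = 2 from
    if_neg (fun h => (Nat.not_even_iff_odd.2 ho) (even_iff_two_dvd.2 h))] at hX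
  exact hX

theorem nontriv : Nontrivial V :=
  ⟨⟨⟨1, by simp [mem_herm, Matrix.map_one]⟩, 0, fun h => one_ne_zero (α := K) (congrArg (fun H : V => H.1 0 0) h)⟩⟩

theorem range_orderOf (hp : 5 ≤ p) (he : 1 ≤ e) :
    Set.range (orderOf : Ext (rho hK) → ℕ) = PSp4.spec p (p ^ e) := by
  classical
  have hX := range_X hK he hp
  obtain ⟨h1, h2, hdd⟩ := half_facts (p := p) (e := e) hp he
  have hsp : PSp4.spec p (p ^ e) = {m | m ∣ ((p ^ e) ^ 2 + 1) / 2 ∨ m ∣ ((p ^ e) ^ 2 - 1) / 2 ∨
      m ∣ p * (p ^ e + 1) ∨ m ∣ p * (p ^ e - 1)} := by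
    unfold PSp4.spec
    rw [hdd]
    ext m
    simp [show p ≠ 3 by omega, show p ≠ 2 by omega]
  rw [hsp]
  have hdiv : ∀ (y : Ext (rho hK)) (m : ℕ), m ∣ orderOf y → m ∈ Set.range (orderOf : Ext (rho hK) → ℕ) :=
    fun y m hm => PSp4.mem_range_of_dvd y hm
  have hiff := Semidirect.mem_range_orderOf (rho hK) (Fact.out : p.Prime) p_smul_zero
  ext m
  constructor
  · intro hm
    rcases (hiff m).1 hm with ⟨y, rfl⟩ | ⟨y, H, hH, rfl⟩
    · rcases exists_form hK y with ⟨g, rfl⟩ | ⟨g, rfl⟩
      · rw [orderOf_injective _ SemidirectProduct.inl_injective]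
        have hg : orderOf (toP g) ∈ Set.range (orderOf : PSLK → ℕ) := ⟨_, rfl⟩
        rw [hX] at hg
        rcases hg with h | h | h
        exacts [Or.inr (Or.inr (Or.inl (h.trans (dvd_mul_right _ _)))), Or.inr (Or.inl h), Or.inl h]
      · rw [orderOf_outer]
        rcases image_cases hp he _ (outer_trace hK g) with h | h | h
        · refine Or.inr (Or.inr (Or.inl ?_))
          rw [mul_comm p]
          exact mul_dvd_mul h2 h
        · exact Or.inr (Or.inr (Or.inr ((mul_dvd_mul_left 2 h).trans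
            (by rw [Nat.mul_div_cancel' h1]; exact dvd_mul_left _ _))))
        · exact Or.inr (Or.inr (Or.inl ((mul_dvd_mul_left 2 h).trans
            (by rw [Nat.mul_div_cancel' h2]; exact dvd_mul_left _ _))))
    · rcases norm_cases hK hp he y H hH with h | h
      exacts [Or.inr (Or.inr (Or.inr (mixed_dvd h))), Or.inr (Or.inr (Or.inl (mixed_dvd h)))]
  · obtain ⟨l, hl⟩ := IsCyclic.exists_ofOrder_eq_natCard (α := Kˣ)
    rw [Nat.card_eq_fintype_card, Fintype.card_units, hK, mul_comm 2 e, pow_mul] at hl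
    replace hl : orderOf l = (p ^ e + 1) * (p ^ e - 1) := by rw [hl, ← Nat.sq_sub_sq, one_pow]
    have hq1 : 1 ≤ p ^ e := Nat.one_le_pow _ _ (by omega)
    have key : ∀ (g : SLK) (H : V) (n : ℕ), orderOf (outer hK g) = n → ¬ p ∣ n → rho hK (outer hK g) H = H →
        H ≠ 0 → ∃ y : Ext (rho hK), orderOf y = n * p := by
      intro g H n hn hpn hfix hne
      have hfp : ∀ i, rho hK (outer hK g ^ i) H = H := by
        intro i
        induction i with
        | zero => rw [pow_zero, map_one]; rfl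
        | succ i ih =>
          rw [pow_succ, map_mul]
          show rho hK (outer hK g ^ i) (rho hK (outer hK g) H) = H
          rw [hfix, ih]
      refine (hiff _).2 (Or.inr ⟨outer hK g, H, ?_, by rw [hn]⟩)
      simp only [Semidirect.norm, hfp, Finset.sum_const, Finset.card_range, hn]
      intro h0
      have h0' : n • H.1 = 0 := congrArg Subtype.val h0
      rw [← Nat.cast_smul_eq_nsmul K, smul_eq_zero, CharP.cast_eq_zero_iff K p] at h0'
      exact hne (Subtype.ext (h0'.resolve_left hpn))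
    have hpq : p ∣ p ^ e := dvd_pow_self p (by omega)
    rintro (h | h | h | h)
    · obtain ⟨x, hx⟩ : ((p ^ e) ^ 2 + 1) / 2 ∈ Set.range (orderOf : PSLK → ℕ) := by
        rw [hX]; exact Or.inr (Or.inr dvd_rfl)
      refine hdiv (SemidirectProduct.inr (SemidirectProduct.inl x)) m ?_
      rw [orderOf_injective _ SemidirectProduct.inr_injective, orderOf_injective _ SemidirectProduct.inl_injective, hx]
      exact h
    · obtain ⟨x, hx⟩ : ((p ^ e) ^ 2 - 1) / 2 ∈ Set.range (orderOf : PSLK → ℕ) := by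
        rw [hX]; exact Or.inr (Or.inl dvd_rfl)
      refine hdiv (SemidirectProduct.inr (SemidirectProduct.inl x)) m ?_
      rw [orderOf_injective _ SemidirectProduct.inr_injective, orderOf_injective _ SemidirectProduct.inl_injective, hx]
      exact h
    · have hnd : ¬ p ∣ p ^ e + 1 := by
        rw [Nat.dvd_add_right hpq, Nat.dvd_one]; omega
      set c : K := (l : K) ^ (p ^ e + 1) with hc
      have hsc : sig p e c = c := by
        rw [hc, sig_apply, ← pow_mul]
        have hcard := FiniteField.pow_card (l : K)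
        rw [hK, mul_comm 2 e, pow_mul] at hcard
        rw [add_mul, one_mul, pow_add, ← pow_two (p ^ e), hcard, pow_succ (l : K) (p ^ e)]
        ring
      let H : V := ⟨!![c, 0; 0, 1], by
        rw [mem_herm]; ext i j; fin_cases i <;> fin_cases j <;> simp [hsc]⟩
      obtain ⟨y, hy⟩ := key (anti l) H _ (orderOf_outer_anti hK hp he hl) hnd (Subtype.ext (by
        rw [rho_outer]
        show (anti l).1 * (!![c, 0; 0, 1] : M2).map (sig p e) * ((anti l).1.map (sig p e))ᵀ = !![c, 0; 0, 1]
        have hl0 := l.ne_zero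
        have em : (!![c, 0; 0, 1] : M2).map (sig p e) = !![c, 0; 0, 1] := by
          ext i j
          fin_cases i <;> fin_cases j <;> simp [hsc]
        rw [em]
        ext i j
        fin_cases i <;> fin_cases j <;>
          simp [anti, Matrix.mul_apply, Fin.sum_univ_two, Matrix.vecMul, dotProduct, hc, sig_apply,
            (Fact.out : p.Prime).ne_zero] <;> ((try simp [pow_succ]); (try field_simp); (try ring); (try rw [((p_odd hp).pow).neg_one_pow]); (try simp [inv_pow, hl0, pow_ne_zero]))))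
        (fun h => one_ne_zero (α := K) (congrArg (fun H : V => H.1 1 1) h))
      exact hdiv y m (by rw [hy, mul_comm]; exact h)
    · have hnd : ¬ p ∣ p ^ e - 1 := fun hd => by
        have h' := Nat.dvd_sub hpq hd
        rw [Nat.sub_sub_self hq1, Nat.dvd_one] at h'
        omega
      let H : V := ⟨!![0, (l : K); sig p e (l : K), 0], by
        rw [mem_herm]; ext i j; fin_cases i <;> fin_cases j <;> simp [sig_sig p e hK]⟩
      obtain ⟨y, hy⟩ := key (dia l) H _ (orderOf_outer_dia hK hp he hl) hnd (Subtype.ext (by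
        rw [rho_outer]
        show (dia l).1 * (!![0, (l : K); sig p e (l : K), 0] : M2).map (sig p e) *
          ((dia l).1.map (sig p e))ᵀ = !![0, (l : K); sig p e (l : K), 0]
        have hl0 := l.ne_zero
        have em : (!![0, (l : K); sig p e (l : K), 0] : M2).map (sig p e) = !![0, sig p e (l : K); (l : K), 0] := by
          ext i j
          fin_cases i <;> fin_cases j <;> simp [sig_sig p e hK]
        rw [em]
        ext i j
        fin_cases i <;> fin_cases j <;>
          simp [dia, Matrix.mul_apply, Fin.sum_univ_two, Matrix.vecMul, dotProduct] <;>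
          ((try simp [sig_apply]); (try field_simp))))
        (fun h => l.ne_zero (congrArg (fun H : V => H.1 0 1) h))
      exact hdiv y m (by rw [hy, mul_comm]; exact h)

end Cfsg.Agent.Lib.SpectrumExt.HermOdd
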