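import Mathlib

/-! Element orders of `PSL₃(3)`. -/

namespace Cfsg.Agent.Lib.SpectrumExt.LThreeThree

open Matrix

/-- Multiplication by the variable modulo `X³ - tX² + sX - 1`. -/
def step (t s : ZMod 3) : ZMod 3 × ZMod 3 × ZMod 3 → ZMod 3 × ZMod 3 × ZMod 3 :=
  fun a => (a.2.1 + t * a.1, a.2.2 - s * a.1, a.1)

/-- The powers of the variable. -/
def cpow (t s : ZMod 3) : ℕ → ZMod 3 × ZMod 3 × ZMod 3
  | 0 => (0, 0, 1)
  | n + 1 => step t s (cpow t s n)

theorem cpow_cases : ∀ t s : ZMod 3, cpow t s 6 = (0, 0, 1) ∨ cpow t s 8 = (0, 0, 1) ∨ cpow t s 13 = (0, 0, 1) := by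
  decide +kernel

theorem cube (M : Matrix (Fin 3) (Fin 3) (ZMod 3)) :
    M * M * M = M.trace • (M * M) -
      (M 0 0 * M 1 1 - M 0 1 * M 1 0 + (M 0 0 * M 2 2 - M 0 2 * M 2 0) + (M 1 1 * M 2 2 - M 1 2 * M 2 1)) • M +
      M.det • (1 : Matrix (Fin 3) (Fin 3) (ZMod 3)) := by
  ext i j
  fin_cases i <;> fin_cases j <;>
    simp [Matrix.mul_apply, Fin.sum_univ_three, det_fin_three, trace_fin_three] <;> ring

theorem pow_cases (x : Matrix.SpecialLinearGroup (Fin 3) (ZMod 3)) : x ^ 6 = 1 ∨ x ^ 8 = 1 ∨ x ^ 13 = 1 := by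
  set M : Matrix (Fin 3) (Fin 3) (ZMod 3) := x.1 with hM
  have hc := cube M
  rw [show M.det = 1 from x.2] at hc
  set t := M.trace
  set s := M 0 0 * M 1 1 - M 0 1 * M 1 0 + (M 0 0 * M 2 2 - M 0 2 * M 2 0) + (M 1 1 * M 2 2 - M 1 2 * M 2 1)
  have hp : ∀ n, M ^ n = (cpow t s n).1 • (M * M) + (cpow t s n).2.1 • M + (cpow t s n).2.2 • 1 := by
    intro n
    induction n with
    | zero => simp [cpow]
    | succ n ih =>
      rw [pow_succ, ih, add_mul, add_mul, smul_mul_assoc, smul_mul_assoc, smul_mul_assoc, hc, one_mul]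
      show _ = (step t s (cpow t s n)).1 • (M * M) + (step t s (cpow t s n)).2.1 • M + (step t s (cpow t s n)).2.2 • 1
      simp only [step]
      module
  have hone : ∀ n, cpow t s n = (0, 0, 1) → x ^ n = 1 := by
    intro n hn
    refine Subtype.ext ((Matrix.SpecialLinearGroup.coe_pow x n).trans ?_)
    rw [← hM, hp n, hn]
    simp
  exact (cpow_cases t s).imp (hone _) (Or.imp (hone _) (hone _))

theorem hdiv {G : Type*} [Group G] [Finite G] (y : G) {m : ℕ} (hm : m ∣ orderOf y) :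
    m ∈ Set.range (orderOf : G → ℕ) :=
  let ⟨c, hc⟩ := hm
  ⟨y ^ c, by
    have hpos : 0 < orderOf y := orderOf_pos _
    have hc0 : 0 < c := Nat.pos_of_ne_zero fun h => by rw [h, mul_zero] at hc; omega
    rw [orderOf_pow, hc, Nat.gcd_eq_right (Dvd.intro_left m rfl), Nat.mul_div_cancel _ hc0]⟩

/-- A witness. -/
def w6 : Matrix.SpecialLinearGroup (Fin 3) (ZMod 3) :=
  ⟨!![2, 1, 0; 0, 2, 0; 0, 0, 1], by decide +kernel⟩

/-- A witness. -/
def w8 : Matrix.SpecialLinearGroup (Fin 3) (ZMod 3) :=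
  ⟨!![0, 1, 0; 1, 1, 0; 0, 0, 2], by decide +kernel⟩

/-- A witness. -/
def w13 : Matrix.SpecialLinearGroup (Fin 3) (ZMod 3) :=
  ⟨!![0, 0, 1; 1, 0, 1; 0, 1, 0], by decide +kernel⟩

theorem range_orderOf_SL :
    Set.range (orderOf : Matrix.SpecialLinearGroup (Fin 3) (ZMod 3) → ℕ) = {m | m ∣ 6 ∨ m ∣ 8 ∨ m ∣ 13} := by
  ext m
  constructor
  · rintro ⟨x, rfl⟩
    exact (pow_cases x).imp orderOf_dvd_of_pow_eq_one (Or.imp orderOf_dvd_of_pow_eq_one orderOf_dvd_of_pow_eq_one)
  · rintro (h | h | h)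
    · refine hdiv w6 ?_
      rw [(orderOf_eq_iff (n := 6) (by norm_num)).2 ⟨by decide +kernel, by decide +kernel⟩]
      exact h
    · refine hdiv w8 ?_
      rw [(orderOf_eq_iff (n := 8) (by norm_num)).2 ⟨by decide +kernel, by decide +kernel⟩]
      exact h
    · refine hdiv w13 ?_
      rw [(orderOf_eq_iff (n := 13) (by norm_num)).2 ⟨by decide +kernel, by decide +kernel⟩]
      exact h

theorem range_orderOf (F : Type*) [Field F] [Fintype F] (hF : Fintype.card F = 3) :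
    Set.range (orderOf : Matrix.ProjectiveSpecialLinearGroup (Fin 3) F → ℕ) = {m | m ∣ 6 ∨ m ∣ 8 ∨ m ∣ 13} := by
  haveI : Fact (Nat.Prime 3) := ⟨Nat.prime_three⟩
  haveI : CharP F 3 := charP_of_card_eq_prime hF
  let e : ZMod 3 ≃+* F := RingEquiv.ofBijective (ZMod.castHom dvd_rfl F)
    (by
      rw [Fintype.bijective_iff_injective_and_card]
      exact ⟨ZMod.castHom_injective F, by rw [ZMod.card, hF]⟩)
  let f : Matrix.SpecialLinearGroup (Fin 3) (ZMod 3) →* Matrix.ProjectiveSpecialLinearGroup (Fin 3) F :=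
    (QuotientGroup.mk' _).comp (Matrix.SpecialLinearGroup.map e.toRingHom)
  have hsurj : Function.Surjective f := by
    intro y
    obtain ⟨z, rfl⟩ := QuotientGroup.mk'_surjective _ y
    refine ⟨Matrix.SpecialLinearGroup.map e.symm.toRingHom z, congrArg (QuotientGroup.mk' _) ?_⟩
    apply Subtype.ext
    ext i j
    exact e.apply_symm_apply _
  have hinj : Function.Injective f := by
    rw [← MonoidHom.ker_eq_bot_iff, Subgroup.eq_bot_iff_forall]
    intro x hx
    have hx' : Matrix.SpecialLinearGroup.map e.toRingHom x ∈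
        Subgroup.center (Matrix.SpecialLinearGroup (Fin 3) F) := (QuotientGroup.eq_one_iff _).1 hx
    obtain ⟨r, hr, hr'⟩ := Matrix.SpecialLinearGroup.mem_center_iff.1 hx'
    rw [Fintype.card_fin] at hr
    have h3 := FiniteField.pow_card r
    rw [hF, hr] at h3
    apply Subtype.ext
    ext i j
    apply e.injective
    have := congrFun (congrFun hr' i) j
    rw [← h3] at this
    refine this.symm.trans ?_
    fin_cases i <;> fin_cases j <;> simp
  rw [← range_orderOf_SL]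
  ext m
  constructor
  · rintro ⟨y, rfl⟩
    obtain ⟨x, rfl⟩ := hsurj y
    exact ⟨x, (orderOf_injective f hinj x).symm⟩
  · rintro ⟨x, rfl⟩
    exact ⟨f x, orderOf_injective f hinj x⟩

end Cfsg.Agent.Lib.SpectrumExt.LThreeThree
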