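import Mathlib
import Cfsg.Agent.S2261

/-! Element orders of `PGL₂(q)`, `q` odd. -/

namespace Cfsg.Agent.Lib.SpectrumExt.PGL2

open Matrix

variable {F : Type*} [Field F] [Fintype F]

local notation "M2" => Matrix (Fin 2) (Fin 2) F
local notation "G2" => GL (Fin 2) F
local notation "P2" => GL (Fin 2) F ⧸ Subgroup.center (GL (Fin 2) F)

omit [Fintype F] in
theorem sq_eq (g : M2) : g * g = g.trace • g - g.det • (1 : M2) := by
  ext i j
  fin_cases i <;> fin_cases j <;>
    simp [mul_apply, trace_fin_two, det_fin_two, Fin.sum_univ_two] <;> ring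

omit [Fintype F] in
theorem mk_eq_one (x : G2) (c : F) (h : (x : M2) = c • (1 : M2)) : (x : P2) = 1 := by
  rw [QuotientGroup.eq_one_iff, Subgroup.mem_center_iff]
  intro g
  apply Units.ext
  rw [Units.val_mul, Units.val_mul, h, smul_mul_assoc, mul_smul_comm, one_mul, mul_one]

omit [Fintype F] in
theorem mk_pow_eq_one (x : G2) (n : ℕ) (c : F) (h : (x : M2) ^ n = c • (1 : M2)) :
    (x : P2) ^ n = 1 := by
  rw [← QuotientGroup.mk_pow]
  exact mk_eq_one _ c (by rw [Units.val_pow_eq_pow_val, h])

omit [Fintype F] in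
theorem central_facts (x : G2) (h : (x : P2) = 1) :
    (x : M2) 0 1 = 0 ∧ (x : M2) 1 0 = 0 ∧ (x : M2) 0 0 = (x : M2) 1 1 := by
  rw [QuotientGroup.eq_one_iff, Subgroup.mem_center_iff] at h
  have h1 := congrArg (fun y : G2 => (y : M2)) (h (GeneralLinearGroup.mkOfDetNeZero !![1, 1; 0, 1] (by simp [det_fin_two])))
  have h2 := congrArg (fun y : G2 => (y : M2)) (h (GeneralLinearGroup.mkOfDetNeZero !![1, 0; 1, 1] (by simp [det_fin_two])))
  simp only [Units.val_mul, GeneralLinearGroup.val_mkOfDetNeZero] at h1 h2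
  have a := congrFun (congrFun h1 0) 0
  have b := congrFun (congrFun h1 0) 1
  have c := congrFun (congrFun h2 0) 0
  simp [mul_apply, Fin.sum_univ_two] at a b c
  refine ⟨?_, a, ?_⟩
  · exact c
  · linear_combination -b

theorem orderOf_cases (p : ℕ) [Fact p.Prime] [CharP F p] (h2 : (2 : F) ≠ 0) (y : P2) :
    orderOf y ∣ p ∨ orderOf y ∣ Fintype.card F - 1 ∨ orderOf y ∣ Fintype.card F + 1 := by
  obtain ⟨x, rfl⟩ := QuotientGroup.mk_surjective y
  obtain ⟨e, -, hq⟩ := FiniteField.card F p
  set g : M2 := (x : M2) with hg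
  set t := g.trace
  set d := g.det
  set h : M2 := (2 : F) • g - t • (1 : M2) with hh
  set D := t ^ 2 - 4 * d
  have hsq : h * h = D • (1 : M2) := by
    simp only [hh, sub_mul, mul_sub, smul_mul_assoc, mul_smul_comm, one_mul, mul_one, sq_eq g, smul_sub,
      smul_smul]
    module
  have hodd : ringChar F ≠ 2 := by
    intro hc
    apply h2
    have : ((2 : ℕ) : F) = 0 := by rw [← hc]; exact ringChar.Nat.cast_ringChar
    exact_mod_cast this
  haveI : ExpChar F p := ExpChar.prime Fact.out
  haveI : CharP M2 p := inferInstance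
  have hcomm : Commute ((2 : F) • g) (t • (1 : M2)) :=
    ((Commute.one_right g).smul_right t).smul_left 2
  by_cases hD : D = 0
  · left
    refine orderOf_dvd_of_pow_eq_one (mk_pow_eq_one x p (t ^ p / 2 ^ p) ?_)
    have hp0 : h ^ p = 0 := by
      obtain ⟨m, hm⟩ : ∃ m, p = 2 + m := Nat.exists_eq_add_of_le (Fact.out : p.Prime).two_le
      rw [hm, pow_add, pow_two, hsq, hD, zero_smul, zero_mul]
    rw [hh, sub_pow_char_of_commute p hcomm, sub_eq_zero, smul_pow, smul_pow, one_pow] at hp0
    rw [div_eq_inv_mul, ← smul_smul, ← hp0, inv_smul_smul₀ (pow_ne_zero _ h2)]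
  · right
    have hq2 : Fintype.card F = 2 * (Fintype.card F / 2) + 1 := by
      have := FiniteField.odd_card_of_char_ne_two hodd
      omega
    have hpow : h ^ Fintype.card F = D ^ (Fintype.card F / 2) • h := by
      conv_lhs => rw [hq2]
      rw [pow_succ, pow_mul, pow_two, hsq, smul_pow, one_pow, smul_mul_assoc, one_mul]
    have hlin : h ^ Fintype.card F = (2 : F) • g ^ Fintype.card F - t • (1 : M2) := by
      rw [hh, hq, sub_pow_char_pow_of_commute p _ hcomm, smul_pow, smul_pow, one_pow, ← hq,
        FiniteField.pow_card, FiniteField.pow_card]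
    rw [hlin] at hpow
    rcases FiniteField.pow_dichotomy hodd hD with hk | hk
    · left
      rw [hk, one_smul, hh, sub_left_inj, smul_right_inj h2] at hpow
      refine orderOf_dvd_of_pow_eq_one (mk_pow_eq_one x _ 1 ?_)
      have hx : x ^ Fintype.card F = x := Units.ext (by rw [Units.val_pow_eq_pow_val]; exact hpow)
      have hx' : x ^ (Fintype.card F - 1) = 1 := by
        refine mul_right_cancel (b := x) ?_
        rw [← pow_succ, Nat.sub_add_cancel Fintype.card_pos, hx, one_mul]
      rw [one_smul, ← Units.val_pow_eq_pow_val, hx', Units.val_one]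
    · right
      refine orderOf_dvd_of_pow_eq_one (mk_pow_eq_one x _ d ?_)
      have hgq : g ^ Fintype.card F = t • (1 : M2) - g := by
        rw [← smul_right_inj h2]
        rw [hk, neg_smul, one_smul, hh, sub_eq_iff_eq_add] at hpow
        rw [hpow]
        module
      show g ^ (Fintype.card F + 1) = _
      rw [pow_succ, hgq, sub_mul, smul_mul_assoc, one_mul, sq_eq g]
      module

/-- The spectrum of `PGL₂(q)`, `q` odd. -/
theorem range_orderOf (p : ℕ) [Fact p.Prime] [CharP F p] (h2 : (2 : F) ≠ 0) :
    Set.range (orderOf : P2 → ℕ) =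
      {m | m ∣ p ∨ m ∣ Fintype.card F - 1 ∨ m ∣ Fintype.card F + 1} := by
  classical
  ext m
  constructor
  · rintro ⟨y, rfl⟩; exact orderOf_cases p h2 y
  have hdiv : ∀ (y : P2) (m : ℕ), m ∣ orderOf y → m ∈ Set.range (orderOf : P2 → ℕ) := fun y m hm =>
    let ⟨k, hk⟩ := hm
    ⟨y ^ k, by
      have hpos : 0 < orderOf y := orderOf_pos _
      have hk0 : 0 < k := Nat.pos_of_ne_zero fun h => by rw [h, mul_zero] at hk; omega
      rw [orderOf_pow, hk, Nat.gcd_eq_right (Dvd.intro_left m rfl), Nat.mul_div_cancel _ hk0]⟩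
  rintro (h | h | h)
  · let u : G2 := GeneralLinearGroup.mkOfDetNeZero !![1, 1; 0, 1] (by simp [det_fin_two])
    have hu : orderOf (u : P2) = p := by
      refine orderOf_eq_prime ?_ fun h1 => ?_
      · refine mk_pow_eq_one u p 1 ?_
        have he : ∀ n : ℕ, (!![1, 1; 0, 1] : M2) ^ n = !![1, (n : F); 0, 1] := by
          intro n
          induction n with
          | zero => ext i j; fin_cases i <;> fin_cases j <;> simp
          | succ n ih =>
            rw [pow_succ, ih]
            ext i j
            fin_cases i <;> fin_cases j <;> simp [mul_apply, Fin.sum_univ_two, add_comm]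
        show (!![1, 1; 0, 1] : M2) ^ p = _
        rw [he, CharP.cast_eq_zero, one_smul]
        ext i j; fin_cases i <;> fin_cases j <;> simp
      · have := (central_facts u h1).1
        simp [u] at this
    exact hdiv _ m (hu ▸ h)
  · obtain ⟨w, hw⟩ := IsCyclic.exists_generator (α := Fˣ)
    let g : G2 := GeneralLinearGroup.mkOfDetNeZero !![(w : F), 0; 0, 1] (by simp [det_fin_two])
    have he : ∀ n : ℕ, ((g ^ n : G2) : M2) = !![((w ^ n : Fˣ) : F), 0; 0, 1] := by
      intro n
      induction n with
      | zero => ext i j; fin_cases i <;> fin_cases j <;> simp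
      | succ n ih =>
        rw [pow_succ, pow_succ, Units.val_mul, Units.val_mul, ih]
        ext i j
        fin_cases i <;> fin_cases j <;> simp [g, mul_apply, Fin.sum_univ_two]
    have hg : orderOf (g : P2) = Fintype.card F - 1 := by
      rw [← Fintype.card_units, ← orderOf_eq_card_of_forall_mem_zpowers hw |>.trans Nat.card_eq_fintype_card]
      refine orderOf_eq_orderOf_iff.2 fun n => ⟨fun h1 => ?_, fun h1 => ?_⟩
      · rw [← QuotientGroup.mk_pow] at h1
        have h3 := (central_facts _ h1).2.2
        simp only [he] at h3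
        apply Units.ext
        simpa using h3
      · refine mk_pow_eq_one g n 1 ?_
        rw [← Units.val_pow_eq_pow_val, he, h1, one_smul]
        ext i j; fin_cases i <;> fin_cases j <;> simp
    exact hdiv _ m (hg ▸ h)
  · obtain ⟨g, hg⟩ := (Cfsg.Agent.S2261.result (F := F) 2 (by norm_num)).2
    have hc := Fintype.one_lt_card (α := F)
    have hg' : orderOf g = Fintype.card F + 1 := by
      apply Nat.eq_of_mul_eq_mul_left (by omega : 0 < Fintype.card F - 1)
      rw [hg]
      zify [Nat.one_le_pow 2 _ (by omega : 0 < Fintype.card F), (by omega : 1 ≤ Fintype.card F)]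
      ring
    exact hdiv _ m (hg' ▸ h)

end Cfsg.Agent.Lib.SpectrumExt.PGL2
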