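import Mathlib

/-! A solvable group with the element orders of `PSp₄(3)`. -/

namespace Cfsg.Agent.Lib.SpectrumExt.SympThree

/-- The field with 81 elements. -/
abbrev K := GaloisField 3 4

/-- The unipotent group. -/
@[ext] structure N where
  /-- coordinate -/ a : K
  /-- coordinate -/ b : K
  /-- coordinate -/ u : K
  /-- coordinate -/ v : K
  /-- coordinate -/ w : K
  /-- coordinate -/ x : K
  /-- coordinate -/ c : K

noncomputable instance : One N := ⟨⟨0, 0, 0, 0, 0, 0, 0⟩⟩
noncomputable instance : Mul N := ⟨fun m n =>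
  ⟨m.a + n.a, m.b + n.b, m.u + n.u + m.a * n.a ^ 3, m.v + n.v + m.b * n.a ^ 3,
    m.w + n.w + m.a ^ 3 * n.b ^ 9, m.x + n.x - m.a ^ 3 * n.a ^ 9,
    m.c + n.c + m.a * n.w + m.b * n.x + m.u * n.b ^ 9 - m.v * n.a ^ 9⟩⟩
noncomputable instance : Inv N := ⟨fun n =>
  ⟨-n.a, -n.b, -n.u + n.a * n.a ^ 3, -n.v + n.b * n.a ^ 3, -n.w + n.a ^ 3 * n.b ^ 9,
    -n.x - n.a ^ 3 * n.a ^ 9,
    -n.c + n.a * n.w + n.b * n.x + (-n.u + n.a * n.a ^ 3) * -n.b ^ 9 + (-n.v + n.b * n.a ^ 3) * n.a ^ 9⟩⟩

theorem one_def : (1 : N) = ⟨0, 0, 0, 0, 0, 0, 0⟩ := rfl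
theorem mul_def (m n : N) : m * n =
  ⟨m.a + n.a, m.b + n.b, m.u + n.u + m.a * n.a ^ 3, m.v + n.v + m.b * n.a ^ 3,
    m.w + n.w + m.a ^ 3 * n.b ^ 9, m.x + n.x - m.a ^ 3 * n.a ^ 9,
    m.c + n.c + m.a * n.w + m.b * n.x + m.u * n.b ^ 9 - m.v * n.a ^ 9⟩ := rfl
theorem inv_def (n : N) : n⁻¹ =
  ⟨-n.a, -n.b, -n.u + n.a * n.a ^ 3, -n.v + n.b * n.a ^ 3, -n.w + n.a ^ 3 * n.b ^ 9,
    -n.x - n.a ^ 3 * n.a ^ 9,
    -n.c + n.a * n.w + n.b * n.x + (-n.u + n.a * n.a ^ 3) * -n.b ^ 9 + (-n.v + n.b * n.a ^ 3) * n.a ^ 9⟩ := rfl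

theorem add_cube (s t : K) : (s + t) ^ 3 = s ^ 3 + t ^ 3 := add_pow_char s t 3
theorem add_nine (s t : K) : (s + t) ^ 9 = s ^ 9 + t ^ 9 := by
  rw [show (9 : ℕ) = 3 * 3 from rfl, pow_mul, add_cube, add_cube, ← pow_mul, ← pow_mul]
theorem three_eq_zero : (3 : K) = 0 := by
  have h := CharP.cast_eq_zero K 3
  exact_mod_cast h

noncomputable instance : Group N := Group.ofLeftAxioms
  (fun m n k => by
    simp only [mul_def, N.mk.injEq]
    refine ⟨?_, ?_, ?_, ?_, ?_, ?_, ?_⟩ <;> (try simp only [add_cube, add_nine]) <;> ring)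
  (fun n => by
    simp only [one_def, mul_def]
    ext <;> simp)
  (fun n => by
    simp only [one_def, mul_def, inv_def, N.mk.injEq]
    refine ⟨?_, ?_, ?_, ?_, ?_, ?_, ?_⟩ <;> ring)

instance : Finite N := Finite.of_equiv (K × K × K × K × K × K × K)
  { toFun := fun p => ⟨p.1, p.2.1, p.2.2.1, p.2.2.2.1, p.2.2.2.2.1, p.2.2.2.2.2.1, p.2.2.2.2.2.2⟩
    invFun := fun n => (n.a, n.b, n.u, n.v, n.w, n.x, n.c)
    left_inv := fun _ => rfl
    right_inv := fun _ => rfl }

theorem cube (n : N) : n ^ 3 = ⟨0, 0, 0, 0, 0, 0, n.a ^ 3 * (n.a * n.b ^ 9 - n.b * n.a ^ 9)⟩ := by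
  have h3 := three_eq_zero
  rw [pow_three]
  simp only [mul_def, N.mk.injEq, add_cube, add_nine]
  refine ⟨?_, ?_, ?_, ?_, ?_, ?_, ?_⟩
  · linear_combination n.a * h3
  · linear_combination n.b * h3
  · linear_combination (n.u + n.a * n.a ^ 3) * h3
  · linear_combination (n.v + n.b * n.a ^ 3) * h3
  · linear_combination (n.w + n.a ^ 3 * n.b ^ 9) * h3
  · linear_combination (n.x - n.a ^ 3 * n.a ^ 9) * h3
  · linear_combination (n.c + n.a * n.w + n.b * n.x + n.u * n.b ^ 9 - n.v * n.a ^ 9) * h3

theorem pow_nine (n : N) : n ^ 9 = 1 := by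
  rw [show (9 : ℕ) = 3 * 3 from rfl, pow_mul, cube (n ^ 3), cube n]
  simp [one_def]

/-- The fifth roots of unity. -/
theorem exists_zeta : ∃ z : K, z ≠ 1 ∧ z ^ 5 = 1 := by
  haveI : Fact (Nat.Prime 5) := ⟨by norm_num⟩
  have hK : Nat.card K = 81 := by rw [GaloisField.card 3 4 (by norm_num)]; norm_num
  have hd : 5 ∣ Nat.card Kˣ := by rw [Nat.card_units, hK]; norm_num
  obtain ⟨u, hu⟩ := exists_prime_orderOf_dvd_card' 5 hd
  refine ⟨u, fun h => ?_, ?_⟩
  · rw [Units.val_eq_one.1 h, orderOf_one] at hu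
    norm_num at hu
  · rw [← Units.val_pow_eq_pow_val, ← hu, pow_orderOf_eq_one, Units.val_one]

/-- A fixed root. -/
noncomputable def zeta : K := exists_zeta.choose

theorem zeta_ne : zeta ≠ 1 := exists_zeta.choose_spec.1
theorem zeta_pow : zeta ^ 5 = 1 := exists_zeta.choose_spec.2

/-- Scaling. -/
noncomputable def scale (i : ℕ) (n : N) : N :=
  ⟨zeta ^ i * n.a, zeta ^ i * n.b, (zeta ^ i) ^ 4 * n.u, (zeta ^ i) ^ 4 * n.v, (zeta ^ i) ^ 2 * n.w,
    (zeta ^ i) ^ 2 * n.x, (zeta ^ i) ^ 3 * n.c⟩

theorem zeta_i (i : ℕ) : (zeta ^ i) ^ 5 = 1 := by rw [← pow_mul, mul_comm, pow_mul, zeta_pow, one_pow]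

theorem scale_mul (i : ℕ) (m n : N) : scale i (m * n) = scale i m * scale i n := by
  have h := zeta_i i
  simp only [scale, mul_def, N.mk.injEq, mul_pow]
  refine ⟨?_, ?_, ?_, ?_, ?_, ?_, ?_⟩
  · ring
  · ring
  · ring
  · ring
  · linear_combination (-(zeta ^ i) ^ 7 - (zeta ^ i) ^ 2) * m.a ^ 3 * n.b ^ 9 * h
  · linear_combination ((zeta ^ i) ^ 7 + (zeta ^ i) ^ 2) * m.a ^ 3 * n.a ^ 9 * h
  · linear_combination (-(zeta ^ i) ^ 8 - (zeta ^ i) ^ 3) * (m.u * n.b ^ 9 - m.v * n.a ^ 9) * h

theorem scale_scale (i j : ℕ) (n : N) : scale i (scale j n) = scale (i + j) n := by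
  ext <;> simp only [scale, pow_add] <;> ring

theorem scale_congr {i j : ℕ} (h : i % 5 = j % 5) : scale i = scale j := by
  have e : zeta ^ i = zeta ^ j := by
    rw [pow_eq_pow_mod i zeta_pow, pow_eq_pow_mod j zeta_pow, h]
  funext n
  simp only [scale, e]

theorem scale_zero (n : N) : scale 0 n = n := by ext <;> simp [scale]

/-- Scaling as an automorphism. -/
noncomputable def scaleAut (i : ℕ) : MulAut N where
  toFun := scale i
  invFun := scale (4 * i)
  left_inv n := by rw [scale_scale, scale_congr (j := 0) (by omega), scale_zero]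
  right_inv n := by rw [scale_scale, scale_congr (j := 0) (by omega), scale_zero]
  map_mul' := scale_mul i

/-- The action of `C5`. -/
noncomputable def act5 : Multiplicative (ZMod 5) →* MulAut N where
  toFun i := scaleAut (Multiplicative.toAdd i).val
  map_one' := MulEquiv.ext fun n => scale_zero n
  map_mul' i j := MulEquiv.ext fun n => by
    show scale (Multiplicative.toAdd i + Multiplicative.toAdd j).val n = scale _ (scale _ n)
    rw [scale_scale, scale_congr]
    rw [ZMod.val_add]
    omega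

/-- The group of odd order. -/
abbrev M := N ⋊[act5] Multiplicative (ZMod 5)

instance : Finite M := Finite.of_equiv (N × Multiplicative (ZMod 5)) SemidirectProduct.equivProd.symm

/-- Frobenius. -/
noncomputable def frob (n : N) : N :=
  ⟨n.a ^ 3, n.b ^ 3, n.u ^ 3, n.v ^ 3, n.w ^ 3, n.x ^ 3, n.c ^ 3⟩

theorem sub_cube (s t : K) : (s - t) ^ 3 = s ^ 3 - t ^ 3 := sub_pow_char s t

theorem frob_mul (m n : N) : frob (m * n) = frob m * frob n := by
  simp only [frob, mul_def, N.mk.injEq, add_cube, sub_cube, mul_pow]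
  refine ⟨?_, ?_, ?_, ?_, ?_, ?_, ?_⟩ <;> first | trivial | ring

theorem pow_81 (t : K) : t ^ 81 = t := by
  letI := Fintype.ofFinite K
  have h := FiniteField.pow_card t
  rwa [← Nat.card_eq_fintype_card, GaloisField.card 3 4 (by norm_num), show 3 ^ 4 = 81 by norm_num] at h

theorem frob_four (n : N) : frob (frob (frob (frob n))) = n := by
  ext <;> simp only [frob, ← pow_mul] <;> exact pow_81 _

/-- Frobenius on `M`. -/
noncomputable def frobM (m : M) : M :=
  ⟨frob m.left, Multiplicative.ofAdd (3 * Multiplicative.toAdd m.right)⟩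

theorem frob_scale (i : ℕ) (n : N) : frob (scale i n) = scale (3 * i) (frob n) := by
  ext <;> simp only [frob, scale, mul_pow, ← pow_mul] <;> congr 2 <;> ring

theorem frobM_mul (m n : M) : frobM (m * n) = frobM m * frobM n := by
  refine SemidirectProduct.ext ?_ ?_
  · show frob (m.left * scale _ n.left) = frob m.left * scale _ (frob n.left)
    rw [frob_mul, frob_scale]
    congr 1
    refine congrFun (scale_congr ?_) _
    show _ = (3 * Multiplicative.toAdd m.right).val % 5
    rw [ZMod.val_mul, show (3 : ZMod 5).val = 3 from rfl, Nat.mod_mod]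
  · show Multiplicative.ofAdd (3 * (Multiplicative.toAdd m.right + Multiplicative.toAdd n.right)) = _
    rw [mul_add]
    rfl

theorem frobM_four (m : M) : frobM (frobM (frobM (frobM m))) = m := by
  refine SemidirectProduct.ext (frob_four _) ?_
  show Multiplicative.ofAdd (3 * (3 * (3 * (3 * Multiplicative.toAdd m.right)))) = m.right
  rw [(by decide : ∀ i : ZMod 5, 3 * (3 * (3 * (3 * i))) = i)]
  rfl

/-- Frobenius as an automorphism. -/
noncomputable def frobAut : MulAut M where
  toFun := frobM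
  invFun m := frobM (frobM (frobM m))
  left_inv := frobM_four
  right_inv := frobM_four
  map_mul' := frobM_mul

theorem frobAut_four : frobAut ^ 4 = 1 := MulEquiv.ext frobM_four

/-- The action of `C4`. -/
noncomputable def act4 : Multiplicative (ZMod 4) →* MulAut M where
  toFun k := frobAut ^ (Multiplicative.toAdd k).val
  map_one' := by simp
  map_mul' j k := by
    rw [← pow_add, pow_eq_pow_mod _ frobAut_four, pow_eq_pow_mod (_ + _) frobAut_four]
    congr 1
    show (Multiplicative.toAdd j + Multiplicative.toAdd k).val % 4 = _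
    rw [ZMod.val_add, Nat.mod_mod]

/-- The solvable group. -/
abbrev H := M ⋊[act4] Multiplicative (ZMod 4)

instance : Finite H := Finite.of_equiv (M × Multiplicative (ZMod 4)) SemidirectProduct.equivProd.symm

theorem pow_five {m : M} (hm : m.right ≠ 1) : m ^ 5 = 1 := by
  set P := m ^ 5
  have hr : P.right = 1 := by
    show SemidirectProduct.rightHom (m ^ 5) = 1
    rw [map_pow]
    exact Multiplicative.toAdd.injective (by
      show 5 • Multiplicative.toAdd m.right = 0
      rw [nsmul_eq_mul, ZMod.natCast_self, zero_mul])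
  have hcomm : m * P = P * m := (Commute.self_pow m 5).eq
  have hl : m.left * scale (Multiplicative.toAdd m.right).val P.left = P.left * m.left := by
    have h := congrArg SemidirectProduct.left hcomm
    rw [SemidirectProduct.mul_left, SemidirectProduct.mul_left, hr, map_one] at h
    exact h
  set i := (Multiplicative.toAdd m.right).val
  have hi : i % 5 ≠ 0 := by
    intro h
    apply hm
    rw [Nat.mod_eq_of_lt (ZMod.val_lt _), ZMod.val_eq_zero] at h
    exact Multiplicative.toAdd.injective h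
  have hpw : ∀ k, k % 5 ≠ 0 → ∀ t : K, zeta ^ k * t = t → t = 0 := by
    intro k hk t ht
    have h1 : (zeta ^ k - 1) * t = 0 := by linear_combination ht
    refine (mul_eq_zero.1 h1).resolve_left (fun h0 => ?_)
    rw [sub_eq_zero, pow_eq_pow_mod k zeta_pow] at h0
    haveI : Fact (Nat.Prime 5) := ⟨by norm_num⟩
    have ho : orderOf zeta = 5 := orderOf_eq_prime zeta_pow zeta_ne
    have h5 := Nat.le_of_dvd (Nat.pos_of_ne_zero hk) (orderOf_dvd_of_pow_eq_one h0)
    rw [ho] at h5
    omega
  rw [mul_def, mul_def, N.mk.injEq] at hl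
  obtain ⟨ha, hb, hu, hv, hw, hx, hc⟩ := hl
  simp only [scale] at ha hb hu hv hw hx hc
  have A : P.left.a = 0 := hpw i hi _ (by linear_combination ha)
  have B : P.left.b = 0 := hpw i hi _ (by linear_combination hb)
  simp only [A, B, mul_zero, zero_mul, zero_pow three_ne_zero, zero_pow (show 9 ≠ 0 by norm_num), add_zero,
    sub_zero] at hu hv hw hx hc
  have U : P.left.u = 0 := hpw (i * 4) (by omega) _ (by rw [pow_mul]; linear_combination hu)
  have V : P.left.v = 0 := hpw (i * 4) (by omega) _ (by rw [pow_mul]; linear_combination hv)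
  have W : P.left.w = 0 := hpw (i * 2) (by omega) _ (by rw [pow_mul]; linear_combination hw)
  have X : P.left.x = 0 := hpw (i * 2) (by omega) _ (by rw [pow_mul]; linear_combination hx)
  simp only [U, V, W, X, mul_zero, zero_mul, add_zero, sub_zero] at hc
  have C : P.left.c = 0 := hpw (i * 3) (by omega) _ (by rw [pow_mul]; linear_combination hc)
  exact SemidirectProduct.ext (N.ext A B U V W X C) hr

theorem six {m : M} : (m * frobM (frobM m)) ^ 3 = 1 := by
  set P := m * frobM (frobM m) with hP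
  have hr : P.right = 1 := by
    show m.right * Multiplicative.ofAdd (3 * (3 * Multiplicative.toAdd m.right)) = 1
    exact Multiplicative.toAdd.injective
      ((by decide : ∀ i : ZMod 5, i + 3 * (3 * i) = 0) _)
  set i := (Multiplicative.toAdd m.right).val
  have hl : P.left = m.left * scale i (frob (frob m.left)) := rfl
  have hP' : P = SemidirectProduct.inl P.left := SemidirectProduct.ext rfl hr
  rw [hP', ← map_pow, cube]
  have key : ∀ s : K, (s + zeta ^ i * (s ^ 3) ^ 3) ^ 9 = zeta ^ (4 * i) * (s + zeta ^ i * (s ^ 3) ^ 3) := by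
    intro s
    have h5 := zeta_i i
    rw [add_nine, mul_pow, ← pow_mul, ← pow_mul, show (s ^ 3) ^ (3 * 9) = s ^ 81 by ring, pow_81, mul_add, ← mul_assoc,
      ← pow_mul, ← pow_add, pow_eq_pow_mod (i * 9) zeta_pow, pow_eq_pow_mod (4 * i + i) zeta_pow,
      pow_eq_pow_mod (4 * i) zeta_pow, show (4 * i + i) % 5 = 0 by omega,
      show (i * 9) % 5 = (4 * i) % 5 by omega, pow_zero, one_mul]
    ring
  have ha : P.left.a ^ 9 = zeta ^ (4 * i) * P.left.a := by rw [hl]; exact key _
  have hb : P.left.b ^ 9 = zeta ^ (4 * i) * P.left.b := by rw [hl]; exact key _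
  rw [ha, hb, show P.left.a * (zeta ^ (4 * i) * P.left.b) - P.left.b * (zeta ^ (4 * i) * P.left.a) = 0 by ring,
    mul_zero, ← one_def, map_one]

theorem pow_cases (h : H) : h ^ 5 = 1 ∨ h ^ 9 = 1 ∨ h ^ 12 = 1 := by
  obtain ⟨m, k⟩ := h
  by_cases hk : k = 1
  · subst hk
    have e : (⟨m, 1⟩ : H) = SemidirectProduct.inl m := rfl
    rw [e, ← map_pow, ← map_pow, ← map_pow]
    by_cases hm : m.right = 1
    · refine Or.inr (Or.inl ?_)
      have hm' : m = SemidirectProduct.inl m.left := SemidirectProduct.ext rfl hm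
      rw [hm', ← map_pow, pow_nine, map_one, map_one]
    · exact Or.inl (by rw [pow_five hm, map_one])
  · refine Or.inr (Or.inr ?_)
    have h2 : ∀ m' : M, (⟨m', Multiplicative.ofAdd 2⟩ : H) ^ 6 = 1 := by
      intro m'
      have e : (⟨m', Multiplicative.ofAdd 2⟩ : H) * ⟨m', Multiplicative.ofAdd 2⟩ =
          SemidirectProduct.inl (m' * frobM (frobM m')) :=
        SemidirectProduct.ext rfl (Multiplicative.toAdd.injective (by decide : (2 : ZMod 4) + 2 = 0))
      rw [show (6 : ℕ) = 2 * 3 from rfl, pow_mul, pow_two, e, ← map_pow, six, map_one]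
    rcases (show ∀ k : ZMod 4, k = 0 ∨ k = 2 ∨ k + k = 2 by decide) (Multiplicative.toAdd k) with h | h | h
    · exact absurd (Multiplicative.toAdd.injective h) hk
    · have hk2 : k = Multiplicative.ofAdd 2 := Multiplicative.toAdd.injective h
      rw [hk2, show (12 : ℕ) = 6 * 2 from rfl, pow_mul, h2, one_pow]
    · have hk2 : ((⟨m, k⟩ : H) ^ 2) = ⟨((⟨m, k⟩ : H) ^ 2).left, Multiplicative.ofAdd 2⟩ := by
        refine SemidirectProduct.ext rfl ?_
        rw [pow_two, SemidirectProduct.mul_right]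
        exact Multiplicative.toAdd.injective h
      rw [show (12 : ℕ) = 2 * 6 from rfl, pow_mul, hk2, h2]

theorem gen5 : (Multiplicative.ofAdd (1 : ZMod 5)) ^ 5 = 1 ∧ Multiplicative.ofAdd (1 : ZMod 5) ≠ 1 := by
  decide

theorem range_orderOf : Set.range (orderOf : H → ℕ) = {m | m ∣ 5 ∨ m ∣ 9 ∨ m ∣ 12} := by
  ext j
  constructor
  · rintro ⟨x, rfl⟩
    exact (pow_cases x).imp orderOf_dvd_of_pow_eq_one (Or.imp orderOf_dvd_of_pow_eq_one orderOf_dvd_of_pow_eq_one)
  · have hdiv : ∀ (y : H) (m : ℕ), m ∣ orderOf y → m ∈ Set.range (orderOf : H → ℕ) := fun y m hm =>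
      let ⟨c, hc⟩ := hm
      ⟨y ^ c, by
        have hpos : 0 < orderOf y := orderOf_pos _
        have hc0 : 0 < c := Nat.pos_of_ne_zero fun h => by rw [h, mul_zero] at hc; omega
        rw [orderOf_pow, hc, Nat.gcd_eq_right (Dvd.intro_left m rfl), Nat.mul_div_cancel _ hc0]⟩
    haveI : Fact (Nat.Prime 5) := ⟨by norm_num⟩
    haveI : Fact (Nat.Prime 2) := ⟨Nat.prime_two⟩
    have hinl : ∀ m : M, orderOf (SemidirectProduct.inl m : H) = orderOf m :=
      orderOf_injective SemidirectProduct.inl SemidirectProduct.inl_injective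
    have hinl' : ∀ n : N, orderOf (SemidirectProduct.inl n : M) = orderOf n :=
      orderOf_injective SemidirectProduct.inl SemidirectProduct.inl_injective
    have h5 : ∃ y : H, orderOf y = 5 := by
      refine ⟨SemidirectProduct.inl (SemidirectProduct.inr (Multiplicative.ofAdd 1)), ?_⟩
      rw [hinl, orderOf_injective SemidirectProduct.inr SemidirectProduct.inr_injective]
      exact orderOf_eq_prime gen5.1 gen5.2
    have h9 : ∃ y : H, orderOf y = 9 := by
      have hnf : ∃ t : K, t ^ 9 ≠ t := by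
        by_contra h
        push Not at h
        have hr : ∀ t : K, (Polynomial.X ^ 9 - Polynomial.X : Polynomial K).IsRoot t := fun t => by simp [h t]
        have hne : (Polynomial.X ^ 9 - Polynomial.X : Polynomial K) ≠ 0 :=
          FiniteField.X_pow_card_sub_X_ne_zero K (by norm_num)
        have hc := Polynomial.card_le_degree_of_subset_roots (p := (Polynomial.X ^ 9 - Polynomial.X : Polynomial K))
          (Z := (Set.univ : Set K).toFinite.toFinset) (fun t _ => (Polynomial.mem_roots hne).2 (hr t))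
        rw [FiniteField.X_pow_card_sub_X_natDegree_eq K (by norm_num), ← Set.ncard_eq_toFinset_card _,
          Set.ncard_univ, GaloisField.card 3 4 (by norm_num)] at hc
        norm_num at hc
      obtain ⟨t, ht⟩ := hnf
      haveI : Fact (Nat.Prime 3) := ⟨Nat.prime_three⟩
      refine ⟨SemidirectProduct.inl (SemidirectProduct.inl ⟨1, t, 0, 0, 0, 0, 0⟩), ?_⟩
      rw [hinl, hinl']
      refine orderOf_eq_prime_pow (p := 3) (n := 1) ?_ (pow_nine _)
      rw [pow_one, cube, one_def]
      intro h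
      have hc := congrArg N.c h
      simp only [one_pow, one_mul, mul_one] at hc
      exact ht (sub_eq_zero.1 hc)
    have h12 : ∃ y : H, orderOf y = 12 := by
      let n : M := SemidirectProduct.inl ⟨1, 0, 0, 0, 0, 0, 0⟩
      have hn : orderOf n = 3 := by
        haveI : Fact (Nat.Prime 3) := ⟨Nat.prime_three⟩
        rw [hinl']
        refine orderOf_eq_prime ?_ (fun h => one_ne_zero (α := K) (congrArg N.a h))
        rw [cube, one_def]; simp
      have hs : orderOf (SemidirectProduct.inr (Multiplicative.ofAdd 1) : H) = 4 := by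
        rw [orderOf_injective SemidirectProduct.inr SemidirectProduct.inr_injective]
        exact orderOf_eq_prime_pow (p := 2) (n := 1) (by decide) (by decide)
      have hc : Commute (SemidirectProduct.inl n : H) (SemidirectProduct.inr (Multiplicative.ofAdd 1)) := by
        refine SemidirectProduct.ext ?_ (by simp)
        simp only [SemidirectProduct.mul_left, SemidirectProduct.left_inl, SemidirectProduct.left_inr,
          SemidirectProduct.right_inl, SemidirectProduct.right_inr, map_one, mul_one, one_mul, MulAut.one_apply]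
        refine SemidirectProduct.ext ?_ ?_
        · show _ = frob _
          ext <;> simp [n, frob]
        · rfl
      exact ⟨_, by rw [hc.orderOf_mul_eq_mul_orderOf_of_coprime (by rw [hinl, hn, hs]; norm_num), hinl, hn, hs]⟩
    rintro (h | h | h)
    · obtain ⟨y, hy⟩ := h5; exact hdiv y j (hy.symm ▸ h)
    · obtain ⟨y, hy⟩ := h9; exact hdiv y j (hy.symm ▸ h)
    · obtain ⟨y, hy⟩ := h12; exact hdiv y j (hy.symm ▸ h)

theorem isSolvable_H : Group.IsSolvable H := by
  let f : N →* Multiplicative (K × K) :=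
    { toFun := fun n => Multiplicative.ofAdd (n.a, n.b)
      map_one' := rfl
      map_mul' := fun _ _ => rfl }
  haveI : Group.IsSolvable (Multiplicative (K × K)) := Group.isSolvable_of_comm mul_comm
  haveI : Group.IsSolvable f.ker := by
    refine Group.isSolvable_of_comm ?_
    rintro ⟨m, hm⟩ ⟨n, hn⟩
    rw [MonoidHom.mem_ker] at hm hn
    have hm1 : m.a = 0 ∧ m.b = 0 := Prod.mk.inj (Multiplicative.ofAdd.injective hm)
    have hn1 : n.a = 0 ∧ n.b = 0 := Prod.mk.inj (Multiplicative.ofAdd.injective hn)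
    refine Subtype.ext ?_
    show m * n = n * m
    simp only [mul_def, hm1.1, hm1.2, hn1.1, hn1.2, N.mk.injEq]
    refine ⟨?_, ?_, ?_, ?_, ?_, ?_, ?_⟩ <;> simp [add_comm]
  haveI : Group.IsSolvable N :=
    solvable_of_ker_le_range f.ker.subtype f (by rw [Subgroup.range_subtype])
  haveI : Group.IsSolvable (Multiplicative (ZMod 5)) := Group.isSolvable_of_comm mul_comm
  haveI : Group.IsSolvable (Multiplicative (ZMod 4)) := Group.isSolvable_of_comm mul_comm
  haveI : Group.IsSolvable M :=
    solvable_of_ker_le_range (SemidirectProduct.inl : N →* M) (SemidirectProduct.rightHom)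
      (le_of_eq SemidirectProduct.range_inl_eq_ker_rightHom.symm)
  exact solvable_of_ker_le_range (SemidirectProduct.inl : M →* H) (SemidirectProduct.rightHom)
      (le_of_eq SemidirectProduct.range_inl_eq_ker_rightHom.symm)

end Cfsg.Agent.Lib.SpectrumExt.SympThree
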