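import Mathlib
import Cfsg.Agent.Lib.SpectrumExt.HermModule
import Cfsg.Agent.Lib.SpectrumExt.Semidirect
import Cfsg.Agent.Lib.SpectrumExt.PSp4

/-! A group with the element orders of `PSp₄(3^e)`, `e` even. -/

namespace Cfsg.Agent.Lib.SpectrumExt.TensorThree

open Matrix
open scoped Kronecker
open Cfsg.Agent.Lib.RecogThree.PSL2Orders (toP toP_eq_one_iff toP_surjective toP_of_sq)
open Cfsg.Agent.Lib.SpectrumExt.HermModule (dia orderOf_toP_dia)
open Cfsg.Agent.Lib.SpectrumExt.Semidirect (Ext)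

set_option linter.unusedSectionVars false

/-- The index type of the tensor module. -/
abbrev I := (Fin 2 × Fin 2) × (Fin 2 × Fin 2)

/-- A twisted tensor power. -/
def Phi (L : Type*) [CommRing L] [ExpChar L 3] (e : ℕ) (A : Matrix (Fin 2) (Fin 2) L) : Matrix I I L :=
  (A ⊗ₖ A.map (iterateFrobenius L 3 1)) ⊗ₖ (A.map (iterateFrobenius L 3 e) ⊗ₖ A.map (iterateFrobenius L 3 e))

section Ring

variable {L : Type*} [CommRing L] [ExpChar L 3] (e : ℕ)

theorem Phi_apply (A : Matrix (Fin 2) (Fin 2) L) (a b : I) :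
    Phi L e A a b = A a.1.1 b.1.1 * A a.1.2 b.1.2 ^ 3 * (A a.2.1 b.2.1 ^ (3 ^ e) * A a.2.2 b.2.2 ^ (3 ^ e)) := by
  simp [Phi, iterateFrobenius_def, frobenius_def]

theorem Phi_mul (A B : Matrix (Fin 2) (Fin 2) L) : Phi L e (A * B) = Phi L e A * Phi L e B := by
  simp only [Phi, Matrix.map_mul, ← mul_kronecker_mul]

theorem Phi_one : Phi L e 1 = 1 := by
  simp [Phi, one_kronecker_one]

theorem Phi_map {L' : Type*} [CommRing L'] [ExpChar L' 3] (f : L →+* L') (A : Matrix (Fin 2) (Fin 2) L) :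
    (Phi L e A).map f = Phi L' e (A.map f) := by
  ext a b
  simp [Phi_apply]

theorem Phi_diag (d : Fin 2 → L) : Phi L e (diagonal d) =
    diagonal fun a : I => d a.1.1 * d a.1.2 ^ 3 * (d a.2.1 ^ (3 ^ e) * d a.2.2 ^ (3 ^ e)) := by
  simp only [Phi, diagonal_map (map_zero _), diagonal_kronecker_diagonal]
  congr 1

end Ring

variable {K : Type} [Field K] [Fintype K] [CharP K 3] {e : ℕ} (hK : Fintype.card K = 3 ^ (2 * e))

local notation "SLK" => Matrix.SpecialLinearGroup (Fin 2) K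
local notation "PSLK" => Matrix.ProjectiveSpecialLinearGroup (Fin 2) K

/-- The action. -/
noncomputable def act (e : ℕ) : Matrix.SpecialLinearGroup (Fin 2) K →* AddMonoid.End (I → K) where
  toFun g :=
    { toFun := fun v => Phi K e g.1 *ᵥ v
      map_zero' := Matrix.mulVec_zero _
      map_add' := Matrix.mulVec_add _ }
  map_one' := AddMonoidHom.ext fun v => by
    show Phi K e (1 : Matrix (Fin 2) (Fin 2) K) *ᵥ v = v
    rw [Phi_one, Matrix.one_mulVec]
  map_mul' g h := AddMonoidHom.ext fun v => by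
    show Phi K e (g.1 * h.1) *ᵥ v = Phi K e g.1 *ᵥ (Phi K e h.1 *ᵥ v)
    rw [Phi_mul, Matrix.mulVec_mulVec]

theorem act_center (z : SLK) (hz : z ∈ Subgroup.center SLK) : act e z = 1 := by
  obtain ⟨r, hr, hz'⟩ := Matrix.SpecialLinearGroup.mem_center_iff.1 hz
  rw [Fintype.card_fin] at hr
  refine AddMonoidHom.ext fun v => ?_
  show Phi K e z.1 *ᵥ v = v
  rw [← hz', Matrix.scalar_apply, Phi_diag]
  have h : r * r ^ 3 * (r ^ (3 ^ e) * r ^ (3 ^ e)) = 1 := by
    rw [← pow_succ', ← pow_add, ← pow_add, show 3 + 1 + (3 ^ e + 3 ^ e) = 2 * (2 + 3 ^ e) by ring, pow_mul, hr,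
      one_pow]
  rw [show (diagonal fun _ : I => r * r ^ 3 * (r ^ (3 ^ e) * r ^ (3 ^ e))) = (1 : Matrix I I K) by
    rw [h, diagonal_one]]
  exact Matrix.one_mulVec v

/-- The action of `PSL₂`. -/
noncomputable def rho (e : ℕ) : Matrix.ProjectiveSpecialLinearGroup (Fin 2) K →* AddMonoid.End (I → K) :=
  QuotientGroup.lift _ (act e) fun z hz => act_center z hz

theorem rho_toP (g : SLK) (v : I → K) : rho e (toP g) v = Phi K e g.1 *ᵥ v := rfl

theorem two_ne : (2 : K) ≠ 0 := by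
  intro h
  have h' : ((2 : ℕ) : K) = 0 := by exact_mod_cast h
  rw [CharP.cast_eq_zero_iff K 3] at h'
  norm_num at h'

theorem toP_dvd {x : SLK} {m : ℕ} (h : orderOf x ∣ 2 * m) : orderOf (toP x) ∣ m := by
  apply orderOf_dvd_of_pow_eq_one
  rw [← map_pow]
  refine toP_of_sq _ ?_ two_ne
  rw [← pow_add, ← two_mul, ← orderOf_dvd_iff_pow_eq_one]
  exact h

theorem five_ndvd (he : Even e) : (3 : ℕ) ^ e % 5 = 1 ∨ (3 : ℕ) ^ e % 5 = 4 := by
  obtain ⟨m, rfl⟩ := he
  induction m with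
  | zero => simp
  | succ m ih =>
    rw [show m + 1 + (m + 1) = m + m + 2 by ring, pow_add]
    omega

theorem o_eq_one (he : 1 ≤ e) (hev : Even e) {o : ℕ} (h1 : o ∣ (3 ^ e) ^ 2 - 1 ∨ o ∣ (3 ^ e) ^ 2 + 1)
    (h2 : o ∣ 3 ^ e + 2 ∨ o ∣ 3 ^ e - 2) : o = 1 := by
  have hq : 3 ≤ 3 ^ e := Nat.le_self_pow (by omega) 3
  have h4 : o ∣ (3 ^ e) ^ 2 - 4 := by
    rw [show (4 : ℕ) = 2 ^ 2 from rfl, Nat.sq_sub_sq]
    exact h2.elim (·.mul_right _) (·.mul_left _)
  have h9 : 9 ≤ (3 ^ e) ^ 2 := by nlinarith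
  have h15 : o ∣ 15 := by
    rcases h1 with h | h
    · exact (Nat.dvd_sub h h4).trans (by rw [show (3 ^ e) ^ 2 - 1 - ((3 ^ e) ^ 2 - 4) = 3 by omega]; norm_num)
    · exact (Nat.dvd_sub h h4).trans (by rw [show (3 ^ e) ^ 2 + 1 - ((3 ^ e) ^ 2 - 4) = 5 by omega]; norm_num)
  have hq3 : 3 ^ e % 3 = 0 := Nat.mod_eq_zero_of_dvd (dvd_pow_self 3 (by omega))
  have hq5 := five_ndvd hev
  have n3 : ¬ 3 ∣ o := fun h => by
    rcases h2 with h' | h' <;> have := Nat.mod_eq_zero_of_dvd (h.trans h') <;> omega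
  have n5 : ¬ 5 ∣ o := fun h => by
    rcases h2 with h' | h' <;> have := Nat.mod_eq_zero_of_dvd (h.trans h') <;> omega
  have := Nat.le_of_dvd (by norm_num) h15
  interval_cases o <;> first | rfl | omega

theorem eigen_cases {L : Type*} [Field L] (he : 1 ≤ e) (hev : Even e) {μ : L} (h0 : μ ≠ 0) (h2 : μ ^ 2 ≠ 1)
    (hN : μ ^ ((3 ^ e) ^ 2 - 1) = 1 ∨ μ ^ ((3 ^ e) ^ 2 + 1) = 1) (a : I)
    (h : ![μ, μ⁻¹] a.1.1 * ![μ, μ⁻¹] a.1.2 ^ 3 *
      (![μ, μ⁻¹] a.2.1 ^ (3 ^ e) * ![μ, μ⁻¹] a.2.2 ^ (3 ^ e)) = 1) :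
    μ ^ (2 * (3 ^ e - 1)) = 1 ∨ μ ^ (2 * (3 ^ e + 1)) = 1 := by
  have hq : 3 ≤ 3 ^ e := Nat.le_self_pow (by omega) 3
  have hodd : Odd (3 ^ e) := (show Odd 3 by decide).pow
  have four : μ ^ 4 = 1 → μ ^ (2 * (3 ^ e - 1)) = 1 := by
    intro h4
    obtain ⟨k, hk⟩ := hodd
    rw [show 2 * (3 ^ e - 1) = 4 * k by omega, pow_mul, h4, one_pow]
  have two : μ ^ 2 = 1 → False := h2
  set ν : L := μ ^ (3 ^ e) with hν
  have hν0 : ν ≠ 0 := pow_ne_zero _ h0
  have big : μ ^ (2 * (3 ^ e + 2)) = 1 ∨ μ ^ (2 * (3 ^ e - 2)) = 1 → False := by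
    intro hb
    apply two
    rw [← orderOf_eq_one_iff]
    refine o_eq_one he hev ?_ ?_
    · refine hN.imp (fun h => orderOf_dvd_of_pow_eq_one ?_) (fun h => orderOf_dvd_of_pow_eq_one ?_) <;>
        rw [← pow_mul, mul_comm, pow_mul, h, one_pow]
    · refine hb.imp (fun h => orderOf_dvd_of_pow_eq_one ?_) (fun h => orderOf_dvd_of_pow_eq_one ?_) <;>
        rw [← pow_mul, h]
  have sub2 : ∀ c : ℕ, 1 ≤ c → c ≤ 2 → μ ^ (2 * c) = ν ^ 2 → μ ^ (2 * (3 ^ e - c)) = 1 := by
    intro c hc1 hc hh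
    apply mul_right_cancel₀ (pow_ne_zero (2 * c) h0)
    rw [← pow_add, one_mul, hh, hν, ← pow_mul]
    congr 1
    omega
  have add2 : ∀ c : ℕ, μ ^ (2 * c) * ν ^ 2 = 1 → μ ^ (2 * (3 ^ e + c)) = 1 := by
    intro c hh
    rw [← hh, hν, ← pow_mul, ← pow_add]
    congr 1
    ring
  obtain ⟨⟨i, j⟩, ⟨k, l⟩⟩ := a
  fin_cases i <;> fin_cases j <;> fin_cases k <;> fin_cases l <;>
    simp [inv_pow, ← hν] at h <;> field_simp at h
  all_goals first
    | exact Or.inl (four (by linear_combination h))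
    | exact Or.inl (four (by linear_combination -h))
    | exact absurd (show μ ^ 2 = 1 by linear_combination h) h2
    | exact absurd (show μ ^ 2 = 1 by linear_combination -h) h2
    | exact Or.inr (add2 1 (by linear_combination h))
    | exact Or.inr (add2 1 (by linear_combination -h))
    | exact Or.inl (sub2 1 le_rfl (by norm_num) (by linear_combination h))
    | exact Or.inl (sub2 1 le_rfl (by norm_num) (by linear_combination -h))
    | exact (big (Or.inl (add2 2 (by linear_combination h)))).elim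
    | exact (big (Or.inl (add2 2 (by linear_combination -h)))).elim
    | exact (big (Or.inr (sub2 2 (by norm_num) le_rfl (by linear_combination h)))).elim
    | exact (big (Or.inr (sub2 2 (by norm_num) le_rfl (by linear_combination -h)))).elim

include hK in
theorem norm_cases (he : 1 ≤ e) (hev : Even e) (x : PSLK) (v : I → K)
    (hne : Semidirect.norm (rho e) x (orderOf x) v ≠ 0) :
    orderOf x ∣ 3 ∨ orderOf x ∣ 3 ^ e - 1 ∨ orderOf x ∣ 3 ^ e + 1 := by
  classical
  obtain ⟨g, rfl⟩ := toP_surjective x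
  set w := Semidirect.norm (rho e) (toP g) (orderOf (toP g)) v with hw
  have hfix : Phi K e g.1 *ᵥ w = w := (rho_toP g w).symm.trans (Semidirect.fix_norm (rho e) v (toP g))
  obtain ⟨μ, h⟩ := Cfsg.Agent.Lib.Linear.exists_isEigen g
  by_cases h2 : μ ^ 2 = 1
  · exact Or.inl (toP_dvd (orderOf_dvd_of_pow_eq_one (Cfsg.Agent.Lib.Linear.pow_two_mul_char_eq_one 3 h h2)))
  right
  haveI : CharP (AlgebraicClosure K) 3 := charP_of_injective_ringHom (algebraMap K (AlgebraicClosure K)).injective 3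
  have h0 := h.ne_zero
  have hT := h.trace_eq
  set A : Matrix (Fin 2) (Fin 2) (AlgebraicClosure K) := g.1.map (algebraMap K (AlgebraicClosure K)) with hA
  have hd : A 0 0 * A 1 1 - A 0 1 * A 1 0 = 1 := by
    have hdet := g.det_coe
    rw [det_fin_two] at hdet
    simpa [hA] using congrArg (algebraMap K (AlgebraicClosure K)) hdet
  have htr : A 0 0 + A 1 1 = μ + μ⁻¹ := by
    rw [← hT, trace_fin_two, map_add]; rfl
  have hμm : μ * μ⁻¹ = 1 := mul_inv_cancel₀ h0
  have hne' : μ⁻¹ - μ ≠ 0 := fun h' => h2 (by rw [pow_two]; nth_rewrite 2 [← sub_eq_zero.1 h']; exact hμm)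
  obtain ⟨P, hP, hAP⟩ : ∃ P : Matrix (Fin 2) (Fin 2) (AlgebraicClosure K), IsUnit P.det ∧ A * P = P * diagonal ![μ, μ⁻¹] := by
    by_cases hb : A 0 1 = 0
    · have hroot : (A 0 0 - μ) * (A 0 0 - μ⁻¹) = 0 := by
        rw [hb] at hd
        linear_combination A 0 0 * htr - hd + hμm
      rcases mul_eq_zero.1 hroot with ha | ha
      · have ha' : A 0 0 = μ := sub_eq_zero.1 ha
        have he' : A 1 1 = μ⁻¹ := by linear_combination htr - ha'
        refine ⟨!![μ - μ⁻¹, 0; A 1 0, 1], ?_, ?_⟩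
        · rw [det_fin_two, isUnit_iff_ne_zero]; simp
          exact fun h' => hne' (by first | (linear_combination h') | (linear_combination -h'))
        · ext i j
          fin_cases i <;> fin_cases j <;> simp [Matrix.mul_apply, Fin.sum_univ_two, hb, ha', he'] <;> ring
      · have ha' : A 0 0 = μ⁻¹ := sub_eq_zero.1 ha
        have he' : A 1 1 = μ := by linear_combination htr - ha'
        refine ⟨!![0, μ⁻¹ - μ; 1, A 1 0], ?_, ?_⟩
        · rw [det_fin_two, isUnit_iff_ne_zero]; simp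
          exact fun h' => hne' (by first | (linear_combination h') | (linear_combination -h'))
        · ext i j
          fin_cases i <;> fin_cases j <;> simp [Matrix.mul_apply, Fin.sum_univ_two, hb, ha', he'] <;> ring
    · refine ⟨!![A 0 1, A 0 1; μ - A 0 0, μ⁻¹ - A 0 0], ?_, ?_⟩
      · rw [det_fin_two, isUnit_iff_ne_zero]; simp
        intro h'
        exact hne' ((mul_eq_zero.1 (show A 0 1 * (μ⁻¹ - μ) = 0 by linear_combination h')).resolve_left hb)
      · ext i j
        fin_cases i <;> fin_cases j <;> simp [Matrix.mul_apply, Fin.sum_univ_two] <;>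
          first | ring1 | (linear_combination μ * htr - hd + hμm) | (linear_combination μ⁻¹ * htr - hd + hμm)
  set wL : I → (AlgebraicClosure K) := algebraMap K (AlgebraicClosure K) ∘ w
  have hfixL : Phi (AlgebraicClosure K) e A *ᵥ wL = wL := by
    rw [hA, ← Phi_map]
    funext a
    have := congrFun hfix a
    simp only [Matrix.mulVec, dotProduct] at this ⊢
    simp only [wL, Function.comp, Matrix.map_apply, ← map_mul, ← map_sum, this]
  have hinv : Phi (AlgebraicClosure K) e P * Phi (AlgebraicClosure K) e P⁻¹ = 1 := by rw [← Phi_mul, Matrix.mul_nonsing_inv _ hP, Phi_one]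
  have hinv' : Phi (AlgebraicClosure K) e P⁻¹ * Phi (AlgebraicClosure K) e P = 1 := by rw [← Phi_mul, Matrix.nonsing_inv_mul _ hP, Phi_one]
  have hconj : Phi (AlgebraicClosure K) e (diagonal ![μ, μ⁻¹]) *ᵥ (Phi (AlgebraicClosure K) e P⁻¹ *ᵥ wL) = Phi (AlgebraicClosure K) e P⁻¹ *ᵥ wL := by
    have hD : P⁻¹ * A = diagonal ![μ, μ⁻¹] * P⁻¹ := by
      calc P⁻¹ * A = P⁻¹ * (A * P) * P⁻¹ := by rw [Matrix.mul_assoc, Matrix.mul_assoc, Matrix.mul_nonsing_inv _ hP, Matrix.mul_one]
        _ = _ := by rw [hAP, ← Matrix.mul_assoc, Matrix.nonsing_inv_mul _ hP, Matrix.one_mul]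
    rw [Matrix.mulVec_mulVec, ← Phi_mul, ← hD, Phi_mul, ← Matrix.mulVec_mulVec, hfixL]
  set u := Phi (AlgebraicClosure K) e P⁻¹ *ᵥ wL with hu
  obtain ⟨a, ha⟩ : ∃ a, u a ≠ 0 := by
    by_contra hall
    push Not at hall
    apply hne
    have : wL = 0 := by
      rw [← Matrix.one_mulVec wL, ← hinv, ← Matrix.mulVec_mulVec, ← hu, show u = 0 from funext hall,
        Matrix.mulVec_zero]
    funext b
    exact (algebraMap K (AlgebraicClosure K)).injective ((congrFun this b).trans (map_zero _).symm)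
  have hdiag := congrFun hconj a
  rw [Phi_diag, Matrix.mulVec_diagonal] at hdiag
  have hone := (mul_eq_right₀ ha).1 hdiag
  have hpos : 1 ≤ (3 ^ e) ^ 2 := Nat.one_le_pow _ _ (Nat.pow_pos (by norm_num))
  have hN : μ ^ ((3 ^ e) ^ 2 - 1) = 1 ∨ μ ^ ((3 ^ e) ^ 2 + 1) = 1 := by
    have hc := h.pow_card
    rw [hK, mul_comm 2 e, pow_mul] at hc
    rcases hc with hc | hc
    · left
      rw [← mul_left_inj' h0, ← pow_succ, Nat.sub_add_cancel hpos, hc, one_mul]
    · right
      rw [pow_succ, hc, inv_mul_cancel₀ h0]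
  refine (eigen_cases he hev h0 h2 hN a hone).imp (fun h' => toP_dvd ?_) (fun h' => toP_dvd ?_) <;>
    rw [Cfsg.Agent.Lib.Linear.orderOf_eq_orderOf_eigen h h2] <;> exact orderOf_dvd_of_pow_eq_one h'

theorem three_smul_zero (v : I → K) : 3 • v = 0 := funext fun a => by
  show 3 • v a = 0
  rw [nsmul_eq_mul, show ((3 : ℕ) : K) = 0 from CharP.cast_eq_zero K 3, zero_mul]

include hK in
theorem range_orderOf (he : 1 ≤ e) (hev : Even e) :
    Set.range (orderOf : Ext (rho (K := K) e) → ℕ) = PSp4.spec 3 (3 ^ e) := by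
  classical
  haveI : Fact (Nat.Prime 3) := ⟨Nat.prime_three⟩
  have hodd : Odd ((3 : ℕ) ^ e) := (show Odd 3 by decide).pow
  have hX := RecogThree.PSL2Orders.range_orderOf (F := K) 3
  rw [hK, mul_comm 2 e, pow_mul] at hX
  rw [show RecogThree.PSL2Orders.dd ((3 ^ e) ^ 2) = 2 from
    if_neg (fun h => (Nat.not_even_iff_odd.2 hodd.pow) (even_iff_two_dvd.2 h))] at hX
  have hdd : PSp4.dd (3 ^ e) = 2 := if_neg (fun h => (Nat.not_even_iff_odd.2 hodd) (even_iff_two_dvd.2 h))
  have hsp : PSp4.spec 3 (3 ^ e) = {m | m ∣ ((3 ^ e) ^ 2 + 1) / 2 ∨ m ∣ ((3 ^ e) ^ 2 - 1) / 2 ∨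
      m ∣ 3 * (3 ^ e + 1) ∨ m ∣ 3 * (3 ^ e - 1) ∨ m ∣ 9} := by
    unfold PSp4.spec
    rw [hdd]
    ext m
    simp
  rw [hsp]
  have hdiv : ∀ (y : Ext (rho (K := K) e)) (m : ℕ), m ∣ orderOf y →
      m ∈ Set.range (orderOf : Ext (rho (K := K) e) → ℕ) :=
    fun y m hm => PSp4.mem_range_of_dvd y hm
  have hiff := Semidirect.mem_range_orderOf (rho (K := K) e) Nat.prime_three three_smul_zero
  ext m
  constructor
  · intro hm
    rcases (hiff m).1 hm with h | ⟨x, v, hv, rfl⟩
    · rw [hX] at h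
      rcases h with h | h | h
      exacts [Or.inr (Or.inr (Or.inr (Or.inr (h.trans (by norm_num))))), Or.inr (Or.inl h), Or.inl h]
    · rcases norm_cases hK he hev x v hv with h | h | h
      · exact Or.inr (Or.inr (Or.inr (Or.inr (mul_dvd_mul_right h 3))))
      · exact Or.inr (Or.inr (Or.inr (Or.inl (by rw [mul_comm 3]; exact mul_dvd_mul_right h 3))))
      · exact Or.inr (Or.inr (Or.inl (by rw [mul_comm 3]; exact mul_dvd_mul_right h 3)))
  · obtain ⟨g, hg⟩ := IsCyclic.exists_ofOrder_eq_natCard (α := Kˣ)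
    rw [Nat.card_eq_fintype_card, Fintype.card_units, hK, mul_comm 2 e, pow_mul] at hg
    replace hg : orderOf g = (3 ^ e + 1) * (3 ^ e - 1) := by rw [hg, ← Nat.sq_sub_sq, one_pow]
    have hl : ∀ n, 1 ≤ n → 2 * n ∣ (3 ^ e + 1) * (3 ^ e - 1) → ∃ l : Kˣ, orderOf l = 2 * n := by
      intro n hn hd
      obtain ⟨c, hc⟩ := hd
      refine ⟨g ^ c, ?_⟩
      have hpos : 0 < orderOf g := orderOf_pos _
      have hc0 : 0 < c := Nat.pos_of_ne_zero fun h => by rw [hg, hc, h, mul_zero] at hpos; omega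
      rw [orderOf_pow, hg, hc, Nat.gcd_eq_right (Dvd.intro_left _ rfl), Nat.mul_div_cancel _ hc0]
    have key : ∀ (l : Kˣ) (n : ℕ) (a : I), 1 ≤ n → orderOf l = 2 * n → ¬ 3 ∣ n →
        ![(l : K), ((l⁻¹ : Kˣ) : K)] a.1.1 * ![(l : K), ((l⁻¹ : Kˣ) : K)] a.1.2 ^ 3 *
          (![(l : K), ((l⁻¹ : Kˣ) : K)] a.2.1 ^ (3 ^ e) * ![(l : K), ((l⁻¹ : Kˣ) : K)] a.2.2 ^ (3 ^ e)) = 1 →
        ∃ y : Ext (rho (K := K) e), orderOf y = n * 3 := by
      intro l n a hn hln h3 hone
      have hord : orderOf (toP (dia l)) = n := by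
        rw [orderOf_toP_dia, orderOf_pow_of_dvd two_ne_zero (hln ▸ dvd_mul_right 2 n), hln,
          Nat.mul_div_cancel_left _ (by norm_num)]
      have hfix : rho e (toP (dia l)) (Pi.single a 1) = Pi.single a 1 := by
        rw [rho_toP]
        have hdia : (dia l).1 = diagonal ![(l : K), ((l⁻¹ : Kˣ) : K)] := by
          ext i j
          fin_cases i <;> fin_cases j <;> simp [dia]
        rw [hdia, Phi_diag]
        funext b
        rw [Matrix.mulVec_diagonal]
        by_cases hb : b = a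
        · subst hb; rw [hone, one_mul]
        · simp [hb]
      have hfp : ∀ i, rho e (toP (dia l) ^ i) (Pi.single a 1) = (Pi.single a 1 : I → K) := by
        intro i
        induction i with
        | zero => rw [pow_zero, map_one]; rfl
        | succ i ih =>
          rw [pow_succ, map_mul]
          show rho e (toP (dia l) ^ i) (rho e (toP (dia l)) (Pi.single a 1)) = _
          rw [hfix, ih]
      refine (hiff _).2 (Or.inr ⟨toP (dia l), Pi.single a 1, ?_, by rw [hord]⟩)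
      simp only [Semidirect.norm, hfp, Finset.sum_const, Finset.card_range, hord]
      intro h0
      have h0' := congrFun h0 a
      simp [Pi.single_eq_same, CharP.cast_eq_zero_iff K 3] at h0'
      exact h3 h0'
    have hq3 : 3 ∣ 3 ^ e := dvd_pow_self 3 (by omega)
    have hq1 : 3 ≤ 3 ^ e := Nat.le_self_pow (by omega) 3
    obtain ⟨k, hk⟩ := hodd
    rintro (h | h | h | h | h)
    · obtain ⟨x, hx⟩ : ((3 ^ e) ^ 2 + 1) / 2 ∈ Set.range (orderOf : PSLK → ℕ) := by
        rw [hX]; exact Or.inr (Or.inr dvd_rfl)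
      refine hdiv (SemidirectProduct.inr x) m ?_
      rw [orderOf_injective _ SemidirectProduct.inr_injective, hx]
      exact h
    · obtain ⟨x, hx⟩ : ((3 ^ e) ^ 2 - 1) / 2 ∈ Set.range (orderOf : PSLK → ℕ) := by
        rw [hX]; exact Or.inr (Or.inl dvd_rfl)
      refine hdiv (SemidirectProduct.inr x) m ?_
      rw [orderOf_injective _ SemidirectProduct.inr_injective, hx]
      exact h
    · obtain ⟨l, hl'⟩ := hl (3 ^ e + 1) (by omega) (by rw [mul_comm 2]; exact mul_dvd_mul_left _ (by omega))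
      have hp : (l : K) ^ (2 * (3 ^ e + 1)) = 1 := by
        rw [← Units.val_pow_eq_pow_val, ← hl', pow_orderOf_eq_one, Units.val_one]
      obtain ⟨y, hy⟩ := key l _ ((1, 0), (0, 0)) (by omega) hl' (by omega) (by
        simp
        have hl0 := l.ne_zero
        field_simp
        linear_combination hp)
      exact hdiv y m (by rw [hy, mul_comm]; exact h)
    · obtain ⟨l, hl'⟩ := hl (3 ^ e - 1) (by omega) (by exact mul_dvd_mul (by omega) dvd_rfl)
      have hp : (l : K) ^ (2 * 3 ^ e) = (l : K) ^ 2 := by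
        rw [show 2 * 3 ^ e = 2 * (3 ^ e - 1) + 2 by omega, pow_add, ← Units.val_pow_eq_pow_val l (2 * (3 ^ e - 1)),
          ← hl', pow_orderOf_eq_one, Units.val_one, one_mul]
      obtain ⟨y, hy⟩ := key l _ ((0, 1), (0, 0)) (by omega) hl' (by omega) (by
        simp
        have hl0 := l.ne_zero
        field_simp
        linear_combination hp)
      exact hdiv y m (by rw [hy, mul_comm]; exact h)
    · let u : SLK := ⟨!![1, 1; 0, 1], by simp [det_fin_two]⟩
      have hpow : ∀ i : ℕ, ((u ^ i : SLK) : Matrix (Fin 2) (Fin 2) K) = !![1, (i : K); 0, 1] := by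
        intro i
        induction i with
        | zero => ext a b; fin_cases a <;> fin_cases b <;> simp
        | succ i ih =>
          rw [pow_succ, Matrix.SpecialLinearGroup.coe_mul, ih]
          ext a b
          fin_cases a <;> fin_cases b <;> simp [u, Matrix.mul_apply, Fin.sum_univ_two, add_comm]
      have hu : orderOf (toP u) = 3 := by
        refine orderOf_eq_prime ?_ (fun h => ?_)
        · rw [← map_pow]
          have : u ^ 3 = 1 := Subtype.ext (by
            rw [hpow, CharP.cast_eq_zero K 3]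
            ext a b; fin_cases a <;> fin_cases b <;> simp)
          rw [this, map_one]
        · rw [toP_eq_one_iff, Matrix.SpecialLinearGroup.mem_center_iff] at h
          obtain ⟨r, -, hr⟩ := h
          have := congrFun (congrFun hr 0) 1
          simp [u] at this
      have hne : Semidirect.norm (rho e) (toP u) (orderOf (toP u)) (Pi.single ((1, 1), (1, 1)) 1 : I → K) ≠ 0 := by
        intro h0
        have h1 := congrFun h0 ((0, 0), (0, 0))
        simp only [Semidirect.norm, hu, Finset.sum_range_succ, Finset.sum_range_zero, zero_add, Pi.add_apply,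
          ← map_pow, rho_toP, hpow, Matrix.mulVec_single_one] at h1
        simp [Phi_apply] at h1
        have e3 : (3 : K) = 0 := by exact_mod_cast CharP.cast_eq_zero K 3
        have e2 : (2 : K) = -1 := by linear_combination e3
        rw [e2, (hk ▸ ⟨k, rfl⟩ : Odd (3 ^ e)).neg_one_pow] at h1
        exact two_ne (by linear_combination h1)
      obtain ⟨y, hy⟩ := (hiff _).2 (Or.inr ⟨toP u, _, hne, rfl⟩)
      exact hdiv y m (by rw [hy, hu]; exact h)

end Cfsg.Agent.Lib.SpectrumExt.TensorThree
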