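import Mathlib
import Cfsg.Agent.Lib.SpectrumExt.Semidirect

/-! A solvable group with the element orders of `PSU₃(3)`. -/

namespace Cfsg.Agent.Lib.SpectrumExt.UThreeThree

open Cfsg.Agent.Lib.SpectrumExt.Semidirect

/-- The action of `C8` on `C3`. -/
def rho0 : Multiplicative (ZMod 8) →* AddMonoid.End (ZMod 3) where
  toFun k := AddMonoidHom.mulLeft ((2 : ZMod 3) ^ (Multiplicative.toAdd k).val)
  map_one' := by
    refine AddMonoidHom.ext fun a => ?_
    show (2 : ZMod 3) ^ (0 : ZMod 8).val * a = a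
    rw [ZMod.val_zero, pow_zero, one_mul]
  map_mul' j k := by
    refine AddMonoidHom.ext fun a => ?_
    show (2 : ZMod 3) ^ (Multiplicative.toAdd j + Multiplicative.toAdd k).val * a =
      (2 : ZMod 3) ^ (Multiplicative.toAdd j).val * ((2 : ZMod 3) ^ (Multiplicative.toAdd k).val * a)
    rw [← mul_assoc, ← pow_add]
    congr 1
    generalize Multiplicative.toAdd j = j'
    generalize Multiplicative.toAdd k = k'
    revert j' k'
    decide +kernel

/-- `C3 ⋊ C8`. -/
abbrev X := Ext rho0

/-- An element from its coordinates. -/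
def el (a : ZMod 3) (k : ZMod 8) : X := ⟨Multiplicative.ofAdd a, Multiplicative.ofAdd k⟩

/-- The central involution. -/
def z : X := el 0 4

theorem exists_el (x : X) : ∃ a k, el a k = x :=
  ⟨Multiplicative.toAdd x.left, Multiplicative.toAdd x.right, rfl⟩

theorem el_inj {a b : ZMod 3} {j k : ZMod 8} (h : el a j = el b k) : a = b ∧ j = k :=
  ⟨congrArg (fun x : X => Multiplicative.toAdd x.left) h, congrArg (fun x : X => Multiplicative.toAdd x.right) h⟩

theorem el_zero : el 0 0 = 1 := rfl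

theorem el_mul (a b : ZMod 3) (j k : ZMod 8) :
    el a j * el b k = el (a + 2 ^ j.val * b) (j + k) := rfl

theorem z_comm (x : X) : z * x = x * z := by
  obtain ⟨a, k, rfl⟩ := exists_el x
  rw [z, el_mul, el_mul, add_comm 4 k]
  congr 1
  rw [mul_zero, add_zero, zero_add, show (4 : ZMod 8).val = 4 from rfl,
    show (2 : ZMod 3) ^ 4 = 1 by decide, one_mul]

theorem el_pow_zero (a : ZMod 3) (i : ℕ) : el a 0 ^ i = el (i * a) 0 := by
  induction i with
  | zero => rw [pow_zero, Nat.cast_zero, zero_mul, el_zero]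
  | succ i ih =>
    rw [pow_succ, ih, el_mul, add_zero, ZMod.val_zero, pow_zero, one_mul, Nat.cast_add, Nat.cast_one,
      add_mul, one_mul]

theorem right_pow (a : ZMod 3) (k : ZMod 8) (i : ℕ) : ∃ b, el a k ^ i = el b (i * k) := by
  induction i with
  | zero => exact ⟨0, by rw [pow_zero, Nat.cast_zero, zero_mul, el_zero]⟩
  | succ i ih =>
    obtain ⟨b, hb⟩ := ih
    exact ⟨_, by rw [pow_succ, hb, el_mul, Nat.cast_add, Nat.cast_one, add_mul, one_mul]⟩

theorem exists_pow (x : X) (hx : x ≠ 1) :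
    (∃ n : ℕ, x ^ n = z) ∨ (∃ n : ℕ, ∃ b : ZMod 3, b ≠ 0 ∧ x ^ n = el b 0) := by
  obtain ⟨a, k, rfl⟩ := exists_el x
  by_cases hk : k = 0
  · subst hk
    exact Or.inr ⟨1, a, fun h => hx (by rw [h, el_zero]), pow_one _⟩
  · obtain ⟨n, -, hn⟩ : ∃ n ∈ Finset.range 8, ((n : ℕ) : ZMod 8) * k = 4 :=
      (show ∀ k : ZMod 8, k ≠ 0 → ∃ n ∈ Finset.range 8, ((n : ℕ) : ZMod 8) * k = 4 by decide +kernel) k hk
    obtain ⟨b, hb⟩ := right_pow a k n
    rw [hn] at hb
    by_cases hb0 : b = 0
    · exact Or.inl ⟨n, by rw [hb, hb0]; rfl⟩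
    · refine Or.inr ⟨n * 2, b + 2 ^ (4 : ZMod 8).val * b, ?_, by rw [pow_mul, hb, pow_two, el_mul]; rfl⟩
      revert hb0
      clear hb
      revert b
      decide +kernel

/-- The module. -/
def mod : AddSubgroup (X → ZMod 7) where
  carrier := {f | (∀ a, f (z * a) = -f a) ∧
    ∀ d a, orderOf d = 3 → ∑ i ∈ Finset.range 3, f (d ^ i * a) = 0}
  zero_mem' := ⟨fun a => by simp, fun d a _ => by simp⟩
  add_mem' {f g} hf hg := ⟨fun a => by simp only [Pi.add_apply, hf.1, hg.1, neg_add],
    fun d a hd => by simp only [Pi.add_apply, Finset.sum_add_distrib, hf.2 d a hd, hg.2 d a hd, add_zero]⟩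
  neg_mem' {f} hf := ⟨fun a => by simp only [Pi.neg_apply, hf.1],
    fun d a hd => by simp only [Pi.neg_apply, Finset.sum_neg_distrib, hf.2 d a hd, neg_zero]⟩

theorem translate_mem (x : X) {f : X → ZMod 7} (hf : f ∈ mod) : (fun a => f (x⁻¹ * a)) ∈ mod := by
  refine ⟨fun a => ?_, fun d a hd => ?_⟩
  · show f (x⁻¹ * (z * a)) = -f (x⁻¹ * a)
    rw [← mul_assoc, ← z_comm, mul_assoc, hf.1]
  · have h := hf.2 (MulAut.conj x⁻¹ d) (x⁻¹ * a)
      ((orderOf_injective (MulAut.conj x⁻¹).toMonoidHom (MulAut.conj x⁻¹).injective d).trans hd)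
    rw [← h]
    refine Finset.sum_congr rfl fun i _ => ?_
    rw [← map_pow, MulAut.conj_apply]
    congr 1
    group

/-- Left translation. -/
def rho : X →* AddMonoid.End mod where
  toFun x :=
    { toFun := fun f => ⟨_, translate_mem x f.2⟩
      map_zero' := rfl
      map_add' := fun _ _ => rfl }
  map_one' := by
    refine AddMonoidHom.ext fun f => Subtype.ext (funext fun a => ?_)
    show (f : X → ZMod 7) (1⁻¹ * a) = (f : X → ZMod 7) a
    rw [inv_one, one_mul]
  map_mul' x y := by
    refine AddMonoidHom.ext fun f => Subtype.ext (funext fun a => ?_)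
    show (f : X → ZMod 7) ((x * y)⁻¹ * a) = (f : X → ZMod 7) (y⁻¹ * (x⁻¹ * a))
    rw [_root_.mul_inv_rev, mul_assoc]

theorem seven_smul_eq_zero (f : mod) : 7 • f = 0 :=
  Subtype.ext (funext fun a => by
    show 7 • (f : X → ZMod 7) a = 0
    rw [nsmul_eq_mul, show ((7 : ℕ) : ZMod 7) = 0 from ZMod.natCast_self 7, zero_mul])

theorem orderOf_el_zero {b : ZMod 3} (hb : b ≠ 0) : orderOf (el b 0) = 3 := by
  haveI : Fact (Nat.Prime 3) := ⟨by norm_num⟩
  refine orderOf_eq_prime ?_ fun h => hb ?_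
  · rw [el_pow_zero, ZMod.natCast_self, zero_mul, el_zero]
  · rw [← el_zero] at h; exact (el_inj h).1

theorem fpf (x : X) (hx : x ≠ 1) (f : mod) (hf : rho x f = f) : f = 0 := by
  have h1 : ∀ b, (f : X → ZMod 7) (x * b) = (f : X → ZMod 7) b := fun b => by
    have h := congrArg (fun g : mod => (g : X → ZMod 7) (x * b)) hf
    change (f : X → ZMod 7) (x⁻¹ * (x * b)) = (f : X → ZMod 7) (x * b) at h
    rw [inv_mul_cancel_left] at h
    exact h.symm
  have h2 : ∀ n b, (f : X → ZMod 7) (x ^ n * b) = (f : X → ZMod 7) b := by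
    intro n
    induction n with
    | zero => intro b; rw [pow_zero, one_mul]
    | succ i ih => intro b; rw [pow_succ, mul_assoc, ih, h1]
  refine Subtype.ext (funext fun a => ?_)
  rcases exists_pow x hx with ⟨n, hn⟩ | ⟨n, b, hb, hn⟩
  · have h := h2 n a
    rw [hn, f.2.1] at h
    exact (show ∀ t : ZMod 7, -t = t → t = 0 by decide) _ h
  · have h := f.2.2 (el b 0) a (orderOf_el_zero hb)
    rw [← hn] at h
    simp only [← pow_mul, h2, Finset.sum_const, Finset.card_range, nsmul_eq_mul] at h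
    exact (show ∀ t : ZMod 7, ((3 : ℕ) : ZMod 7) * t = 0 → t = 0 by decide) _ h

/-- A nonzero vector. -/
def wit (x : X) : ZMod 7 :=
  ((if Multiplicative.toAdd x.left = 0 then 1 else 0) - (if Multiplicative.toAdd x.left = 1 then 1 else 0)) *
    (if (Multiplicative.toAdd x.right).val < 4 then 1 else -1)

theorem wit_el (a : ZMod 3) (k : ZMod 8) : wit (el a k) =
    ((if a = 0 then 1 else 0) - (if a = 1 then 1 else 0)) * (if k.val < 4 then 1 else -1) := rfl

theorem wit_mem : wit ∈ mod := by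
  refine ⟨fun x => ?_, fun d x hd => ?_⟩
  · obtain ⟨a, k, rfl⟩ := exists_el x
    rw [z, el_mul, wit_el, wit_el]
    revert a k
    decide +kernel
  · obtain ⟨b, j, rfl⟩ := exists_el d
    have hj : j = 0 := by
      obtain ⟨c, hc⟩ := right_pow b j 3
      rw [(congrArg (el b j ^ ·) hd).symm.trans (pow_orderOf_eq_one _), ← el_zero] at hc
      have h := (el_inj hc).2.symm
      revert h
      clear hd hc
      revert j
      decide +kernel
    subst hj
    obtain ⟨a, k, rfl⟩ := exists_el x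
    have hb : b ≠ 0 := by
      intro hb
      rw [hb, el_zero, orderOf_one] at hd
      omega
    simp only [el_pow_zero, el_mul, wit_el, ZMod.val_zero, pow_zero, one_mul, zero_add]
    clear hd
    revert b a k
    decide +kernel

instance : Nontrivial mod :=
  ⟨⟨⟨wit, wit_mem⟩, 0, fun h => by
    have h' := congrArg (fun g : mod => (g : X → ZMod 7) (el 0 0)) h
    revert h'
    show wit (el 0 0) = 0 → False
    decide +kernel⟩⟩

theorem range_orderOf_X : Set.range (orderOf : X → ℕ) = {m | m ∣ 8 ∨ m ∣ 12} := by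
  ext m
  constructor
  · intro hm
    obtain ⟨x, rfl⟩ := hm
    obtain ⟨a, k, rfl⟩ := exists_el x
    have h : el a k ^ 8 = 1 ∨ el a k ^ 12 = 1 := by
      by_cases hk : (2 : ZMod 3) ^ k.val = 1
      · right
        have e : el a k ^ 12 = ((el a k ^ 2) ^ 2) ^ 3 := by rw [← pow_mul, ← pow_mul]
        rw [e, pow_two (el a k), el_mul, pow_two, el_mul,
          (show ∀ k : ZMod 8, (2 : ZMod 3) ^ k.val = 1 → k + k + (k + k) = 0 by decide +kernel) k hk,
          el_pow_zero, ZMod.natCast_self, zero_mul, el_zero]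
      · left
        have e8 : el a k ^ 8 = ((el a k ^ 2) ^ 2) ^ 2 := by rw [← pow_mul, ← pow_mul]
        rw [e8]
        simp only [pow_two, el_mul, ← el_zero]
        congr 1 <;> clear e8
        · revert hk
          revert a k
          decide +kernel
        · revert hk
          revert k
          decide +kernel
    exact h.imp orderOf_dvd_of_pow_eq_one orderOf_dvd_of_pow_eq_one
  · have hdiv : ∀ (y : X) (m : ℕ), m ∣ orderOf y → m ∈ Set.range (orderOf : X → ℕ) := fun y m hm =>
      let ⟨c, hc⟩ := hm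
      ⟨y ^ c, by
        have hpos : 0 < orderOf y := orderOf_pos _
        have hc0 : 0 < c := Nat.pos_of_ne_zero fun h => by rw [h, mul_zero] at hc; omega
        rw [orderOf_pow, hc, Nat.gcd_eq_right (Dvd.intro_left m rfl), Nat.mul_div_cancel _ hc0]⟩
    haveI : Fact (Nat.Prime 2) := ⟨Nat.prime_two⟩
    have h8 : orderOf (el 0 1) = 8 := by
      refine orderOf_eq_prime_pow (p := 2) (n := 2) (fun h => ?_) ?_
      · have e4 : el 0 1 ^ (2 ^ 2) = (el 0 1 ^ 2) ^ 2 := by rw [← pow_mul]; rfl
        rw [e4] at h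
        simp only [pow_two, el_mul, ← el_zero] at h
        exact absurd (el_inj h).2 (by decide)
      · have e8 : el 0 1 ^ (2 ^ (2 + 1)) = ((el 0 1 ^ 2) ^ 2) ^ 2 := by rw [← pow_mul, ← pow_mul]; rfl
        rw [e8]
        simp only [pow_two, el_mul, ← el_zero]
        congr 1
    have h10 : orderOf (el 0 2 * el 1 0) = 12 := by
      have hc : Commute (el 0 2) (el 1 0) := by
        rw [commute_iff_eq, el_mul, el_mul]
        congr 1
      have h2 : orderOf (el 0 2) = 4 := by
        refine orderOf_eq_prime_pow (p := 2) (n := 1) (fun h => ?_) ?_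
        · rw [pow_one, pow_two, el_mul, ← el_zero] at h
          exact absurd (el_inj h).2 (by decide)
        · have e4 : el 0 2 ^ (2 ^ (1 + 1)) = (el 0 2 ^ 2) ^ 2 := by rw [← pow_mul]; rfl
          rw [e4]
          simp only [pow_two, el_mul, ← el_zero]
          congr 1
      rw [hc.orderOf_mul_eq_mul_orderOf_of_coprime (by
        rw [h2, orderOf_el_zero (b := 1) (by decide)]; norm_num), h2, orderOf_el_zero (b := 1) (by decide)]
    rintro (h | h)
    · exact hdiv _ m (h8 ▸ h)
    · exact hdiv _ m (h10 ▸ h)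

theorem range_orderOf_ext :
    Set.range (orderOf : Ext rho → ℕ) = {m | m ∣ 8 ∨ m ∣ 12} ∪ {7} := by
  rw [Semidirect.range_orderOf_of_fpf _ (by norm_num) seven_smul_eq_zero fpf, range_orderOf_X]

end Cfsg.Agent.Lib.SpectrumExt.UThreeThree
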